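import Mathlib

/-! Finite presentations: bookkeeping lemmas (Tietze moves). -/

set_option autoImplicit false

namespace Cfsg.Agent.Pres

open Subgroup Function

variable {H : Type*} [Group H] {ι κ : Type}

/-- `f` generates `H`, and at most `m` relations define `H` on `f`. -/
def PresOn (f : ι → H) (m : ℕ) : Prop :=
  closure (Set.range f) = ⊤ ∧ ∃ rels : Finset (FreeGroup ι), rels.card ≤ m ∧
    normalClosure (rels : Set (FreeGroup ι)) = (FreeGroup.lift f).ker

theorem PresOn.mono {f : ι → H} {m n : ℕ} (h : PresOn f m) (hmn : m ≤ n) : PresOn f n :=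
  let ⟨h1, r, h2, h3⟩ := h
  ⟨h1, r, h2.trans hmn, h3⟩

theorem lift_surj {f : ι → H} (h : closure (Set.range f) = ⊤) : Surjective (FreeGroup.lift f) := by
  rwa [← MonoidHom.range_eq_top, FreeGroup.range_lift_eq_closure]

theorem PresOn.iso {f : ι → H} {m : ℕ} (h : PresOn f m) : ∃ rels : Finset (FreeGroup ι), rels.card ≤ m ∧
    ∃ e : PresentedGroup (rels : Set (FreeGroup ι)) ≃* H, ∀ i, e (PresentedGroup.of i) = f i := by
  obtain ⟨h1, rels, h2, h3⟩ := h
  refine ⟨rels, h2, (QuotientGroup.quotientMulEquivOfEq h3).trans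
    (QuotientGroup.quotientKerEquivOfSurjective _ (lift_surj h1)), fun i => ?_⟩
  change FreeGroup.lift f (FreeGroup.of i) = f i
  simp

theorem PresOn.iso' {f : ι → H} {m : ℕ} (h : PresOn f m) : ∃ rels : Finset (FreeGroup ι), rels.card ≤ m ∧
    Nonempty (PresentedGroup (rels : Set (FreeGroup ι)) ≃* H) :=
  let ⟨r, h1, e, _⟩ := h.iso
  ⟨r, h1, ⟨e⟩⟩

theorem map_lift {K : Type*} [Group K] (φ : H →* K) (f : ι → H) (x : FreeGroup ι) :
    φ (FreeGroup.lift f x) = FreeGroup.lift (φ ∘ f) x := by
  have : φ.comp (FreeGroup.lift f) = FreeGroup.lift (φ ∘ f) := FreeGroup.ext_hom _ _ fun i => by simp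
  exact DFunLike.congr_fun this x

theorem ker_lift_comp {K : Type*} [Group K] {φ : H →* K} (hφ : Injective φ) (f : ι → H) :
    (FreeGroup.lift (φ ∘ f)).ker = (FreeGroup.lift f).ker := by
  ext x
  rw [MonoidHom.mem_ker, MonoidHom.mem_ker, ← map_lift, map_eq_one_iff φ hφ]

theorem PresOn.congr {K : Type*} [Group K] {f : ι → H} {m : ℕ} (h : PresOn f m) (e : H ≃* K) :
    PresOn (e ∘ f) m := by
  obtain ⟨h1, rels, h2, h3⟩ := h
  refine ⟨?_, rels, h2, h3.trans (ker_lift_comp (φ := e.toMonoidHom) e.injective f).symm⟩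
  have := congrArg (Subgroup.map e.toMonoidHom) h1
  rw [MonoidHom.map_closure, ← Set.range_comp, map_top_of_surjective _ e.surjective] at this
  exact this

/-- The basic way to establish a presentation. -/
theorem presOn_of_fun {m : ℕ} (f : ι → H) (hf : closure (Set.range f) = ⊤) (ρ : Fin m → FreeGroup ι)
    (h0 : ∀ i, FreeGroup.lift f (ρ i) = 1)
    (h : ∀ (G : Type) [Group G] (g : ι → G), closure (Set.range g) = ⊤ →
      (∀ i, FreeGroup.lift g (ρ i) = 1) → ∀ π : G →* H, (∀ i, π (g i) = f i) → Injective π) :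
    PresOn f m := by
  classical
  let rels : Finset (FreeGroup ι) := Finset.univ.image ρ
  have h1 : ∀ r ∈ (rels : Set (FreeGroup ι)), FreeGroup.lift f r = 1 := by
    intro r hr
    obtain ⟨i, -, rfl⟩ := Finset.mem_image.mp hr
    exact h0 i
  refine ⟨hf, rels, Finset.card_image_le.trans (by simp), le_antisymm
    (PresentedGroup.closure_rels_subset_ker h1) fun x hx => ?_⟩
  have h2 : ∀ x, FreeGroup.lift (PresentedGroup.of (rels := (rels : Set (FreeGroup ι)))) x =
      PresentedGroup.mk _ x := fun x => by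
    have : FreeGroup.lift (PresentedGroup.of (rels := (rels : Set (FreeGroup ι)))) =
      PresentedGroup.mk _ := FreeGroup.ext_hom _ _ fun i => by simp [PresentedGroup.of]
    exact DFunLike.congr_fun this x
  have h3 := h (PresentedGroup (rels : Set (FreeGroup ι))) PresentedGroup.of
    (PresentedGroup.closure_range_of _) (fun i => by
      rw [h2]; exact PresentedGroup.one_of_mem (Finset.mem_image.mpr ⟨i, Finset.mem_univ _, rfl⟩))
    (PresentedGroup.toGroup h1) (fun i => PresentedGroup.toGroup.of h1)
  rw [← PresentedGroup.mk_eq_one_iff]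
  apply h3
  rw [map_one]
  exact hx

/-- A presentation gives homomorphisms. -/
theorem PresOn.exists_rels {f : ι → H} {m : ℕ} (h : PresOn f m) : ∃ ρ : Fin m → FreeGroup ι,
    (∀ i, FreeGroup.lift f (ρ i) = 1) ∧ ∀ (G : Type) [Group G] (g : ι → G),
      (∀ i, FreeGroup.lift g (ρ i) = 1) → ∃ φ : H →* G, ∀ i, φ (f i) = g i := by
  obtain ⟨h1, rels, h2, h3⟩ := h
  let e := rels.equivFin
  let ρ : Fin m → FreeGroup ι := fun i => if h : i.val < rels.card then (e.symm ⟨i, h⟩).1 else 1
  have hρ : ∀ r ∈ rels, ∃ i, ρ i = r := fun r hr =>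
    ⟨⟨e ⟨r, hr⟩, (e ⟨r, hr⟩).2.trans_le h2⟩, by simp [ρ]⟩
  refine ⟨ρ, fun i => ?_, fun G _ g hg => ?_⟩
  · by_cases hi : i.val < rels.card
    · have : ρ i ∈ (FreeGroup.lift f).ker := by
        rw [← h3]
        apply subset_normalClosure
        simp only [ρ, dif_pos hi]
        exact (e.symm ⟨i, hi⟩).2
      exact this
    · simp [ρ, hi]
  · have h4 : (FreeGroup.lift f).ker ≤ (FreeGroup.lift g).ker := by
      rw [← h3]
      refine normalClosure_le_normal fun r hr => ?_
      obtain ⟨i, rfl⟩ := hρ r hr
      exact hg i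
    refine ⟨(FreeGroup.lift f).liftOfSurjective (lift_surj h1) ⟨_, h4⟩, fun i => ?_⟩
    have := MonoidHom.liftOfRightInverse_comp_apply (FreeGroup.lift f) _
      (rightInverse_surjInv (lift_surj h1)) ⟨_, h4⟩ (FreeGroup.of i)
    simpa using this

/-- Tietze move to another generating tuple. -/
theorem PresOn.tietze {f : ι → H} {m : ℕ} (h : PresOn f m) (g : κ → H) (hg : closure (Set.range g) = ⊤)
    (v : ι → FreeGroup κ) (hv : ∀ i, FreeGroup.lift g (v i) = f i)
    (u : κ → FreeGroup ι) (hu : ∀ j, FreeGroup.lift f (u j) = g j)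
    (J : Finset κ) (hJ : ∀ j ∉ J, FreeGroup.lift v (u j) = FreeGroup.of j) : PresOn g (m + J.card) := by
  classical
  obtain ⟨-, rels, h2, h3⟩ := h
  have e1 : ∀ x, FreeGroup.lift g (FreeGroup.lift v x) = FreeGroup.lift f x := fun x => by
    rw [map_lift]; congr 2; exact funext hv
  have e2 : ∀ x, FreeGroup.lift f (FreeGroup.lift u x) = FreeGroup.lift g x := fun x => by
    rw [map_lift]; congr 2; exact funext hu
  refine ⟨hg, rels.image (FreeGroup.lift v) ∪
    J.image (fun j => FreeGroup.lift v (u j) * (FreeGroup.of j)⁻¹), (Finset.card_union_le _ _).trans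
      (Nat.add_le_add (Finset.card_image_le.trans h2) Finset.card_image_le), le_antisymm ?_ ?_⟩
  · refine normalClosure_le_normal fun r hr => ?_
    simp only [Finset.coe_union, Finset.coe_image, Set.mem_union, Set.mem_image, Finset.mem_coe] at hr
    rcases hr with ⟨r, hr, rfl⟩ | ⟨j, -, rfl⟩
    · have : r ∈ (FreeGroup.lift f).ker := h3 ▸ subset_normalClosure hr
      rw [SetLike.mem_coe, MonoidHom.mem_ker, e1]
      exact this
    · rw [SetLike.mem_coe, MonoidHom.mem_ker, map_mul, e1, hu]
      simp
  · intro x hx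
    set N := normalClosure ((rels.image (FreeGroup.lift v) ∪
      J.image (fun j => FreeGroup.lift v (u j) * (FreeGroup.of j)⁻¹) : Finset _) : Set (FreeGroup κ))
    have e3 : (QuotientGroup.mk' N).comp ((FreeGroup.lift v).comp (FreeGroup.lift u)) =
        QuotientGroup.mk' N := FreeGroup.ext_hom _ _ fun j => by
      simp only [MonoidHom.comp_apply, FreeGroup.lift_apply_of]
      by_cases hj : j ∈ J
      · rw [← mul_inv_eq_one, ← map_inv, ← map_mul, QuotientGroup.mk'_apply, QuotientGroup.eq_one_iff]
        exact subset_normalClosure (by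
          simp only [Finset.coe_union, Finset.coe_image, Set.mem_union, Set.mem_image, Finset.mem_coe]
          exact Or.inr ⟨j, hj, rfl⟩)
      · rw [hJ j hj]
    have e4 : FreeGroup.lift u x ∈ normalClosure (rels : Set (FreeGroup ι)) := by
      rw [h3, MonoidHom.mem_ker, e2]; exact hx
    have e5 : normalClosure (rels : Set (FreeGroup ι)) ≤ N.comap (FreeGroup.lift v) :=
      normalClosure_le_normal fun r hr => subset_normalClosure (by
        simp only [Finset.coe_union, Finset.coe_image, Set.mem_union, Set.mem_image, Finset.mem_coe]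
        exact Or.inl ⟨r, hr, rfl⟩)
    rw [← QuotientGroup.eq_one_iff, ← QuotientGroup.mk'_apply, ← e3]
    exact (QuotientGroup.eq_one_iff _).mpr (e5 e4)

/-- any generating tuple: `|κ|` more relations -/
theorem PresOn.any [Fintype κ] {f : ι → H} {m : ℕ} (h : PresOn f m) (g : κ → H)
    (hg : closure (Set.range g) = ⊤) : PresOn g (m + Fintype.card κ) := by
  choose v hv using fun i => lift_surj hg (f i)
  choose u hu using fun j => lift_surj h.1 (g j)
  exact h.tietze g hg v hv u hu Finset.univ (by simp)

/-- a generating subtuple: no more relations -/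
theorem PresOn.sub {f : ι → H} {m : ℕ} (h : PresOn f m) (e : κ → ι) (he : Injective e)
    (hg : closure (Set.range (f ∘ e)) = ⊤) : PresOn (f ∘ e) m := by
  classical
  choose v hv using fun i => lift_surj hg (f i)
  let v' : ι → FreeGroup κ := fun i => if h : ∃ j, e j = i then FreeGroup.of h.choose else v i
  have hv' : ∀ j, v' (e j) = FreeGroup.of j := fun j => by
    have h : ∃ j', e j' = e j := ⟨j, rfl⟩
    simp only [v', dif_pos h]
    rw [he h.choose_spec]
  refine h.tietze (f ∘ e) hg v' (fun i => ?_) (fun j => FreeGroup.of (e j)) (by simp) ∅ (by simp [hv'])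
  by_cases h : ∃ j, e j = i
  · obtain ⟨j, rfl⟩ := h
    simp [hv']
  · simp only [v', dif_neg h, hv]

/-- a generating tuple containing the old one: one more relation for each new generator -/
theorem PresOn.sup [Fintype ι] [Fintype κ] {f : ι → H} {m : ℕ} (h : PresOn f m) (g : κ → H) (e : ι → κ)
    (he : Injective e) (hg : ∀ i, g (e i) = f i) :
    PresOn g (m + (Fintype.card κ - Fintype.card ι)) := by
  classical
  choose u hu using fun j => lift_surj h.1 (g j)
  let u' : κ → FreeGroup ι := fun j => if h : ∃ i, e i = j then FreeGroup.of h.choose else u j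
  have hu' : ∀ i, u' (e i) = FreeGroup.of i := fun i => by
    have h : ∃ j', e j' = e i := ⟨i, rfl⟩
    simp only [u', dif_pos h]
    rw [he h.choose_spec]
  have := h.tietze g ?_ (fun i => FreeGroup.of (e i)) (by simp [hg]) u' (fun j => ?_)
    (Finset.univ.image e)ᶜ (fun j hj => ?_)
  · rwa [Finset.card_compl, Finset.card_image_of_injective _ he, Finset.card_univ] at this
  · rw [eq_top_iff, ← h.1]
    exact closure_mono (by rintro _ ⟨i, rfl⟩; exact ⟨e i, hg i⟩)
  · by_cases h : ∃ i, e i = j
    · obtain ⟨i, rfl⟩ := h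
      simp [hu', hg]
    · simp only [u', dif_neg h, hu]
  · simp only [Finset.mem_compl, not_not, Finset.mem_image, Finset.mem_univ, true_and] at hj
    obtain ⟨i, rfl⟩ := hj
    simp [hu']

/-- passing to a subgroup containing the generators -/
theorem presOn_subgroup {K : Subgroup H} (f : ι → K) {m : ℕ} (hf : closure (Set.range fun i => (f i : H)) = K)
    (h : ∃ rels : Finset (FreeGroup ι), rels.card ≤ m ∧
      normalClosure (rels : Set (FreeGroup ι)) = (FreeGroup.lift fun i => (f i : H)).ker) : PresOn f m := by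
  obtain ⟨rels, h1, h2⟩ := h
  refine ⟨?_, rels, h1, h2.trans (ker_lift_comp K.subtype_injective f)⟩
  apply map_injective K.subtype_injective
  rw [MonoidHom.map_closure, ← Set.range_comp, ← MonoidHom.range_eq_map, range_subtype]
  exact hf

/-- quotient by a normal subgroup generated by `k` elements -/
theorem PresOn.quot {K : Type*} [Group K] {f : ι → H} {m : ℕ} (h : PresOn f m) (φ : H →* K)
    (hφ : Surjective φ) (s : Finset H) (hs : normalClosure (s : Set H) = φ.ker) :
    PresOn (φ ∘ f) (m + s.card) := by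
  classical
  obtain ⟨h1, rels, h2, h3⟩ := h
  choose u hu using lift_surj h1
  refine ⟨?_, rels ∪ s.image u, (Finset.card_union_le _ _).trans
    (Nat.add_le_add h2 Finset.card_image_le), le_antisymm ?_ ?_⟩
  · have := congrArg (Subgroup.map φ) h1
    rwa [MonoidHom.map_closure, ← Set.range_comp, map_top_of_surjective _ hφ] at this
  · refine normalClosure_le_normal fun r hr => ?_
    simp only [Finset.coe_union, Finset.coe_image, Set.mem_union, Set.mem_image, Finset.mem_coe] at hr
    rw [SetLike.mem_coe, MonoidHom.mem_ker, ← map_lift]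
    rcases hr with hr | ⟨x, hx, rfl⟩
    · have : r ∈ (FreeGroup.lift f).ker := h3 ▸ subset_normalClosure hr
      rw [MonoidHom.mem_ker.mp this, map_one]
    · rw [hu]
      exact (hs ▸ subset_normalClosure hx : x ∈ φ.ker)
  · intro x hx
    set N := normalClosure ((rels ∪ s.image u : Finset _) : Set (FreeGroup ι))
    have e1 : (FreeGroup.lift f).ker ≤ N := h3 ▸ normalClosure_mono (by simp)
    have : (N.map (FreeGroup.lift f)).Normal := Normal.map inferInstance _ (lift_surj h1)
    have e2 : φ.ker ≤ N.map (FreeGroup.lift f) := by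
      rw [← hs]
      refine normalClosure_le_normal fun y hy => ⟨u y, subset_normalClosure ?_, hu y⟩
      simp only [Finset.coe_union, Finset.coe_image, Set.mem_union, Set.mem_image, Finset.mem_coe]
      exact Or.inr ⟨y, hy, rfl⟩
    rw [MonoidHom.mem_ker, ← map_lift] at hx
    have e3 := e2 hx
    rwa [← mem_comap, comap_map_eq_self e1] at e3

end Cfsg.Agent.Pres
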