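import Mathlib
import Cfsg.Agent.Pres.Basic
import Cfsg.Agent.H2.Carm

/-! Carmichael generators on `I ⊕ Bool`. -/

set_option autoImplicit false
set_option linter.unusedSectionVars false

namespace Cfsg.Agent.Pres

open Subgroup Equiv Equiv.Perm Sum
open Function (Injective Surjective)

variable {G : Type*} [Group G] {I : Type} [Fintype I] [DecidableEq I]

theorem tf_ne : (inr true : I ⊕ Bool) ≠ inr false := by simp

/-- the three-cycle through the two extra points and `i` -/
def cy (i : I) : alternatingGroup (I ⊕ Bool) := H2.Carm.cyc tf_ne ⟨inl i, by simp, by simp⟩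

theorem coe_cy (i : I) : (cy i : Perm (I ⊕ Bool)) = swap (inr true) (inl i) * swap (inr true) (inr false) := rfl

theorem idx_surj (c : H2.Carm.Idx (inr true : I ⊕ Bool) (inr false)) :
    ∃ i, c = ⟨inl i, by simp, by simp⟩ := by
  obtain ⟨c | c, h1, h2⟩ := c
  · exact ⟨c, rfl⟩
  · cases c <;> simp at h1 h2

theorem closure_cy : closure (Set.range (cy (I := I))) = ⊤ := by
  rw [eq_top_iff, ← H2.Carm.closure_cyc (tf_ne (I := I))]
  refine closure_mono ?_
  rintro _ ⟨c, rfl⟩
  obtain ⟨i, rfl⟩ := idx_surj c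
  exact ⟨i, rfl⟩

theorem cy_pow_three (i : I) : cy i ^ 3 = 1 := H2.Carm.cyc_pow_three _ _

theorem cy_mul_sq {i j : I} (h : i ≠ j) : (cy i * cy j) ^ 2 = 1 :=
  H2.Carm.cyc_mul_sq _ (by simpa using h)

theorem exists_hom_cy (t : I → G) (h3 : ∀ i, t i ^ 3 = 1) (h2 : ∀ i j, i ≠ j → (t i * t j) ^ 2 = 1) :
    ∃ ψ : alternatingGroup (I ⊕ Bool) →* G, ∀ i, ψ (cy i) = t i := by
  choose k hk using idx_surj (I := I)
  obtain ⟨ψ, h⟩ := H2.Carm.exists_hom tf_ne (fun c => t (k c)) (fun c => h3 _)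
    (fun c d hcd => h2 _ _ fun e => hcd (by rw [hk c, hk d, e]))
  refine ⟨ψ, fun i => (h _).trans ?_⟩
  have := hk ⟨inl i, by simp, by simp⟩
  simp only [Subtype.mk.injEq, inl.injEq] at this
  rw [← this]

theorem hom_ext_cy {φ ψ : alternatingGroup (I ⊕ Bool) →* G} (h : ∀ i, φ (cy i) = ψ (cy i)) : φ = ψ :=
  MonoidHom.eq_of_eqOn_dense closure_cy (by rintro _ ⟨i, rfl⟩; exact h i)

/-- the permutation of the two extra points with a given sign -/
def sw (u : ℤˣ) : Perm Bool := if u = 1 then 1 else swap true false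

theorem sign_sw (u : ℤˣ) : sign (sw u) = u := by
  rcases Int.units_eq_one_or u with rfl | rfl <;> simp [sw]

theorem sw_mul (u v : ℤˣ) : sw (u * v) = sw u * sw v := by
  rcases Int.units_eq_one_or u with rfl | rfl <;> rcases Int.units_eq_one_or v with rfl | rfl <;> simp [sw]

theorem sw_sign (τ : Perm Bool) : sw (sign τ) = τ := by
  revert τ; decide

/-- the embedding of `Sym I` in `Alt (I ⊕ Bool)` -/
def lft : Perm I →* alternatingGroup (I ⊕ Bool) where
  toFun σ := ⟨Perm.sumCongr σ (sw (sign σ)), by simp [sign_sw]⟩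
  map_one' := Subtype.ext (by simp [sw])
  map_mul' σ τ := Subtype.ext (by simp [sw_mul])

theorem coe_lft (σ : Perm I) : (lft σ : Perm (I ⊕ Bool)) = Perm.sumCongr σ (sw (sign σ)) := rfl

theorem conj_cy (σ : Perm I) (τ : Perm Bool) (i : I) :
    Perm.sumCongr σ τ * (cy i : Perm (I ⊕ Bool)) * (Perm.sumCongr σ τ)⁻¹ =
      (cy (σ i) : Perm (I ⊕ Bool)) ^ (sign τ : ℤ) := by
  have h1 : Perm.sumCongr σ τ * (cy i : Perm (I ⊕ Bool)) * (Perm.sumCongr σ τ)⁻¹ =
      swap (inr (τ true)) (inl (σ i)) * swap (inr (τ true)) (inr (τ false)) := by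
    rw [show (inr (τ true) : I ⊕ Bool) = Perm.sumCongr σ τ (inr true) from rfl,
      show (inr (τ false) : I ⊕ Bool) = Perm.sumCongr σ τ (inr false) from rfl,
      show (inl (σ i) : I ⊕ Bool) = Perm.sumCongr σ τ (inl i) from rfl, swap_apply_apply, swap_apply_apply, coe_cy]
    group
  rw [h1, ← sw_sign τ, sign_sw]
  rcases Int.units_eq_one_or (sign τ) with e | e <;> rw [e]
  · simp [sw, coe_cy]
  · simp only [sw, if_false, swap_apply_left, swap_apply_right,
      Units.val_neg, Units.val_one, zpow_neg, zpow_one, coe_cy, mul_inv_rev, swap_inv,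
      show (-1 : ℤˣ) ≠ 1 by decide]
    rw [mul_swap_eq_swap_mul (swap (inr true) (inr false)), swap_apply_left, swap_comm (inr false) (inr true),
      swap_apply_of_ne_of_ne (by simp) (by simp)]

theorem lft_conj (σ : Perm I) (i : I) : lft σ * cy i * (lft σ)⁻¹ = cy (σ i) ^ (sign σ : ℤ) := by
  apply Subtype.ext
  have := conj_cy σ (sw (sign σ)) i
  rw [sign_sw] at this
  simpa [coe_lft] using this

theorem lft_swap {k l : I} (h : k ≠ l) : lft (swap k l) = cy k * cy l * (cy l * cy k) := by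
  apply Subtype.ext
  have e1 := H2.Carm.coe_cyc_mul (tf_ne (I := I)) ⟨inl k, by simp, by simp⟩ ⟨inl l, by simp, by simp⟩
  have e2 := H2.Carm.coe_cyc_mul (tf_ne (I := I)) ⟨inl l, by simp, by simp⟩ ⟨inl k, by simp, by simp⟩
  change _ = (cy k : Perm (I ⊕ Bool)) * cy l * (cy l * cy k)
  unfold cy
  rw [e1, e2, coe_lft, sign_swap h]
  ext x
  rcases x with x | x
  · by_cases h1 : x = k
    · subst h1; simp [swap_apply_def, h, h.symm]
    by_cases h2 : x = l
    · subst h2; simp [swap_apply_def, h, h.symm]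
    simp [swap_apply_def, h1, h2]
  · cases x <;> simp [swap_apply_def, h, h.symm, sw]

theorem lft_mem_closure (K : Finset I) {σ : Perm I} (h : σ.support ⊆ K) :
    lft σ ∈ closure (cy '' (K : Set I)) := by
  have h1 : ∀ x, σ x ∈ K ↔ x ∈ K := fun x => by
    by_cases e : σ x = x
    · rw [e]
    · have := mem_support.mpr e
      exact iff_of_true (h (apply_mem_support.mpr this)) (h this)
  rw [← ofSubtype_subtypePerm h1 (fun x hx => h (mem_support.mpr hx))]
  generalize σ.subtypePerm h1 = s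
  induction s using swap_induction_on with
  | one => simp
  | swap_mul s x y hxy ih =>
    rw [map_mul, map_mul]
    refine mul_mem ?_ ih
    rw [ofSubtype_swap_eq, lft_swap (fun e => hxy (Subtype.ext e))]
    have h2 : ∀ k : K, cy (k : I) ∈ closure (cy '' (K : Set I)) := fun k => subset_closure ⟨k, k.2, rfl⟩
    exact mul_mem (mul_mem (h2 x) (h2 y)) (mul_mem (h2 y) (h2 x))

/-- a word in the three-cycles for an even permutation -/
noncomputable def Wd (g : alternatingGroup (I ⊕ Bool)) : FreeGroup I := (lift_surj closure_cy g).choose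

/-- evaluation of that word -/
noncomputable def Ev (t : I → G) (g : alternatingGroup (I ⊕ Bool)) : G := FreeGroup.lift t (Wd g)

theorem map_Ev {H : Type*} [Group H] (f : G →* H) (t : I → G) (g : alternatingGroup (I ⊕ Bool)) :
    f (Ev t g) = Ev (f ∘ t) g := map_lift f t _

theorem Ev_eq {t : I → G} (ψ : alternatingGroup (I ⊕ Bool) →* G) (h : ∀ i, ψ (cy i) = t i)
    (g : alternatingGroup (I ⊕ Bool)) : Ev t g = ψ g := by
  have h1 : FreeGroup.lift cy (Wd g) = g := (lift_surj closure_cy g).choose_spec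
  conv_rhs => rw [← h1, map_lift]
  unfold Ev
  congr 2
  exact funext fun i => (h i).symm

theorem Ev_mem (t : I → G) (g : alternatingGroup (I ⊕ Bool)) : Ev t g ∈ closure (Set.range t) := by
  rw [← FreeGroup.range_lift_eq_closure]
  exact ⟨_, rfl⟩

theorem range_le_of_cy (ψ : alternatingGroup (I ⊕ Bool) →* G) {N : Subgroup G} (h : ∀ i, ψ (cy i) ∈ N) :
    ψ.range ≤ N := by
  rw [MonoidHom.range_eq_map, ← closure_cy, MonoidHom.map_closure, closure_le]
  rintro _ ⟨_, ⟨i, rfl⟩, rfl⟩
  exact h i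

theorem finish_pres (Ψ : alternatingGroup (I ⊕ Bool) →* G) (π : G →* Perm (I ⊕ Bool))
    (hπ : ∀ i, π (Ψ (cy i)) = cy i) (y : G)
    (hy : y ∈ Ψ.range ∨ (sign (π y) = -1 ∧ y ^ 2 ∈ Ψ.range ∧ ∀ i, y * Ψ (cy i) * y⁻¹ ∈ Ψ.range))
    (hgen : Ψ.range ⊔ zpowers y = ⊤) : Injective π := by
  have h1 : ∀ s, π (Ψ s) = s := fun s =>
    DFunLike.congr_fun (hom_ext_cy (φ := π.comp Ψ) (ψ := (alternatingGroup _).subtype) hπ) s
  have h2 : ∀ g ∈ Ψ.range, π g = 1 → g = 1 := by
    rintro _ ⟨s, rfl⟩ h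
    rw [h1] at h
    rw [show s = 1 from Subtype.ext h, map_one]
  rw [injective_iff_map_eq_one]
  intro g hg
  rcases hy with hy | ⟨h3, h4, h5⟩
  · refine h2 g ?_ hg
    rw [sup_eq_left.mpr (zpowers_le_of_mem hy)] at hgen
    rw [hgen]; trivial
  have h6 : ∀ n ∈ Ψ.range, y * n * y⁻¹ ∈ Ψ.range := by
    rintro _ ⟨s, rfl⟩
    exact range_le_of_cy ((MulAut.conj y).toMonoidHom.comp Ψ) h5 ⟨s, rfl⟩
  have h7 : ∀ n ∈ Ψ.range, y⁻¹ * n * y ∈ Ψ.range := fun n hn => by
    have := h6 _ (mul_mem (mul_mem (inv_mem h4) hn) h4)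
    convert this using 1
    rw [sq]; group
  let M : Subgroup G :=
    { carrier := {g | g ∈ Ψ.range ∨ g * y ∈ Ψ.range}
      one_mem' := Or.inl (one_mem _)
      mul_mem' := by
        rintro a b (ha | ha) (hb | hb)
        · exact Or.inl (mul_mem ha hb)
        · exact Or.inr (by rw [mul_assoc]; exact mul_mem ha hb)
        · refine Or.inr ?_
          convert mul_mem ha (h7 b hb) using 1
          group
        · refine Or.inl ?_
          convert mul_mem (mul_mem ha (h7 _ hb)) (inv_mem h4) using 1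
          rw [sq]; group
      inv_mem' := by
        rintro a (ha | ha)
        · exact Or.inl (inv_mem ha)
        · refine Or.inr ?_
          convert mul_mem (h6 _ (inv_mem ha)) h4 using 1
          rw [sq]; group }
  have h8 : g ∈ M := by
    have : Ψ.range ⊔ zpowers y ≤ M :=
      sup_le (fun n hn => Or.inl hn) (zpowers_le_of_mem (Or.inr (by rwa [← sq])))
    exact this (hgen ▸ mem_top g)
  rcases h8 with h8 | ⟨s, h8⟩
  · exact h2 g h8 hg
  · have := congrArg (fun x => sign (π x)) h8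
    simp only [h1, map_mul, hg, one_mul, h3, mem_alternatingGroup.mp s.2] at this
    exact absurd this (by decide)

/-- the two possible conclusions -/
def AltPres {ι : Type} (f : ι → Perm (I ⊕ Bool)) (ε : ℤˣ) (m : ℕ) : Prop :=
  closure (Set.range f) = (if ε = 1 then alternatingGroup _ else ⊤) ∧
    ∃ rels : Finset (FreeGroup ι), rels.card ≤ m ∧
      normalClosure (rels : Set (FreeGroup ι)) = (FreeGroup.lift f).ker

theorem closure_eq_of_sign {S : Set (Perm (I ⊕ Bool))} (h1 : ∀ i : I, (cy i).1 ∈ closure S)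
    {ε : ℤˣ} (h2 : ε = 1 → ∀ s ∈ S, sign s = 1) (h3 : ∃ s ∈ closure S, sign s = ε) :
    closure S = (if ε = 1 then alternatingGroup _ else ⊤) := by
  have h4 : alternatingGroup (I ⊕ Bool) ≤ closure S := by
    have := range_le_of_cy (alternatingGroup (I ⊕ Bool)).subtype h1
    rwa [range_subtype] at this
  split_ifs with e
  · exact le_antisymm ((closure_le _).mpr (h2 e)) h4
  · obtain ⟨s, hs, e'⟩ := h3
    rw [eq_top_iff]
    intro g _
    by_cases hg : sign g = 1
    · exact h4 hg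
    have h5 : g * s⁻¹ ∈ alternatingGroup (I ⊕ Bool) := by
      rw [mem_alternatingGroup, Perm.sign_mul, sign_inv, e', (Int.units_eq_one_or ε).resolve_left e,
        (Int.units_eq_one_or _).resolve_left hg]
      simp
    simpa using mul_mem (h4 h5) hs

theorem altPres_of_fun {ι : Type} {m : ℕ} (f : ι → Perm (I ⊕ Bool)) {ε : ℤˣ}
    (hf : closure (Set.range f) = (if ε = 1 then alternatingGroup _ else ⊤)) (ρ : Fin m → FreeGroup ι)
    (h0 : ∀ i, FreeGroup.lift f (ρ i) = 1)
    (h : ∀ (G : Type) [Group G] (g : ι → G), closure (Set.range g) = ⊤ →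
      (∀ i, FreeGroup.lift g (ρ i) = 1) → ∀ π : G →* Perm (I ⊕ Bool), (∀ i, π (g i) = f i) → Injective π) :
    AltPres f ε m := by
  let K := closure (Set.range f)
  let f' : ι → K := fun i => ⟨f i, subset_closure ⟨i, rfl⟩⟩
  have h1 : closure (Set.range f') = ⊤ := by
    apply map_injective K.subtype_injective
    rw [MonoidHom.map_closure, ← Set.range_comp, ← MonoidHom.range_eq_map, range_subtype]
    rfl
  have h2 := presOn_of_fun f' h1 ρ (fun i => K.subtype_injective (by rw [map_lift, map_one]; exact h0 i))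
    (fun G _ g hg hr π hπ => Injective.of_comp (f := K.subtype)
      (h G g hg hr (K.subtype.comp π) fun i => by simp [hπ, f']))
  obtain ⟨-, rels, h3, h4⟩ := h2
  exact ⟨hf, rels, h3, h4.trans (ker_lift_comp K.subtype_injective f').symm⟩

theorem AltPres.perm {ι : Type} {m : ℕ} {f : ι → Perm (I ⊕ Bool)} (h : AltPres f (-1) m) : PresOn f m :=
  ⟨by simpa [show (-1 : ℤˣ) ≠ 1 by decide] using h.1, h.2⟩

theorem AltPres.mem {ι : Type} {m : ℕ} {f : ι → Perm (I ⊕ Bool)} (h : AltPres f 1 m) (i : ι) :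
    f i ∈ alternatingGroup (I ⊕ Bool) := by
  have := h.1
  rw [if_pos rfl] at this
  exact this ▸ subset_closure ⟨i, rfl⟩

theorem AltPres.alt {ι : Type} {m : ℕ} {f : ι → Perm (I ⊕ Bool)} (h : AltPres f 1 m) :
    PresOn (fun i => (⟨f i, h.mem i⟩ : alternatingGroup (I ⊕ Bool))) m :=
  presOn_subgroup _ (by simpa using h.1) h.2

end Cfsg.Agent.Pres
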