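import Mathlib
import Cfsg.Agent.Pres.Alt1

/-! The cyclic form of Carmichael's presentation. -/

set_option autoImplicit false
set_option linter.unusedSectionVars false

namespace Cfsg.Agent.Pres

open Subgroup Equiv Equiv.Perm Sum
open Function (Injective Surjective)

variable {G : Type*} [Group G] {I : Type} [Fintype I] [DecidableEq I]

theorem altPres_of_fun' {ι J : Type} [Fintype J] (f : ι → Perm (I ⊕ Bool)) {ε : ℤˣ}
    (hf : closure (Set.range f) = (if ε = 1 then alternatingGroup _ else ⊤)) (ρ : J → FreeGroup ι)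
    (h0 : ∀ i, FreeGroup.lift f (ρ i) = 1)
    (h : ∀ (G : Type) [Group G] (g : ι → G), closure (Set.range g) = ⊤ →
      (∀ i, FreeGroup.lift g (ρ i) = 1) → ∀ π : G →* Perm (I ⊕ Bool), (∀ i, π (g i) = f i) → Injective π) :
    AltPres f ε (Fintype.card J) :=
  altPres_of_fun f hf (ρ ∘ (Fintype.equivFin J).symm) (fun _ => h0 _) fun G _ g hg hr =>
    h G g hg fun j => by simpa using hr (Fintype.equivFin J j)

/-- the least power that is even -/
def jj (y : Perm (I ⊕ Bool)) : ℕ := if sign y = 1 then 1 else 2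

/-- that power -/
def pw (y : Perm (I ⊕ Bool)) : alternatingGroup (I ⊕ Bool) :=
  ⟨y ^ jj y, by
    rw [mem_alternatingGroup, jj]
    split_ifs with h
    · simpa using h
    · simp⟩

theorem sq_mem_of_jj {N : Subgroup G} {y : G} {s : Perm (I ⊕ Bool)} (h : y ^ jj s ∈ N) : y ^ 2 ∈ N := by
  unfold jj at h
  split_ifs at h
  · exact pow_mem (by simpa using h) 2
  · exact h

theorem finish_pres' (Ψ : alternatingGroup (I ⊕ Bool) →* G) (π : G →* Perm (I ⊕ Bool))
    (hπ : ∀ i, π (Ψ (cy i)) = cy i) (y : G) (hy : y ^ jj (π y) ∈ Ψ.range)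
    (hn : ∀ i, y * Ψ (cy i) * y⁻¹ ∈ Ψ.range) (hgen : Ψ.range ⊔ zpowers y = ⊤) : Injective π := by
  refine finish_pres Ψ π hπ y ?_ hgen
  by_cases h : sign (π y) = 1
  · left
    simpa [jj, h] using hy
  · exact Or.inr ⟨(Int.units_eq_one_or _).resolve_left h, sq_mem_of_jj hy, hn⟩

theorem sq_swap {x y : G} (h : (x * y) ^ 2 = 1) : (y * x) ^ 2 = 1 := by
  have : (y * x) ^ 2 = y * (x * y) ^ 2 * y⁻¹ := by simp [sq, mul_assoc]
  rw [this, h]; simp

theorem sq_zpow {x y : G} (h : (x * y) ^ 2 = 1) (ε : ℤˣ) : (x ^ (ε : ℤ) * y ^ (ε : ℤ)) ^ 2 = 1 := by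
  rcases Int.units_eq_one_or ε with rfl | rfl
  · simpa using h
  · simp only [Units.val_neg, Units.val_one, zpow_neg, zpow_one, ← mul_inv_rev, inv_pow, inv_eq_one]
    exact sq_swap h

theorem zpow_zpow_unit (x : G) (ε : ℤˣ) : (x ^ (ε : ℤ)) ^ (ε : ℤ) = x := by
  rcases Int.units_eq_one_or ε with rfl | rfl <;> simp

theorem sq_of_zpow {x y : G} {ε : ℤˣ} (h : (x ^ (ε : ℤ) * y ^ (ε : ℤ)) ^ 2 = 1) : (x * y) ^ 2 = 1 := by
  simpa only [zpow_zpow_unit] using sq_zpow h ε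

theorem sq_conj {x y : G} (h : (x * y) ^ 2 = 1) (g : G) : (g * x * g⁻¹ * (g * y * g⁻¹)) ^ 2 = 1 := by
  have : g * x * g⁻¹ * (g * y * g⁻¹) = g * (x * y) * g⁻¹ := by group
  rw [this, conj_pow, h]; simp

/-- signed conjugates -/
def Y (s z : G) (ε : ℤˣ) (k : ℕ) : G := (s ^ k * z * (s ^ k)⁻¹) ^ ((ε ^ k : ℤˣ) : ℤ)

theorem Y_zero (s z : G) (ε : ℤˣ) : Y s z ε 0 = z := by simp [Y]

theorem map_Y {H : Type*} [Group H] (f : G →* H) (s z : G) (ε : ℤˣ) (k : ℕ) :
    f (Y s z ε k) = Y (f s) (f z) ε k := by simp [Y]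

theorem Y_succ (s z : G) (ε : ℤˣ) (k : ℕ) : Y s z ε (k + 1) = (s * Y s z ε k * s⁻¹) ^ (ε : ℤ) := by
  rw [Y, Y, ← conj_zpow, ← zpow_mul, pow_succ ε, Units.val_mul, pow_succ' s]
  congr 1; group

theorem Y_add (s z : G) (ε : ℤˣ) (k l : ℕ) : Y s z ε (k + l) = Y s (Y s z ε l) ε k := by
  induction k with
  | zero => rw [zero_add, Y_zero]
  | succ k ih => rw [add_right_comm, Y_succ, ih, Y_succ]

theorem Y_mod {s z : G} {ε : ℤˣ} {m : ℕ} (h : Y s z ε m = z) (k : ℕ) : Y s z ε (k % m) = Y s z ε k := by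
  conv_rhs => rw [← Nat.mod_add_div k m]
  generalize k / m = q
  induction q with
  | zero => simp
  | succ q ih => rw [mul_add, mul_one, ← add_assoc, Y_add _ _ _ _ m, h, ih]

theorem Y_cube {s z : G} (ε : ℤˣ) (h : z ^ 3 = 1) (k : ℕ) : Y s z ε k ^ 3 = 1 := by
  rw [Y, ← zpow_natCast, ← zpow_mul, mul_comm, zpow_mul, zpow_natCast, conj_pow, h]; simp

theorem Y_sq {s z : G} {ε : ℤˣ} {k l : ℕ} (h : (Y s z ε k * Y s z ε l) ^ 2 = 1) (n : ℕ) :
    (Y s z ε (k + n) * Y s z ε (l + n)) ^ 2 = 1 := by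
  induction n with
  | zero => exact h
  | succ n ih => rw [← add_assoc, ← add_assoc, Y_succ, Y_succ]; exact sq_zpow (sq_conj ih s) ε

theorem Y_mem {N : Subgroup G} {s z : G} (hs : s ∈ N) (hz : z ∈ N) (ε : ℤˣ) (k : ℕ) : Y s z ε k ∈ N :=
  zpow_mem (mul_mem (mul_mem (pow_mem hs _) hz) (inv_mem (pow_mem hs _))) _

section
variable {m : ℕ} [NeZero m]

/-- signed conjugates indexed by residues -/
def X (s z : G) (ε : ℤˣ) (i : ZMod m) : G := Y s z ε i.val

theorem X_zero (s z : G) (ε : ℤˣ) : X s z ε (0 : ZMod m) = z := by rw [X, ZMod.val_zero, Y_zero]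

theorem map_X {H : Type*} [Group H] (f : G →* H) (s z : G) (ε : ℤˣ) (i : ZMod m) :
    f (X s z ε i) = X (f s) (f z) ε i := map_Y _ _ _ _ _

theorem X_cast {s z : G} {ε : ℤˣ} (h : Y s z ε m = z) (k : ℕ) : X s z ε (k : ZMod m) = Y s z ε k := by
  rw [X, ZMod.val_natCast, Y_mod h]

theorem X_succ {s z : G} {ε : ℤˣ} (h : Y s z ε m = z) (i : ZMod m) :
    s * X s z ε i * s⁻¹ = X s z ε (i + 1) ^ (ε : ℤ) := by
  have : i + 1 = ((i.val + 1 : ℕ) : ZMod m) := by simp
  rw [this, X_cast h, Y_succ, zpow_zpow_unit, X]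

theorem X_sq {s z : G} {ε : ℤˣ} (h : Y s z ε m = z)
    (h2 : ∀ i : ZMod m, i ≠ 0 → (z * X s z ε i) ^ 2 = 1) (i j : ZMod m) (hij : i ≠ j) :
    (X s z ε i * X s z ε j) ^ 2 = 1 := by
  have h3 := h2 (j - i) (sub_ne_zero.mpr hij.symm)
  rw [X] at h3
  nth_rw 1 [← Y_zero s z ε] at h3
  have h4 := Y_sq h3 i.val
  rw [← X_cast h, ← X_cast h] at h4
  simpa using h4

theorem Y_act (σ : Perm I) (τ : Perm Bool) (i : I) (k : ℕ) :
    Y (Perm.sumCongr σ τ) (cy i).1 (sign τ) k = (cy ((σ ^ k) i)).1 := by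
  induction k with
  | zero => simp [Y_zero]
  | succ k ih => rw [Y_succ, ih, conj_cy, zpow_zpow_unit, pow_succ', Perm.mul_apply]

theorem addRight_pow (k : ℕ) (i : ZMod m) : ((Equiv.addRight (1 : ZMod m) : Perm (ZMod m)) ^ k) i = i + k := by
  induction k with
  | zero => simp
  | succ k ih => rw [pow_succ', Perm.mul_apply, ih]; simp [add_assoc]

/-- relators of the cyclic presentation -/
noncomputable def cycRel (τ : Perm Bool) (z s : G) : ZMod m ⊕ Bool → G
  | inl i => if i = 0 then z ^ 3 else (z * X s z (sign τ) i) ^ 2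
  | inr true => Y s z (sign τ) m * z⁻¹
  | inr false => s ^ jj (Perm.sumCongr (Equiv.addRight (1 : ZMod m)) τ) *
      (Ev (X s z (sign τ)) (pw (Perm.sumCongr (Equiv.addRight (1 : ZMod m)) τ)))⁻¹

theorem map_cycRel {H : Type*} [Group H] (f : G →* H) (τ : Perm Bool) (z s : G) (i : ZMod m ⊕ Bool) :
    f (cycRel τ z s i) = cycRel τ (f z) (f s) i := by
  rcases i with i | _ | _
  · simp only [cycRel]; split_ifs <;> simp [map_X]
  · simp only [cycRel, map_mul, map_pow, map_inv, map_Ev]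
    congr 3
    exact funext fun i => map_X _ _ _ _ _
  · simp [cycRel, map_Y]

theorem cyc_pres (τ : Perm Bool) :
    AltPres ![(cy (0 : ZMod m)).1, Perm.sumCongr (Equiv.addRight (1 : ZMod m)) τ]
      (sign (Perm.sumCongr (Equiv.addRight (1 : ZMod m)) τ)) (m + 2) := by
  set s := Perm.sumCongr (Equiv.addRight (1 : ZMod m)) τ with hs
  have a1 : ∀ k : ℕ, Y s (cy (0 : ZMod m)).1 (sign τ) k = (cy (k : ZMod m)).1 := fun k => by
    rw [hs, Y_act, addRight_pow, zero_add]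
  have a2 : ∀ i : ZMod m, X s (cy (0 : ZMod m)).1 (sign τ) i = (cy i).1 := fun i => by
    rw [X, a1]; simp
  have := altPres_of_fun' (J := ZMod m ⊕ Bool) ![(cy (0 : ZMod m)).1, s] (ε := sign s) ?_
    (cycRel τ (FreeGroup.of 0) (FreeGroup.of 1)) ?_ ?_
  · simpa using this
  · refine closure_eq_of_sign (fun i => ?_) ?_ ⟨s, subset_closure ⟨1, rfl⟩, rfl⟩
    · rw [← a2 i]
      unfold X
      apply Y_mem
      exacts [Subgroup.subset_closure ⟨1, rfl⟩, Subgroup.subset_closure ⟨0, rfl⟩]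
    · rintro h _ ⟨i, rfl⟩
      fin_cases i
      · exact (cy 0).2
      · exact h
  · intro i
    rw [map_cycRel]
    simp only [FreeGroup.lift_apply_of, Matrix.cons_val_zero, Matrix.cons_val_one]
    rcases i with i | _ | _
    · simp only [cycRel]
      split_ifs with h
      · exact congrArg Subtype.val (cy_pow_three _)
      · rw [a2]
        exact congrArg Subtype.val (cy_mul_sq (Ne.symm h))
    · simp only [cycRel]
      rw [Ev_eq (alternatingGroup _).subtype (fun i => (a2 i).symm)]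
      exact mul_inv_cancel _
    · simp only [cycRel]
      rw [a1]; simp
  · intro G _ g hg hr π hπ
    simp only [map_cycRel, FreeGroup.lift_apply_of] at hr
    have r0 : g 0 ^ 3 = 1 := by simpa [cycRel] using hr (inl 0)
    have r1 : Y (g 1) (g 0) (sign τ) m = g 0 := mul_inv_eq_one.mp (hr (inr true))
    have r2 : ∀ i : ZMod m, i ≠ 0 → (g 0 * X (g 1) (g 0) (sign τ) i) ^ 2 = 1 := fun i hi => by
      simpa [cycRel, hi] using hr (inl i)
    obtain ⟨Ψ, hΨ⟩ := exists_hom_cy (X (m := m) (g 1) (g 0) (sign τ)) (fun i => Y_cube _ r0 _) (X_sq r1 r2)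
    have r3 := mul_inv_eq_one.mp (hr (inr false))
    rw [Ev_eq Ψ hΨ] at r3
    have p1 : π (g 1) = s := hπ 1
    have p0 : π (g 0) = (cy (0 : ZMod m)).1 := hπ 0
    refine finish_pres' Ψ π (fun i => by rw [hΨ, map_X, p0, p1, a2]) (g 1) (by rw [p1]; exact ⟨_, r3.symm⟩)
      (fun i => ?_) ?_
    · rw [hΨ, X_succ r1]
      exact zpow_mem (MonoidHom.mem_range.mpr ⟨_, hΨ _⟩) _
    · rw [eq_top_iff, ← hg, closure_le]
      rintro _ ⟨i, rfl⟩
      fin_cases i
      · exact mem_sup_left ⟨cy 0, by rw [hΨ, X_zero]; rfl⟩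
      · exact mem_sup_right (mem_zpowers _)

theorem cyc_pres' (m : ℕ) [NeZero m] (ε : ℤˣ) : ∃ f : Fin 2 → Perm (ZMod m ⊕ Bool), AltPres f ε (m + 2) := by
  have := cyc_pres (m := m) (sw (ε * sign (Equiv.addRight (1 : ZMod m) : Perm (ZMod m))))
  rw [sign_sumCongr, sign_sw, mul_comm ε, ← mul_assoc, Int.units_mul_self, one_mul] at this
  exact ⟨_, this⟩

end

end Cfsg.Agent.Pres
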