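import Mathlib
import Cfsg.Agent.Pres.Alt2

/-! Presentations of alternating and symmetric groups with three generators and seven relations. -/

set_option autoImplicit false
set_option linter.unusedSectionVars false

namespace Cfsg.Agent.Pres

open Subgroup Equiv Equiv.Perm Sum
open Function (Injective Surjective)

variable {G : Type*} [Group G]

theorem central_pow_eight {x y c : G} (hx : x ^ 3 = c) (hy : y ^ 3 = c) (h : (x * y) ^ 2 = 1) : c ^ 8 = 1 := by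
  have cx : Commute c x := hx ▸ (Commute.refl x).pow_left 3
  have cy : Commute c y := hy ▸ (Commute.refl y).pow_left 3
  have h0 : x * y * (x * y) = 1 := by rw [← sq, h]
  have h1 : y * x * (y * x) = 1 := by rw [← sq, sq_swap h]
  have h2 : (x⁻¹ * y * x ^ 2) * (x⁻¹ * y * x ^ 2) = 1 := by
    have : (x⁻¹ * y * x ^ 2) * (x⁻¹ * y * x ^ 2) = x⁻¹ * (y * x * (y * x)) * x := by
      simp [sq, mul_assoc]
    rw [this, h1]; simp
  have h3 : x * y * (y * x) * (x⁻¹ * y * x ^ 2) = c ^ 2 := by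
    have : x * y * (y * x) * (x⁻¹ * y * x ^ 2) = x * y ^ 3 * x ^ 2 := by simp [pow_succ, mul_assoc]
    rw [this, hy, ← cx.eq, mul_assoc, ← pow_succ', hx, sq]
  set u := x * y * (y * x) with hu
  have cu : Commute c u := (cx.mul_right cy).mul_right (cy.mul_right cx)
  have h4 : x⁻¹ * y * x ^ 2 = u⁻¹ * c ^ 2 := by rw [← h3]; simp
  have h5 : u ^ 2 = c ^ 4 := by
    rw [h4, mul_assoc, ← mul_assoc (c ^ 2), (cu.inv_right.pow_left 2).eq, mul_assoc, ← pow_add,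
      ← mul_assoc, ← sq, inv_pow, inv_mul_eq_one] at h2
    exact h2
  have h6 : (x * y) * u * (x * y)⁻¹ = u⁻¹ := by
    rw [hu, ← mul_assoc, h0, one_mul, mul_inv_rev (x * y), inv_eq_of_mul_eq_one_right h1]
  have h7 : (x * y) * u ^ 2 * (x * y)⁻¹ = (u ^ 2)⁻¹ := by rw [← conj_pow, h6, inv_pow]
  rw [h5, ← ((cx.mul_right cy).pow_left 4).eq, mul_inv_cancel_right, eq_inv_iff_mul_eq_one, ← pow_add] at h7
  exact h7

theorem cube_eq_one {a b z : G} {p r : ℕ} (hr : Even r) (h1 : a ^ p = z ^ 3) (h2 : b * a * b⁻¹ = a ^ r)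
    (h3 : b * z * b⁻¹ = z⁻¹) (h4 : (z * (a * z * a⁻¹)) ^ 2 = 1) : z ^ 3 = 1 := by
  have h5 : (a * z * a⁻¹) ^ 3 = z ^ 3 := by
    rw [conj_pow, ← h1, ← pow_succ', pow_succ, mul_inv_cancel_right]
  have h6 := central_pow_eight rfl h5 h4
  have h7 : (z ^ 3) ^ (r + 1) = 1 := by
    have e1 : b * z ^ 3 * b⁻¹ = (z ^ 3) ^ r := by
      rw [← h1, ← conj_pow, h2, ← pow_mul, ← pow_mul, mul_comm]
    have e2 : b * z ^ 3 * b⁻¹ = (z ^ 3)⁻¹ := by rw [← conj_pow, h3, inv_pow]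
    rw [pow_succ, ← e1, e2, inv_mul_cancel]
  have := pow_gcd_eq_one.mpr ⟨h6, h7⟩
  rwa [Nat.Coprime.gcd_eq_one, pow_one] at this
  exact Nat.Coprime.pow_left 3 (Nat.coprime_two_left.mpr hr.add_one)

variable {I : Type} [Fintype I] [DecidableEq I]

theorem via_swap {α : Type} [DecidableEq α] (e : α ↪ I) (k l : α) :
    viaEmbeddingHom e (swap k l) = swap (e k) (e l) := by
  ext i
  rw [viaEmbeddingHom_apply]
  by_cases h : i ∈ Set.range e
  · obtain ⟨c, rfl⟩ := h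
    rw [viaEmbedding_apply, e.injective.swap_apply]
  · rw [viaEmbedding_apply_of_notMem _ _ _ h, swap_apply_of_ne_of_ne]
    · rintro rfl; exact h ⟨_, rfl⟩
    · rintro rfl; exact h ⟨_, rfl⟩

theorem sign_via {α : Type} [DecidableEq α] [Fintype α] (e : α ↪ I) (σ : Perm α) :
    sign (viaEmbeddingHom e σ) = sign σ := by
  induction σ using swap_induction_on with
  | one => simp
  | swap_mul s x y hxy ih =>
    rw [map_mul, Perm.sign_mul, Perm.sign_mul, ih, via_swap, sign_swap hxy, sign_swap (e.injective.ne hxy)]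

theorem exists_iota {α : Type} [DecidableEq α] [Fintype α] (e : α ↪ I) :
    ∃ ι : alternatingGroup (α ⊕ Bool) →* Perm (I ⊕ Bool), (∀ c, ι (cy c) = (cy (e c)).1) ∧
      ∀ σ, ι (lft σ) = (lft (viaEmbeddingHom e σ)).1 := by
  obtain ⟨ι, h⟩ := exists_hom_cy (fun c => cy (e c)) (fun c => cy_pow_three _)
    (fun c d hcd => cy_mul_sq (e.injective.ne hcd))
  refine ⟨(alternatingGroup _).subtype.comp ι, fun c => congrArg Subtype.val (h c), fun σ => ?_⟩
  refine congrArg Subtype.val (?_ : ι (lft σ) = _)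
  induction σ using swap_induction_on with
  | one => simp
  | swap_mul s x y hxy ih =>
    rw [map_mul, map_mul, ih, map_mul, map_mul, via_swap, lft_swap hxy, lft_swap (e.injective.ne hxy)]
    simp [h]

theorem conj_lft (y σ : Perm I) :
    Perm.sumCongr y 1 * (lft σ).1 * (Perm.sumCongr y 1)⁻¹ = (lft (y * σ * y⁻¹)).1 := by
  have : sign (y * σ * y⁻¹) = sign σ := by
    rw [Perm.sign_mul, Perm.sign_mul, sign_inv, mul_right_comm, Int.units_mul_self, one_mul]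
  rw [coe_lft, coe_lft, this]
  simp

/-- combinatorial data -/
structure Dat (p : ℕ) [Fact p.Prime] (I : Type) [Fintype I] [DecidableEq I] where
  e : ZMod p ↪ I
  K : Finset (ZMod p)
  η : Perm (ZMod p)
  κ : ZMod p
  y : Perm I
  r : ℕ
  μ : Perm (ZMod p)
  h : Perm (ZMod p)
  v : Perm (ZMod p)
  odd : Odd p
  zero_mem : 0 ∈ K
  κ_mem : κ ∈ K
  κ_ne : κ ≠ 0
  η0 : η 0 = 0
  ηK : ∀ c, η c ∈ K ↔ c ∈ K
  yK : ∀ c ∈ K, y (e c) = e (η c)
  yD : ∀ c ∉ K, y (e c) ∉ Set.range e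
  cover : ∀ i, i ∈ Set.range e ∨ ∃ c ∉ K, i = y (e c)
  y4 : y ^ 4 = 1
  r_even : Even r
  r_gen : ∀ c : ZMod p, c ≠ 0 → ∃ k : ℕ, (r : ZMod p) ^ k = c
  r_ne : (r : ZMod p) ≠ 1
  μ_eq : ∀ c, μ c = r * c
  μ_sign : sign μ = -1
  h_cyc : h.IsCycleOn K
  h_supp : h.support ⊆ K
  v_cyc : v.IsCycleOn (insert 0 Kᶜ : Finset _)
  v_supp : v.support ⊆ insert 0 Kᶜ

namespace Dat

variable {p : ℕ} [Fact p.Prime] (D : Dat p I)

/-- second cycle -/
def u : Perm (ZMod p) := swap 0 D.κ * D.v * (swap 0 D.κ)⁻¹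

open Classical in
/-- the elements standing for all three-cycles -/
noncomputable def tt (x : ZMod p → G) (y : G) (i : I) : G :=
  if i ∈ Set.range D.e then x (Function.invFun D.e i) else y * x (Function.invFun D.e (D.y⁻¹ i)) * y⁻¹

theorem tt_e (x : ZMod p → G) (y : G) (c : ZMod p) : D.tt x y (D.e c) = x c := by
  rw [tt, if_pos ⟨c, rfl⟩, Function.leftInverse_invFun D.e.injective]

theorem tt_y {x : ZMod p → G} {y : G} (h : ∀ c ∈ D.K, y * x c * y⁻¹ = x (D.η c)) (c : ZMod p) :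
    D.tt x y (D.y (D.e c)) = y * x c * y⁻¹ := by
  by_cases hc : c ∈ D.K
  · rw [D.yK c hc, tt_e, h c hc]
  · rw [tt, if_neg (D.yD c hc)]
    simp [Function.leftInverse_invFun D.e.injective c]

theorem map_tt {H : Type*} [Group H] (f : G →* H) (x : ZMod p → G) (y : G) (i : I) :
    f (D.tt x y i) = D.tt (f ∘ x) (f y) i := by
  unfold tt; split_ifs <;> simp

theorem tt_mem {N : Subgroup G} {x : ZMod p → G} {y : G} (hx : ∀ c, x c ∈ N) (hy : y ∈ N) (i : I) :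
    D.tt x y i ∈ N := by
  unfold tt; split_ifs
  · exact hx _
  · exact mul_mem (mul_mem hy (hx _)) (inv_mem hy)

/-- the permutation of all points -/
def yy : Perm (I ⊕ Bool) := Perm.sumCongr D.y 1

/-- the seven relators -/
noncomputable def rel (a b w : G) : Fin 7 → G :=
  ![a ^ p * ((w ^ 4) ^ 3)⁻¹, b * a * b⁻¹ * (a ^ D.r)⁻¹, b * w ^ 4 * b⁻¹ * (w ^ 4)⁻¹⁻¹,
    (w ^ 4 * (a * w ^ 4 * a⁻¹)) ^ 2,
    w ^ 3 * Ev (X a (w ^ 4) 1) (lft D.h) * (w ^ 3)⁻¹ *
      (Ev (X a (w ^ 4) 1) (lft (D.η * D.h * D.η⁻¹)) * (b * (Ev (X a (w ^ 4) 1) (lft D.μ))⁻¹))⁻¹,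
    Ev (X a (w ^ 4) 1) (lft D.u) * (w ^ 3 * Ev (X a (w ^ 4) 1) (lft D.v) * (w ^ 3)⁻¹) *
      ((w ^ 3 * Ev (X a (w ^ 4) 1) (lft D.v) * (w ^ 3)⁻¹) * Ev (X a (w ^ 4) 1) (lft D.u))⁻¹,
    (w ^ 3) ^ jj D.yy * (Ev (D.tt (X a (w ^ 4) 1) (w ^ 3)) (pw D.yy))⁻¹]

theorem map_rel {H : Type*} [Group H] (f : G →* H) (a b w : G) (i : Fin 7) :
    f (D.rel a b w i) = D.rel (f a) (f b) (f w) i := by
  have e1 : f ∘ X (m := p) a (w ^ 4) 1 = X (f a) (f w ^ 4) 1 := funext fun c => by simp [map_X]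
  have e2 : f ∘ D.tt (X (m := p) a (w ^ 4) 1) (w ^ 3) = D.tt (X (f a) (f w ^ 4) 1) (f w ^ 3) :=
    funext fun c => by simp [map_tt, e1]
  fin_cases i <;> simp [rel, map_Ev, e1, e2]

theorem u_fix {c : ZMod p} (hc : c ∈ D.K) (h : c ≠ D.κ) : D.u c = c := by
  have : D.v (swap 0 D.κ c) = swap 0 D.κ c := by
    by_contra h1
    have h2 := D.v_supp (mem_support.mpr h1)
    by_cases h0 : c = 0
    · subst h0
      simp [D.κ_ne, D.κ_mem] at h2
    · rw [swap_apply_of_ne_of_ne h0 h] at h2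
      simp [h0, hc] at h2
  simp [u, this]

theorem v_fix {c : ZMod p} (hc : c ∈ D.K) (h : c ≠ 0) : D.v c = c := by
  by_contra h1
  have h2 := D.v_supp (mem_support.mpr h1)
  simp [h, hc] at h2

theorem v_pow {d : ZMod p} (hd : d ∉ D.K) : ∃ n : ℕ, (D.v ^ n) 0 = d := by
  obtain ⟨n, -, h⟩ := D.v_cyc.exists_pow_eq (a := 0) (b := d) (by simp) (by simp [hd])
  exact ⟨n, h⟩

theorem u_pow {d : ZMod p} (hd : d ∉ D.K) : ∃ n : ℕ, (D.u ^ n) D.κ = d := by
  obtain ⟨n, h⟩ := D.v_pow hd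
  refine ⟨n, ?_⟩
  rw [u, conj_pow]
  simp only [swap_inv, Perm.coe_mul, Function.comp_apply, swap_apply_right, h]
  exact swap_apply_of_ne_of_ne (fun e => hd (e ▸ D.zero_mem)) (fun e => hd (e ▸ D.κ_mem))

theorem sign_u : sign D.u = sign D.v := by
  rw [u, Perm.sign_mul, Perm.sign_mul, sign_inv, mul_right_comm, Int.units_mul_self, one_mul]

include D in
theorem sign_add : sign (Equiv.addRight (1 : ZMod p) : Perm (ZMod p)) = 1 := by
  have h1 : (Equiv.addRight (1 : ZMod p) : Perm (ZMod p)) ^ p = 1 := by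
    ext i; rw [addRight_pow]; simp
  have h2 := congrArg sign h1
  rcases Int.units_eq_one_or (sign (Equiv.addRight (1 : ZMod p) : Perm (ZMod p))) with e | e
  · exact e
  · rw [map_pow, e, D.odd.neg_one_pow] at h2
    simp at h2

theorem μ_conj : D.μ * Equiv.addRight (1 : ZMod p) * D.μ⁻¹ = (Equiv.addRight (1 : ZMod p)) ^ D.r := by
  rw [mul_inv_eq_iff_eq_mul]
  ext i
  simp [addRight_pow, D.μ_eq, mul_add]

end Dat

theorem conj_of_hom (ψ : alternatingGroup (I ⊕ Bool) →* G) {x : I → G} (hψ : ∀ i, ψ (cy i) = x i)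
    (σ : Perm I) (n : ℕ) (i : I) :
    ψ (lft σ) ^ n * x i * (ψ (lft σ) ^ n)⁻¹ = x ((σ ^ n) i) ^ ((sign σ ^ n : ℤˣ) : ℤ) := by
  rw [← hψ, ← hψ, ← map_pow, ← map_pow, ← map_inv, ← map_mul, ← map_mul, lft_conj, map_zpow, map_pow]

theorem commute_range (ψ : alternatingGroup (I ⊕ Bool) →* G) {g : G} (h : ∀ i, Commute g (ψ (cy i)))
    (s : alternatingGroup (I ⊕ Bool)) : Commute g (ψ s) := by
  have := range_le_of_cy ψ (N := centralizer {g}) (fun i => mem_centralizer_singleton_iff.mpr (h i).eq.symm)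
    ⟨s, rfl⟩
  exact (mem_centralizer_singleton_iff.mp this).symm

theorem commute_of_conj_eq {g h x : G} (e : g * x * g⁻¹ = h * x * h⁻¹) : Commute (h⁻¹ * g) x := by
  rw [Commute, SemiconjBy, mul_assoc, inv_mul_eq_iff_eq_mul, mul_inv_eq_iff_eq_mul.mp e]
  group

end Cfsg.Agent.Pres
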