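import Mathlib
import Cfsg.Agent.Pres.Alt3

/-! The seven relations define the group. -/

set_option autoImplicit false
set_option linter.unusedSectionVars false

namespace Cfsg.Agent.Pres

open Subgroup Equiv Equiv.Perm Sum
open Function (Injective Surjective)

variable {G : Type*} [Group G] {I : Type} [Fintype I] [DecidableEq I]

namespace Dat

variable {p : ℕ} [Fact p.Prime] (D : Dat p I)

theorem stepA {a b z : G} (r1 : a ^ p = z ^ 3) (r2 : b * a * b⁻¹ = a ^ D.r) (r3 : b * z * b⁻¹ = z⁻¹)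
    (r4 : (z * (a * z * a⁻¹)) ^ 2 = 1) :
    a ^ p = 1 ∧ (∀ c : ZMod p, a * X a z 1 c * a⁻¹ = X a z 1 (c + 1)) ∧
      (∀ c : ZMod p, b * X a z 1 c * b⁻¹ = (X a z 1 ((D.r : ZMod p) * c))⁻¹) ∧
      ∃ ψ : alternatingGroup (ZMod p ⊕ Bool) →* G, ∀ c, ψ (cy c) = X a z 1 c := by
  have c1 : z ^ 3 = 1 := cube_eq_one D.r_even r1 r2 r3 r4
  have c2 : a ^ p = 1 := r1.trans c1
  have hY : Y a z 1 p = z := by simp [Y, c2]
  have xa : ∀ c : ZMod p, a * X a z 1 c * a⁻¹ = X a z 1 (c + 1) := fun c => by simpa using X_succ hY c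
  have xb : ∀ c : ZMod p, b * X a z 1 c * b⁻¹ = (X a z 1 ((D.r : ZMod p) * c))⁻¹ := fun c => by
    have e1 : (D.r : ZMod p) * c = ((D.r * c.val : ℕ) : ZMod p) := by simp
    rw [e1, X_cast hY]
    simp only [X, Y, one_pow, Units.val_one, zpow_one]
    have e2 : b * (a ^ c.val * z * (a ^ c.val)⁻¹) * b⁻¹ =
        (b * a * b⁻¹) ^ c.val * (b * z * b⁻¹) * ((b * a * b⁻¹) ^ c.val)⁻¹ := by
      rw [conj_pow]; group
    rw [e2, r2, r3, pow_mul]; group
  refine ⟨c2, xa, xb, exists_hom_cy _ (fun c => Y_cube _ c1 _) (X_sq hY fun c hc => ?_)⟩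
  obtain ⟨k, rfl⟩ := D.r_gen c hc
  clear hc
  induction k with
  | zero =>
    have := xa 0
    rw [X_zero, zero_add] at this
    rwa [pow_zero, ← this]
  | succ k ih =>
    have := sq_conj ih b
    rw [r3, xb, ← pow_succ'] at this
    exact sq_of_zpow (ε := -1) (by simpa using this)

theorem stepB {a b y : G} {x : ZMod p → G} (ψ : alternatingGroup (ZMod p ⊕ Bool) →* G)
    (hψ : ∀ c, ψ (cy c) = x c) (hy : Commute y (x 0)) (ap : a ^ p = 1) (r2 : b * a * b⁻¹ = a ^ D.r)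
    (xa : ∀ c, a * x c * a⁻¹ = x (c + 1)) (xb : ∀ c, b * x c * b⁻¹ = (x (D.r * c))⁻¹)
    (r5 : y * ψ (lft D.h) * y⁻¹ = ψ (lft (D.η * D.h * D.η⁻¹)) * (b * (ψ (lft D.μ))⁻¹)) :
    a ∈ ψ.range ∧ b ∈ ψ.range ∧ ∀ c ∈ D.K, y * x c * y⁻¹ = x (D.η c) := by
  have b1 : ∀ s, Commute ((ψ (lft D.μ))⁻¹ * b) (ψ s) := commute_range ψ fun c => by
    apply commute_of_conj_eq
    have := conj_of_hom ψ hψ D.μ 1 c
    simp only [pow_one, D.μ_sign, D.μ_eq, Units.val_neg, Units.val_one, zpow_neg, zpow_one] at this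
    rw [hψ, xb, this]
  have b2 : b * (ψ (lft D.μ))⁻¹ = (ψ (lft D.μ))⁻¹ * b := by
    have := (b1 (lft D.μ)).eq
    rw [mul_inv_eq_iff_eq_mul, this]; group
  rw [b2] at r5
  generalize hb : (ψ (lft D.μ))⁻¹ * b = β at r5 b1
  have F5 : ∀ c ∈ D.K, y * x c * y⁻¹ = x (D.η c) := fun c hc => by
    obtain ⟨n, -, e⟩ := D.h_cyc.exists_pow_eq (a := 0) (b := c) D.zero_mem hc
    have e1 := conj_of_hom ψ hψ D.h n 0
    have e2 := conj_of_hom ψ hψ (D.η * D.h * D.η⁻¹) n 0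
    have e3 : ((D.η * D.h * D.η⁻¹) ^ n) 0 = D.η c := by
      rw [conj_pow]
      simp only [Perm.coe_mul, Function.comp_apply]
      rw [show D.η⁻¹ 0 = 0 from Perm.inv_eq_iff_eq.mpr D.η0.symm, e]
    have e4 : sign (D.η * D.h * D.η⁻¹) = sign D.h := by
      rw [Perm.sign_mul, Perm.sign_mul, sign_inv, mul_right_comm, Int.units_mul_self, one_mul]
    rw [e] at e1
    rw [e3, e4] at e2
    have e5 : y * (ψ (lft D.h) ^ n * x 0 * (ψ (lft D.h) ^ n)⁻¹) * y⁻¹ =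
        (y * ψ (lft D.h) * y⁻¹) ^ n * (y * x 0 * y⁻¹) * ((y * ψ (lft D.h) * y⁻¹) ^ n)⁻¹ := by
      rw [conj_pow]; group
    have e6 : Commute (β ^ n) (x 0) := (hψ 0 ▸ b1 (cy 0)).pow_left n
    rw [e1, r5, hy.eq, mul_inv_cancel_right, (b1 _).symm.mul_pow, mul_assoc _ (β ^ n), e6.eq, mul_inv_rev,
      mul_assoc _ (x 0 * _), mul_assoc (x 0), mul_inv_cancel_left, ← mul_assoc, e2, ← conj_zpow] at e5
    simpa only [zpow_zpow_unit] using congrArg (fun t => t ^ ((sign D.h ^ n : ℤˣ) : ℤ)) e5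
  have b3 : β = 1 := by
    let θ : alternatingGroup (ZMod p ⊕ Bool) →* alternatingGroup (ZMod p ⊕ Bool) :=
      (MulAut.conjNormal (Perm.sumCongr D.η (1 : Perm Bool))).toMonoidHom
    have t1 : ∀ c, θ (cy c) = cy (D.η c) := fun c => Subtype.ext (by
      simpa [θ] using conj_cy D.η 1 c)
    have t2 : ∀ σ, θ (lft σ) = lft (D.η * σ * D.η⁻¹) := fun σ => Subtype.ext (by
      simpa [θ] using conj_lft D.η σ)
    have t3 := MonoidHom.eqOn_closure (f := (MulAut.conj y).toMonoidHom.comp ψ) (g := ψ.comp θ)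
      (s := cy '' (D.K : Set (ZMod p))) (by
        rintro _ ⟨c, hc, rfl⟩
        simp [t1, hψ, F5 c hc]) (lft_mem_closure D.K D.h_supp)
    simp only [MulEquiv.toMonoidHom_eq_coe, MonoidHom.coe_comp, MonoidHom.coe_coe, Function.comp_apply,
      MulAut.conj_apply, t2] at t3
    rw [t3] at r5
    exact (mul_eq_left.mp r5.symm)
  have b4 : b = ψ (lft D.μ) := by
    rw [b3, inv_mul_eq_one] at hb; exact hb.symm
  refine ⟨?_, ⟨_, b4.symm⟩, F5⟩
  set A := ψ (lft (Equiv.addRight (1 : ZMod p))) with hA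
  have a1 : ∀ s, Commute (A⁻¹ * a) (ψ s) := commute_range ψ fun c => by
    apply commute_of_conj_eq
    have := conj_of_hom ψ hψ (Equiv.addRight (1 : ZMod p)) 1 c
    simp only [pow_one, D.sign_add, coe_addRight, Units.val_one, zpow_one] at this
    rw [hψ, xa, this]
  generalize ha : A⁻¹ * a = α at a1
  have a2 : a = A * α := by rw [← ha]; group
  have a3 : Commute A α := (a1 _).symm
  have a4 : A ^ p = 1 := by
    rw [hA, ← map_pow, ← map_pow, show (Equiv.addRight (1 : ZMod p) : Perm (ZMod p)) ^ p = 1 by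
      ext i; rw [addRight_pow]; simp, map_one, map_one]
  have a5 : b * A * b⁻¹ = A ^ D.r := by
    rw [b4, hA, ← map_inv, ← map_mul, ← map_mul, ← map_inv, ← map_mul, ← map_mul, D.μ_conj, map_pow, map_pow]
  have a6 : α ^ p = 1 := by rwa [a2, a3.mul_pow, a4, one_mul] at ap
  have a7 : α = α ^ D.r := by
    have e : b * (A * α) * b⁻¹ = b * A * b⁻¹ * α := by
      have := (a1 (lft D.μ)).eq
      rw [← b4] at this
      rw [mul_assoc (b * A), ← mul_assoc b, mul_assoc (b * A), mul_right_inj, mul_inv_eq_iff_eq_mul,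
        mul_assoc, this]; group
    rw [a2, e, a5, a3.mul_pow, mul_right_inj] at r2
    exact r2
  have a8 : α = 1 := by
    have e1 : orderOf α ∣ p := orderOf_dvd_of_pow_eq_one a6
    rcases (Nat.dvd_prime Fact.out).mp e1 with e | e
    · exact orderOf_eq_one_iff.mp e
    · exfalso
      apply D.r_ne
      have : α ^ D.r = α ^ 1 := by rw [pow_one]; exact a7.symm
      rw [pow_eq_pow_iff_modEq, e] at this
      simpa using (ZMod.natCast_eq_natCast_iff _ _ _).mpr this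
  rw [a2, a8, mul_one]
  exact ⟨_, rfl⟩

theorem η_surj {c : ZMod p} (hc : c ∈ D.K) : ∃ c' ∈ D.K, D.η c' = c :=
  ⟨D.η⁻¹ c, (D.ηK _).mp (by simpa using hc), by simp⟩

theorem stepC {y : G} {x : ZMod p → G} (ψ : alternatingGroup (ZMod p ⊕ Bool) →* G)
    (hψ : ∀ c, ψ (cy c) = x c) (F5 : ∀ c ∈ D.K, y * x c * y⁻¹ = x (D.η c))
    (r6 : Commute (ψ (lft D.u)) (y * ψ (lft D.v) * y⁻¹)) :
    ∃ Ψ : alternatingGroup (I ⊕ Bool) →* G, ∀ i, Ψ (cy i) = D.tt x y i := by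
  have x3 : ∀ c, x c ^ 3 = 1 := fun c => by rw [← hψ, ← map_pow, cy_pow_three, map_one]
  have x2 : ∀ c d, c ≠ d → (x c * x d) ^ 2 = 1 := fun c d h => by
    rw [← hψ, ← hψ, ← map_mul, ← map_pow, cy_mul_sq h, map_one]
  have key : ∀ c, ∀ d ∉ D.K, (x c * (y * x d * y⁻¹)) ^ 2 = 1 := fun c d hd => by
    by_cases hc : c ∈ D.K
    · obtain ⟨c', hc', rfl⟩ := D.η_surj hc
      rw [← F5 c' hc']
      exact sq_conj (x2 c' d fun e => hd (e ▸ hc')) y
    obtain ⟨i, hi⟩ := D.u_pow hc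
    obtain ⟨j, hj⟩ := D.v_pow hd
    obtain ⟨κ', hκ, e⟩ := D.η_surj D.κ_mem
    have hκ0 : κ' ≠ 0 := fun h => D.κ_ne (by rw [← e, h, D.η0])
    have u1 := conj_of_hom ψ hψ D.u i D.κ
    have u2 := conj_of_hom ψ hψ D.u i 0
    have v1 := conj_of_hom ψ hψ D.v j κ'
    have v2 := conj_of_hom ψ hψ D.v j 0
    rw [hi, D.sign_u] at u1
    rw [pow_apply_eq_self_of_apply_eq_self (D.u_fix D.zero_mem D.κ_ne.symm), D.sign_u] at u2
    rw [pow_apply_eq_self_of_apply_eq_self (D.v_fix hκ hκ0)] at v1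
    rw [hj] at v2
    have r7 : Commute (ψ (lft D.u) ^ i) (y * ψ (lft D.v) ^ j * y⁻¹) := by
      rw [← conj_pow]; exact r6.pow_pow i j
    generalize ψ (lft D.u) ^ i = U at *
    generalize ψ (lft D.v) ^ j = V at *
    generalize sign D.v ^ i = ε at *
    generalize sign D.v ^ j = δ at *
    have y0 : y * x 0 * y⁻¹ = x 0 := by rw [F5 0 D.zero_mem, D.η0]
    have yκ : y * x κ' * y⁻¹ = x D.κ := by rw [F5 κ' hκ, e]
    have w1 : (y * V * y⁻¹) * x D.κ * (y * V * y⁻¹)⁻¹ = x D.κ ^ (δ : ℤ) := by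
      rw [← yκ, conj_zpow, ← v1]; group
    have w2 : (y * V * y⁻¹) * x 0 * (y * V * y⁻¹)⁻¹ = (y * x d * y⁻¹) ^ (δ : ℤ) := by
      rw [← y0, conj_zpow, ← v2]; group
    generalize y * V * y⁻¹ = W at *
    have h := sq_conj (x2 _ _ D.κ_ne) (U * W)
    have h1 : U * W * x D.κ * (U * W)⁻¹ = (x c ^ (ε : ℤ)) ^ (δ : ℤ) := by
      rw [← u1, conj_zpow, ← w1]; group
    have h2 : U * W * x 0 * (U * W)⁻¹ = ((y * x d * y⁻¹) ^ (ε : ℤ)) ^ (δ : ℤ) := by
      rw [r7.eq, ← zpow_mul, mul_comm (ε : ℤ), zpow_mul, ← w2, conj_zpow, ← u2]; group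
    rw [h1, h2] at h
    exact sq_of_zpow (sq_of_zpow h)
  refine exists_hom_cy _ (fun i => ?_) fun i j hij => ?_
  · rcases D.cover i with ⟨c, rfl⟩ | ⟨c, -, rfl⟩
    · rw [tt_e, x3]
    · rw [D.tt_y F5, conj_pow, x3]; simp
  · rcases D.cover i with ⟨c, rfl⟩ | ⟨c, hc, rfl⟩ <;> rcases D.cover j with ⟨d, rfl⟩ | ⟨d, hd, rfl⟩
    · rw [tt_e, tt_e]; exact x2 _ _ fun e => hij (by rw [e])
    · rw [tt_e, D.tt_y F5]; exact key c d hd
    · rw [tt_e, D.tt_y F5]; exact sq_swap (key d c hc)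
    · rw [D.tt_y F5, D.tt_y F5]; exact sq_conj (x2 _ _ fun e => hij (by rw [e])) y

theorem conj_h : D.y * viaEmbeddingHom D.e D.h * D.y⁻¹ = viaEmbeddingHom D.e (D.η * D.h * D.η⁻¹) := by
  have h1 : ∀ c ∉ D.K, D.h c = c := fun c hc => by
    by_contra h; exact hc (D.h_supp (mem_support.mpr h))
  have h2 : ∀ c ∈ D.K, D.h c ∈ D.K := fun c hc => D.h_cyc.apply_mem_iff.mpr hc
  rw [mul_inv_eq_iff_eq_mul]
  ext i
  simp only [viaEmbeddingHom_apply, Perm.coe_mul, Function.comp_apply]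
  by_cases hi : i ∈ Set.range D.e
  · obtain ⟨c, rfl⟩ := hi
    rw [viaEmbedding_apply]
    by_cases hc : c ∈ D.K
    · rw [D.yK c hc, D.yK _ (h2 c hc), viaEmbedding_apply]; simp
    · rw [h1 c hc, viaEmbedding_apply_of_notMem _ _ _ (D.yD c hc)]
  · rw [viaEmbedding_apply_of_notMem _ _ _ hi]
    by_cases hj : D.y i ∈ Set.range D.e
    · obtain ⟨c, hc⟩ := hj
      rw [← hc, viaEmbedding_apply]
      have : c ∉ D.K := fun h => by
        obtain ⟨c', hc', rfl⟩ := D.η_surj h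
        rw [← D.yK c' hc'] at hc
        exact hi ⟨c', D.y.injective hc⟩
      simp only [Perm.coe_mul, Function.comp_apply]
      rw [h1 _ (fun h => this (by simpa using (D.ηK _).mpr h))]; simp
    · rw [viaEmbedding_apply_of_notMem _ _ _ hj]

theorem comm_uv : Commute (viaEmbeddingHom D.e D.u) (D.y * viaEmbeddingHom D.e D.v * D.y⁻¹) := by
  apply Perm.Disjoint.commute
  intro i
  simp only [viaEmbeddingHom_apply, Perm.coe_mul, Function.comp_apply]
  by_cases hi : i ∈ Set.range D.e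
  swap
  · exact Or.inl (viaEmbedding_apply_of_notMem _ _ _ hi)
  obtain ⟨c, rfl⟩ := hi
  by_cases hj : D.y⁻¹ (D.e c) ∈ Set.range D.e
  swap
  · right
    rw [viaEmbedding_apply_of_notMem _ _ _ hj]; simp
  obtain ⟨c', hc'⟩ := hj
  have h1 : D.y (D.e c') = D.e c := by rw [hc']; simp
  have h2 : c' ∈ D.K := by
    by_contra h; exact D.yD c' h ⟨_, h1.symm⟩
  have h3 : D.η c' = c := D.e.injective (by rw [← D.yK c' h2, h1])
  by_cases h4 : c = D.κ
  · right
    rw [← hc', viaEmbedding_apply, D.v_fix h2 (fun e => D.κ_ne (by rw [← h4, ← h3, e, D.η0])), h1]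
  · left
    rw [viaEmbedding_apply, D.u_fix (h3 ▸ (D.ηK _).mpr h2) h4]

/-- the three generators -/
noncomputable def gens : Fin 3 → Perm (I ⊕ Bool) :=
  ![(lft (viaEmbeddingHom D.e (Equiv.addRight 1))).1, (lft (viaEmbeddingHom D.e D.μ)).1,
    (cy (D.e 0)).1 * D.yy⁻¹]

theorem yy_conj (i : I) : D.yy * (cy i).1 * D.yy⁻¹ = (cy (D.y i)).1 := by
  simpa [yy] using conj_cy D.y 1 i

theorem yy_comm : Commute (cy (D.e 0)).1 D.yy := by
  have := D.yy_conj (D.e 0)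
  rw [D.yK 0 D.zero_mem, D.η0, mul_inv_eq_iff_eq_mul] at this
  exact this.symm

theorem yy_four : D.yy ^ 4 = 1 := by
  have := map_pow (Perm.sumCongrHom I Bool) (D.y, 1) 4
  simp only [Prod.pow_mk, D.y4, one_pow, sumCongrHom_apply, sumCongr_one] at this
  exact this.symm

theorem w_four : D.gens 2 ^ 4 = (cy (D.e 0)).1 := by
  change ((cy (D.e 0)).1 * D.yy⁻¹) ^ 4 = _
  have : (cy (D.e 0)).1 ^ 3 = 1 := congrArg Subtype.val (cy_pow_three _)
  rw [D.yy_comm.inv_right.mul_pow, inv_pow, D.yy_four, pow_succ, this]; simp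

theorem w_three : D.gens 2 ^ 3 = D.yy := by
  change ((cy (D.e 0)).1 * D.yy⁻¹) ^ 3 = _
  have : (cy (D.e 0)).1 ^ 3 = 1 := congrArg Subtype.val (cy_pow_three _)
  rw [D.yy_comm.inv_right.mul_pow, this, one_mul, inv_pow, inv_eq_iff_mul_eq_one, ← pow_succ, D.yy_four]

theorem X_gens (c : ZMod p) : X (D.gens 0) (D.gens 2 ^ 4) 1 c = (cy (D.e c)).1 := by
  have h1 : D.gens 0 = Perm.sumCongr (viaEmbeddingHom D.e (Equiv.addRight 1)) 1 := by
    change (lft (viaEmbeddingHom D.e (Equiv.addRight 1))).1 = _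
    rw [coe_lft, sign_via, D.sign_add]; simp [sw]
  have := Y_act (viaEmbeddingHom D.e (Equiv.addRight 1)) 1 (D.e 0) c.val
  rw [Perm.sign_one, ← map_pow, viaEmbeddingHom_apply (e := _ ^ _), viaEmbedding_apply, addRight_pow] at this
  rw [w_four, h1, X, this]; simp

theorem tt_gens (i : I) : D.tt (X (D.gens 0) (D.gens 2 ^ 4) 1) (D.gens 2 ^ 3) i = (cy i).1 := by
  rcases D.cover i with ⟨c, rfl⟩ | ⟨c, -, rfl⟩
  · rw [tt_e, X_gens]
  · rw [D.tt_y, X_gens, w_three, yy_conj]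
    intro c hc
    rw [X_gens, X_gens, w_three, yy_conj, D.yK c hc]

theorem closure_two {S : Set (Perm (I ⊕ Bool))} (h0 : D.gens 0 ∈ S) (h2 : D.gens 2 ∈ S)
    (h : S ⊆ Set.range D.gens) : closure S = if sign D.y = 1 then alternatingGroup _ else ⊤ := by
  have e : sign D.yy = sign D.y := by simp [yy]
  refine closure_eq_of_sign (fun i => ?_) (fun h1 s hs => ?_)
    ⟨_, pow_mem (Subgroup.subset_closure h2) 3, by rw [w_three, e]⟩
  · rw [← D.tt_gens i]
    refine D.tt_mem (fun c => ?_) (pow_mem (Subgroup.subset_closure h2) 3) i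
    unfold X
    apply Y_mem
    exacts [Subgroup.subset_closure h0, pow_mem (Subgroup.subset_closure h2) 4]
  · obtain ⟨i, rfl⟩ := h hs
    fin_cases i
    · exact (lft _).2
    · exact (lft _).2
    · change sign ((cy (D.e 0)).1 * D.yy⁻¹) = 1
      rw [Perm.sign_mul, sign_inv, e, h1, mem_alternatingGroup.mp (cy _).2, mul_one]

theorem rel_gens (i : Fin 7) : D.rel (D.gens 0) (D.gens 1) (D.gens 2) i = 1 := by
  obtain ⟨ι, h1, h2⟩ := exists_iota D.e
  have h3 : ∀ σ, Ev (X (D.gens 0) (D.gens 2 ^ 4) 1) (lft σ) = (lft (viaEmbeddingHom D.e σ)).1 := fun σ => by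
    rw [Ev_eq ι (fun c => by rw [h1, X_gens]), h2]
  have g0 : D.gens 0 = (lft (viaEmbeddingHom D.e (Equiv.addRight 1))).1 := rfl
  have g1 : D.gens 1 = (lft (viaEmbeddingHom D.e D.μ)).1 := rfl
  have c3 : (cy (D.e 0)).1 ^ 3 = 1 := congrArg Subtype.val (cy_pow_three _)
  fin_cases i
  · change _ * _ = 1
    rw [w_four, c3, g0, ← Subgroup.coe_pow, ← map_pow, ← map_pow,
      show (Equiv.addRight (1 : ZMod p) : Perm (ZMod p)) ^ p = 1 by ext i; rw [addRight_pow]; simp]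
    simp
  · change _ * _ = 1
    rw [mul_inv_eq_one, g0, g1, ← Subgroup.coe_pow, ← map_pow, ← map_pow, ← D.μ_conj]
    simp
  · change _ * _ = 1
    rw [mul_inv_eq_one, w_four, g1]
    have := congrArg Subtype.val (lft_conj (viaEmbeddingHom D.e D.μ) (D.e 0))
    rw [sign_via, D.μ_sign, viaEmbeddingHom_apply (e := D.μ), viaEmbedding_apply, D.μ_eq, mul_zero] at this
    simpa [viaEmbeddingHom_apply] using this
  · change _ ^ 2 = 1
    have := congrArg Subtype.val (lft_conj (viaEmbeddingHom D.e (Equiv.addRight 1)) (D.e 0))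
    rw [sign_via, D.sign_add, viaEmbeddingHom_apply (e := Equiv.addRight 1), viaEmbedding_apply] at this
    simp only [Subgroup.coe_mul, InvMemClass.coe_inv, coe_addRight, zero_add, Units.val_one, zpow_one] at this
    rw [w_four, g0, viaEmbeddingHom_apply, this]
    exact congrArg Subtype.val (cy_mul_sq (D.e.injective.ne zero_ne_one))
  · change _ * _ = 1
    rw [mul_inv_eq_one, h3, h3, h3, w_three, g1, yy, conj_lft, conj_h]; simp
  · change _ * _ = 1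
    rw [mul_inv_eq_one, h3, h3, w_three, yy, conj_lft]
    exact congrArg Subtype.val (D.comm_uv.map lft).eq
  · change _ * _ = 1
    rw [mul_inv_eq_one, Ev_eq (alternatingGroup _).subtype (fun i => (D.tt_gens i).symm), w_three]
    rfl

theorem pres : AltPres D.gens (sign D.y) 7 := by
  refine altPres_of_fun D.gens (D.closure_two ⟨0, rfl⟩ ⟨2, rfl⟩ le_rfl)
    (D.rel (FreeGroup.of 0) (FreeGroup.of 1) (FreeGroup.of 2)) (fun i => ?_) fun G _ g hg hr π hπ => ?_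
  · rw [map_rel]
    simpa using D.rel_gens i
  simp only [map_rel, FreeGroup.lift_apply_of] at hr
  have r2 := mul_inv_eq_one.mp (hr 1)
  obtain ⟨ap, xa, xb, ψ, hψ⟩ := D.stepA (mul_inv_eq_one.mp (hr 0)) r2 (mul_inv_eq_one.mp (hr 2)) (hr 3)
  have r5 := mul_inv_eq_one.mp (hr 4)
  have r6 := mul_inv_eq_one.mp (hr 5)
  have r7 := mul_inv_eq_one.mp (hr 6)
  simp only [Ev_eq ψ hψ] at r5 r6
  obtain ⟨ha, hb, F5⟩ := D.stepB ψ hψ (y := g 2 ^ 3) (by rw [X_zero]; exact Commute.pow_pow_self _ _ _)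
    ap r2 xa xb r5
  obtain ⟨Ψ, hΨ⟩ := D.stepC ψ hψ F5 r6
  rw [Ev_eq Ψ hΨ] at r7
  have h1 : ψ.range ≤ Ψ.range := range_le_of_cy ψ fun c => ⟨cy (D.e c), by rw [hΨ, hψ, tt_e]⟩
  have h2 : π (g 2 ^ 3) = D.yy := by rw [map_pow, hπ, w_three]
  have h3 : (g 2 ^ 3) ^ jj D.yy ∈ Ψ.range := ⟨_, r7.symm⟩
  refine finish_pres' Ψ π (fun i => ?_) (g 2 ^ 3) (by rwa [h2]) (fun i => ?_) ?_
  · rw [hΨ, map_tt, ← D.tt_gens i, map_pow, hπ]
    congr 1
    exact funext fun c => by simp [map_X, hπ]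
  · rcases D.cover i with ⟨c, rfl⟩ | ⟨c, -, rfl⟩
    · rw [hΨ, tt_e, ← D.tt_y F5]
      exact ⟨_, hΨ _⟩
    · rw [hΨ, D.tt_y F5]
      have h4 := sq_mem_of_jj h3
      have := mul_mem (mul_mem h4 (h1 ⟨_, hψ c⟩)) (inv_mem h4)
      convert this using 1
      rw [sq]; group
  · rw [eq_top_iff, ← hg, closure_le]
    rintro _ ⟨i, rfl⟩
    fin_cases i
    · exact mem_sup_left (h1 ha)
    · exact mem_sup_left (h1 hb)
    · have h4 : g 2 ^ 4 ∈ Ψ.range := h1 ⟨cy 0, by rw [hψ, X_zero]⟩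
      have := mul_mem (mem_sup_left h4 : _ ∈ Ψ.range ⊔ zpowers (g 2 ^ 3))
        (inv_mem (mem_sup_right (mem_zpowers _)))
      rw [show g 2 ^ 4 * (g 2 ^ 3)⁻¹ = g 2 by group] at this
      exact this

end Dat

end Cfsg.Agent.Pres
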