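import Mathlib
import Cfsg.Agent.Pres.Alt4

/-! Existence of the data; final statements. -/

set_option autoImplicit false
set_option linter.unusedSectionVars false

namespace Cfsg.Agent.Pres

open Subgroup Equiv Equiv.Perm Sum
open Function (Injective Surjective)

section
variable {p : ℕ} [Fact p.Prime]

theorem exists_rmu (hp : Odd p) : ∃ (r : ℕ) (μ : Perm (ZMod p)), Even r ∧
    (∀ c : ZMod p, c ≠ 0 → ∃ k : ℕ, (r : ZMod p) ^ k = c) ∧ (r : ZMod p) ≠ 1 ∧ (∀ c, μ c = r * c) ∧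
    sign μ = -1 := by
  obtain ⟨g, hg⟩ := IsCyclic.exists_monoid_generator (α := (ZMod p)ˣ)
  have h1 : ∀ c : ZMod p, c ≠ 0 → ∃ k : ℕ, (g : ZMod p) ^ k = c := fun c hc => by
    obtain ⟨k, hk⟩ := hg (Units.mk0 c hc)
    exact ⟨k, by simpa using congrArg Units.val hk⟩
  have h2 : (g : ZMod p) ≠ 1 := fun e => by
    obtain ⟨k, hk⟩ := h1 (-1) (by simp)
    rw [e, one_pow] at hk
    have : ((2 : ℕ) : ZMod p) = 0 := by
      rw [Nat.cast_ofNat]; linear_combination hk
    rw [ZMod.natCast_eq_zero_iff, Nat.prime_dvd_prime_iff_eq Fact.out Nat.prime_two] at this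
    subst this
    exact absurd hp (by decide)
  have h3 : ∃ r : ℕ, Even r ∧ (r : ZMod p) = g := by
    by_cases h : Even (g : ZMod p).val
    · exact ⟨_, h, by simp⟩
    · exact ⟨(g : ZMod p).val + p, (Nat.not_even_iff_odd.mp h).add_odd hp, by simp⟩
  obtain ⟨r, hr, e⟩ := h3
  let μ : Perm (ZMod p) := g.mulLeft
  have h4 : ∀ k : ℕ, (μ ^ k) 1 = (g : ZMod p) ^ k := fun k => by
    induction k with
    | zero => simp
    | succ k ih => rw [pow_succ', Perm.mul_apply, ih, pow_succ']; rfl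
  have h5 : μ.IsCycle := ⟨1, by simpa [μ] using h2, fun y hy => by
    obtain ⟨k, hk⟩ := h1 y (by rintro rfl; simp [μ] at hy)
    exact ⟨k, by rw [zpow_natCast, h4, hk]⟩⟩
  have h6 : μ.support = Finset.univ.erase 0 := by
    ext c
    simp only [mem_support, μ, Units.mulLeft_apply, ne_eq, Finset.mem_erase, Finset.mem_univ, and_true]
    refine not_congr ⟨fun h => ?_, fun h => by simp [h]⟩
    by_contra h0
    exact h2 (mul_right_cancel₀ h0 (by simpa using h))
  refine ⟨r, μ, hr, by rwa [e], by rwa [e], fun c => by rw [e]; rfl, ?_⟩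
  rw [h5.sign, h6, Finset.card_erase_of_mem (Finset.mem_univ _), Finset.card_univ, ZMod.card,
    (Nat.Odd.sub_odd hp odd_one).neg_one_pow]

/-- exchange of `D` with its copy -/
def exch (D : Finset (ZMod p)) : Perm (ZMod p ⊕ D) :=
  Function.Involutive.toPerm (Sum.elim (fun c => if h : c ∈ D then inr ⟨c, h⟩ else inl c) fun d => inl d) (by
    rintro (c | d)
    · by_cases h : c ∈ D <;> simp [h]
    · simp)

theorem exch_mem (D : Finset (ZMod p)) {c : ZMod p} (h : c ∈ D) : exch D (inl c) = inr ⟨c, h⟩ :=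
  dif_pos h

theorem exch_not (D : Finset (ZMod p)) {c : ZMod p} (h : c ∉ D) : exch D (inl c) = inl c :=
  dif_neg h

theorem exch_inr (D : Finset (ZMod p)) (d : D) : exch D (inr d) = inl d.1 := rfl

theorem exists_dat (hp : Odd p) (D : Finset (ZMod p)) (h0 : 0 ∉ D) (h1 : 1 ∉ D) (η : Perm (ZMod p))
    (θ : Perm D) (η0 : η 0 = 0) (ηD : ∀ c ∈ D, η c = c) (η2 : ∀ c, η (η c) = c) (θ2 : ∀ c, θ (θ c) = c) :
    ∃ T : Dat p (ZMod p ⊕ D), sign T.y = sign (exch D) * (sign η * sign θ) := by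
  obtain ⟨r, μ, r1, r2, r3, r4, r5⟩ := exists_rmu hp
  obtain ⟨h, h2, h3⟩ := Finset.exists_cycleOn (Dᶜ)
  obtain ⟨v, v2, v3⟩ := Finset.exists_cycleOn (insert 0 Dᶜᶜ)
  have ηK : ∀ c, η c ∈ Dᶜ ↔ c ∈ Dᶜ := fun c => by
    simp only [Finset.mem_compl]
    refine not_congr ⟨fun h => ?_, fun h => by rwa [ηD c h]⟩
    have := ηD _ h
    rw [η2] at this
    rwa [this]
  refine ⟨⟨Function.Embedding.inl, Dᶜ, η, 1, exch D * Perm.sumCongr η θ, r, μ, h, v, hp, by simpa, by simpa,
    one_ne_zero, η0, ηK, fun c hc => ?_, fun c hc => ?_, ?_, ?_, r1, r2, r3, r4, r5, h2, h3, v2, v3⟩, by simp⟩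
  · exact exch_not D (Finset.mem_compl.mp ((ηK c).mpr hc))
  · have hc' : c ∈ D := by simpa using hc
    simp [ηD c hc', exch_mem D hc']
  · rintro (c | d)
    · exact Or.inl ⟨c, rfl⟩
    · exact Or.inr ⟨d, by simp, by simp [ηD d d.2, exch_mem D d.2]⟩
  · have e1 : ∀ d : D, (exch D * Perm.sumCongr η θ) (inl d) = inr d := fun d => by
      simp [ηD d d.2, exch_mem D d.2]
    have e2 : ∀ d : D, (exch D * Perm.sumCongr η θ) (inr d) = inl (θ d).1 := fun d => by
      simp [exch_inr]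
    have e3 : ∀ c ∉ D, (exch D * Perm.sumCongr η θ) (inl c) = inl (η c) := fun c hc =>
      exch_not D (Finset.mem_compl.mp ((ηK c).mpr (Finset.mem_compl.mpr hc)))
    have e4 : ∀ c ∉ D, η c ∉ D := fun c hc => Finset.mem_compl.mp ((ηK c).mpr (Finset.mem_compl.mpr hc))
    generalize exch D * Perm.sumCongr η θ = y at *
    ext i : 1
    simp only [pow_succ, pow_zero, one_mul, Perm.coe_mul, Function.comp_apply, Perm.coe_one, id]
    rcases i with c | d
    · by_cases hc : c ∈ D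
      · rw [e1 ⟨c, hc⟩, e2, e1, e2, θ2]
      · rw [e3 c hc, e3 _ (e4 c hc), η2, e3 c hc, e3 _ (e4 c hc), η2]
    · rw [e2, e1, e2, e1, θ2]

theorem exists_dat' (hp : Odd p) (d : ℕ) (hd : d + 2 ≤ p) (h6 : ¬ (p = 3 ∧ d = 1)) (ε : ℤˣ) :
    ∃ D : Finset (ZMod p), D.card = d ∧ ∃ T : Dat p (ZMod p ⊕ D), sign T.y = ε := by
  have h3 : 3 ≤ p := by
    have := (Fact.out : p.Prime).two_le
    rcases hp with ⟨k, hk⟩
    omega
  have hc : ((Finset.univ.erase (0 : ZMod p)).erase 1).card = p - 2 := by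
    rw [Finset.card_erase_of_mem (by simp), Finset.card_erase_of_mem (by simp), Finset.card_univ, ZMod.card]
    omega
  obtain ⟨D, hD, rfl⟩ := Finset.exists_subset_card_eq (s := (Finset.univ.erase (0 : ZMod p)).erase 1)
    (n := d) (by omega)
  have h0 : 0 ∉ D := fun h => by simpa using hD h
  have h1 : 1 ∉ D := fun h => by simpa using hD h
  refine ⟨D, rfl, ?_⟩
  by_cases e : sign (exch D) = ε
  · obtain ⟨T, hT⟩ := exists_dat hp D h0 h1 1 1 rfl (fun _ _ => rfl) (fun _ => rfl) (fun _ => rfl)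
    exact ⟨T, by simpa [e] using hT⟩
  have e' : -sign (exch D) = ε := by
    rcases Int.units_eq_one_or ε with rfl | rfl <;> rcases Int.units_eq_one_or (sign (exch D)) with h | h <;>
      simp_all
  by_cases h2 : 2 ≤ D.card
  · obtain ⟨a, ha, b, hb, hab⟩ := Finset.one_lt_card.mp h2
    obtain ⟨T, hT⟩ := exists_dat hp D h0 h1 1 (swap ⟨a, ha⟩ ⟨b, hb⟩) rfl (fun _ _ => rfl) (fun _ => rfl)
      (fun _ => swap_apply_self _ _ _)
    rw [sign_swap (by simpa using hab)] at hT
    exact ⟨T, by simpa [e'] using hT⟩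
  · have : D.card < ((Finset.univ.erase (0 : ZMod p)).erase 1).card := by
      rcases hp with ⟨k, hk⟩
      omega
    obtain ⟨k, hk, hkD⟩ := Finset.exists_mem_notMem_of_card_lt_card this
    simp only [Finset.mem_erase, ne_eq, Finset.mem_univ, and_true] at hk
    obtain ⟨T, hT⟩ := exists_dat hp D h0 h1 (swap 1 k) 1 (swap_apply_of_ne_of_ne zero_ne_one (Ne.symm hk.2))
      (fun c hc => swap_apply_of_ne_of_ne (fun e => h1 (e ▸ hc)) (fun e => hkD (e ▸ hc)))
      (fun _ => swap_apply_self _ _ _) (fun _ => rfl)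
    rw [sign_swap (Ne.symm hk.1)] at hT
    exact ⟨T, by simpa [e'] using hT⟩

end

/-- three generators and seven relations, two of the generators sufficing -/
def Good (H : Type) [Group H] : Prop :=
  (∃ f : Fin 3 → H, PresOn f 7) ∧ ∃ f : Fin 2 → H, PresOn f 7

theorem Good.congr {H K : Type} [Group H] [Group K] (h : Good H) (e : H ≃* K) : Good K :=
  let ⟨⟨_, h1⟩, _, h2⟩ := h
  ⟨⟨_, h1.congr e⟩, _, h2.congr e⟩

theorem good_of_two {H : Type} [Group H] {f : Fin 2 → H} (h : PresOn f 6) : Good H :=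
  ⟨⟨![f 0, f 1, 1], h.sup _ Fin.castSucc (Fin.castSucc_injective _) fun i => by fin_cases i <;> rfl⟩,
    f, h.mono (by norm_num)⟩

theorem good_small (m : ℕ) [NeZero m] (h : m ≤ 4) :
    Good (Perm (ZMod m ⊕ Bool)) ∧ Good (alternatingGroup (ZMod m ⊕ Bool)) := by
  obtain ⟨f, hf⟩ := cyc_pres' m (-1)
  obtain ⟨g, hg⟩ := cyc_pres' m 1
  exact ⟨good_of_two (hf.perm.mono (by omega)), good_of_two (hg.alt.mono (by omega))⟩

theorem range_two {α : Type} (f : Fin 3 → α) : Set.range (f ∘ ![0, 2]) = {f 0, f 2} := by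
  ext x
  simp [Fin.exists_fin_two, eq_comm]

theorem Dat.good_perm {I : Type} [Fintype I] [DecidableEq I] {p : ℕ} [Fact p.Prime] (T : Dat p I)
    (h : sign T.y = -1) : Good (Perm (I ⊕ Bool)) := by
  have h1 := T.pres
  rw [h] at h1
  refine ⟨⟨_, h1.perm⟩, _, h1.perm.sub ![0, 2] (by decide) ?_⟩
  rw [range_two, T.closure_two (by simp) (by simp) (by rintro _ (rfl | rfl) <;> simp), h,
    if_neg (by decide)]

theorem Dat.good_alt {I : Type} [Fintype I] [DecidableEq I] {p : ℕ} [Fact p.Prime] (T : Dat p I)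
    (h : sign T.y = 1) : Good (alternatingGroup (I ⊕ Bool)) := by
  have h1 := T.pres
  rw [h] at h1
  refine ⟨⟨_, h1.alt⟩, _, h1.alt.sub ![0, 2] (by decide) ?_⟩
  apply map_injective (alternatingGroup (I ⊕ Bool)).subtype_injective
  rw [range_two, MonoidHom.map_closure, ← MonoidHom.range_eq_map, range_subtype, Set.image_pair]
  exact (T.closure_two (by simp) (by simp) (by rintro _ (rfl | rfl) <;> simp)).trans (if_pos h)

theorem good_transfer {I : Type} [Fintype I] [DecidableEq I] {n : ℕ} (hn : Fintype.card I + 2 = n)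
    (h : Good (Perm (I ⊕ Bool)) ∧ Good (alternatingGroup (I ⊕ Bool))) :
    Good (Perm (Fin n)) ∧ Good (alternatingGroup (Fin n)) := by
  let e : I ⊕ Bool ≃ Fin n := Fintype.equivFinOfCardEq (by simpa using hn)
  exact ⟨h.1.congr e.permCongrHom, h.2.congr e.altCongrHom⟩

theorem good_all (n : ℕ) (hn : 3 ≤ n) : Good (Perm (Fin n)) ∧ Good (alternatingGroup (Fin n)) := by
  by_cases h6 : n ≤ 6
  · have : NeZero (n - 2) := ⟨by omega⟩
    exact good_transfer (I := ZMod (n - 2)) (by rw [ZMod.card]; omega) (good_small _ (by omega))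
  obtain ⟨p, hp, h1, h2⟩ := Nat.exists_prime_lt_and_le_two_mul ((n - 1) / 2) (by omega)
  have : Fact p.Prime := ⟨hp⟩
  have ho : Odd p := hp.odd_of_ne_two (by omega)
  obtain ⟨k, hk⟩ := id ho
  obtain ⟨D, hD, T, hT⟩ := exists_dat' ho (n - p - 2) (by omega) (by omega) (-1)
  obtain ⟨D', hD', T', hT'⟩ := exists_dat' ho (n - p - 2) (by omega) (by omega) 1
  let e : (ZMod p ⊕ D) ⊕ Bool ≃ Fin n := Fintype.equivFinOfCardEq (by simp [hD]; omega)
  let e' : (ZMod p ⊕ D') ⊕ Bool ≃ Fin n := Fintype.equivFinOfCardEq (by simp [hD']; omega)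
  exact ⟨(T.good_perm hT).congr e.permCongrHom, (T'.good_alt hT').congr e'.altCongrHom⟩

theorem pres_cyclic_two {H : Type} [Group H] (a : H) (h : a ^ 2 = 1) (hg : ∀ x, x = 1 ∨ x = a) :
    PresOn ![a, 1] 2 := by
  by_cases ha : a = 1
  · subst ha
    refine presOn_of_fun _ (by rw [eq_top_iff]; rintro x -; rcases hg x with rfl | rfl <;> exact one_mem _)
      FreeGroup.of (fun i => by fin_cases i <;> simp) fun G _ g hg hr π _ => ?_
    have : (⊤ : Subgroup G) ≤ ⊥ := by
      rw [← hg, closure_le]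
      rintro _ ⟨i, rfl⟩
      simpa using hr i
    intro x y _
    rw [mem_bot.mp (this (mem_top x)), mem_bot.mp (this (mem_top y))]
  refine presOn_of_fun _ ?_ ![FreeGroup.of 0 ^ 2, FreeGroup.of 1] (fun i => by fin_cases i <;> simp [h])
    fun G _ g hg hr π hπ => ?_
  · rw [eq_top_iff]
    rintro x -
    rcases hg x with rfl | rfl
    · exact one_mem _
    · exact Subgroup.subset_closure ⟨0, rfl⟩
  have h0 : g 0 ^ 2 = 1 := by simpa using hr 0
  have h1 : g 1 = 1 := by simpa using hr 1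
  have : (⊤ : Subgroup G) ≤ zpowers (g 0) := by
    rw [← hg, closure_le]
    rintro _ ⟨i, rfl⟩
    fin_cases i
    · exact mem_zpowers _
    · simp [h1]
  rw [injective_iff_map_eq_one]
  intro x hx
  obtain ⟨k, rfl⟩ := this (mem_top x)
  obtain ⟨j, rfl | rfl⟩ := Int.even_or_odd' k
  · simp only [zpow_mul]; rw [zpow_two, ← sq, h0, one_zpow]
  · exfalso
    simp only [zpow_add, zpow_mul, zpow_one, map_mul, map_zpow, hπ 0, Matrix.cons_val_zero] at hx
    rw [zpow_two, ← sq, h, one_zpow, one_mul] at hx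
    exact ha hx

theorem pres_le_two {H : Type} [Group H] [Finite H] (h : Nat.card H ≤ 2) : ∃ f : Fin 2 → H, PresOn f 2 := by
  by_cases h1 : ∃ a : H, a ≠ 1
  · obtain ⟨a, ha⟩ := h1
    have : Nontrivial H := ⟨a, 1, ha⟩
    have h2 : Nat.card H = 2 := le_antisymm h Finite.one_lt_card
    refine ⟨_, pres_cyclic_two a (h2 ▸ pow_card_eq_one') fun x => ?_⟩
    by_cases hx : x = 1
    · exact Or.inl hx
    · exact Or.inr (((Nat.card_eq_two_iff' 1).mp h2).unique hx ha)
  · push Not at h1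
    exact ⟨_, pres_cyclic_two 1 (one_pow _) fun x => Or.inl (h1 x)⟩

end Cfsg.Agent.Pres
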