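import Mathlib
import Cfsg.Agent.Pres.Basic

/-! Extending a presentation of a subgroup; padding. -/

set_option autoImplicit false

namespace Cfsg.Agent.Pres

open Subgroup Function

variable {H : Type*} [Group H] {ι κ : Type}

/-- all pairs in the list are equal -/
def Holds {G : Type*} (L : List (G × G)) : Prop := ∀ p ∈ L, p.1 = p.2

@[simp] theorem holds_nil {G : Type*} : Holds ([] : List (G × G)) := by simp [Holds]

@[simp] theorem holds_cons {G : Type*} (a b : G) (L : List (G × G)) : Holds ((a, b) :: L) ↔ a = b ∧ Holds L := by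
  simp [Holds]

@[simp] theorem holds_append {G : Type*} (L K : List (G × G)) : Holds (L ++ K) ↔ Holds L ∧ Holds K := by
  simp [Holds, or_imp, forall_and]

theorem holds_map {G α : Type*} (f : α → G × G) (L : List α) : Holds (L.map f) ↔ ∀ a ∈ L, (f a).1 = (f a).2 := by
  simp [Holds]

theorem presOn_of_list (f : ι → H) (hf : closure (Set.range f) = ⊤) (L : List (FreeGroup ι × FreeGroup ι))
    (h0 : Holds (L.map (Prod.map (FreeGroup.lift f) (FreeGroup.lift f))))
    (h : ∀ (G : Type) [Group G] (g : ι → G), closure (Set.range g) = ⊤ →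
      Holds (L.map (Prod.map (FreeGroup.lift g) (FreeGroup.lift g))) →
      ∀ π : G →* H, (∀ i, π (g i) = f i) → Injective π) : PresOn f L.length := by
  refine presOn_of_fun f hf (fun i => L[i].1 * L[i].2⁻¹) (fun i => ?_) fun G _ g hg hr => h G g hg ?_
  · rw [map_mul, map_inv, mul_inv_eq_one]
    exact (holds_map _ _).mp h0 _ (List.getElem_mem _)
  · rw [holds_map]
    intro a ha
    obtain ⟨i, hi, rfl⟩ := List.getElem_of_mem ha
    simpa [mul_inv_eq_one] using hr ⟨i, hi⟩

theorem lift_inl {A G : Type*} [Group A] [Group G] (fA : ι → A) (ψ : A →* G) (g : κ → G) (x : FreeGroup ι) :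
    FreeGroup.lift (Sum.elim (ψ ∘ fA) g) (FreeGroup.map Sum.inl x) = ψ (FreeGroup.lift fA x) := by
  have : (FreeGroup.lift (Sum.elim (ψ ∘ fA) g)).comp (FreeGroup.map Sum.inl) = ψ.comp (FreeGroup.lift fA) :=
    FreeGroup.ext_hom _ _ fun i => by simp
  exact DFunLike.congr_fun this x

theorem closure_sum {A G : Type*} [Group A] [Group G] {fA : ι → A} (hA : closure (Set.range fA) = ⊤)
    (ψ : A →* G) (g : κ → G) :
    closure (Set.range (Sum.elim (ψ ∘ fA) g)) = ψ.range ⊔ closure (Set.range g) := by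
  rw [Set.Sum.elim_range, Subgroup.closure_union, Set.range_comp, ← MonoidHom.map_closure, hA, MonoidHom.range_eq_map]

theorem lift_theta {A G : Type*} [Group A] [Group G] {fA : ι → A} {s : A → FreeGroup ι}
    (hs : ∀ a, FreeGroup.lift fA (s a) = a) (ψ : A →* G) (g : κ → G) :
    FreeGroup.lift (Sum.elim (ψ ∘ fA) g) ∘ FreeGroup.lift (Sum.elim (fun a => FreeGroup.map Sum.inl (s a))
      fun l => FreeGroup.of (Sum.inr l)) = FreeGroup.lift (Sum.elim ψ g) := by
  rw [← MonoidHom.coe_comp]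
  congr 1
  refine FreeGroup.ext_hom _ _ ?_
  rintro (a | l)
  · simp only [MonoidHom.comp_apply, FreeGroup.lift_apply_of, Sum.elim_inl, lift_inl, hs]
  · simp

/-- a presentation of `H` over a presented group `A` -/
theorem PresOn.extend {A : Type*} [Group A] {fA : ι → A} {m : ℕ} (hA : PresOn fA m) (ι0 : A →* H) (g : κ → H)
    (hgen : ι0.range ⊔ closure (Set.range g) = ⊤) (L : List (FreeGroup (A ⊕ κ) × FreeGroup (A ⊕ κ)))
    (h0 : Holds (L.map (Prod.map (FreeGroup.lift (Sum.elim ι0 g)) (FreeGroup.lift (Sum.elim ι0 g)))))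
    (h : ∀ (G : Type) [Group G] (ψ : A →* G) (g' : κ → G), ψ.range ⊔ closure (Set.range g') = ⊤ →
      Holds (L.map (Prod.map (FreeGroup.lift (Sum.elim ψ g')) (FreeGroup.lift (Sum.elim ψ g')))) →
      ∀ π : G →* H, (∀ a, π (ψ a) = ι0 a) → (∀ l, π (g' l) = g l) → Injective π) :
    PresOn (Sum.elim (ι0 ∘ fA) g) (m + L.length) := by
  obtain ⟨ρ, h1, h2⟩ := hA.exists_rels
  choose s hs using lift_surj hA.1
  let θ : FreeGroup (A ⊕ κ) →* FreeGroup (ι ⊕ κ) :=
    FreeGroup.lift (Sum.elim (fun a => FreeGroup.map Sum.inl (s a)) fun l => FreeGroup.of (Sum.inr l))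
  have e0 := lift_theta hs ι0 g
  have := presOn_of_list (Sum.elim (ι0 ∘ fA) g) ((closure_sum hA.1 _ _).trans hgen)
    ((List.ofFn fun i => (FreeGroup.map Sum.inl (ρ i), 1)) ++ L.map (Prod.map θ θ)) ?_ ?_
  · simpa using this
  · rw [List.map_append, holds_append, List.map_map, Prod.map_comp_map, e0]
    refine ⟨?_, h0⟩
    rw [holds_map]
    intro a ha
    obtain ⟨i, rfl⟩ := List.mem_ofFn.mp ha
    simp [lift_inl, h1]
  · intro G _ g' hg hr π hπ
    rw [List.map_append, holds_append, List.map_map, Prod.map_comp_map] at hr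
    obtain ⟨ψ, hψ⟩ := h2 G (g' ∘ Sum.inl) fun i => by
      have := (holds_map _ _).mp hr.1 _ (List.mem_ofFn.mpr ⟨i, rfl⟩)
      simp only [Prod.map_fst, Prod.map_snd, map_one] at this
      rw [← this]
      have : FreeGroup.lift (g' ∘ Sum.inl) = (FreeGroup.lift g').comp (FreeGroup.map Sum.inl) :=
        FreeGroup.ext_hom _ _ fun i => by simp
      rw [this]; rfl
    obtain ⟨g'', rfl⟩ : ∃ g'', g' = Sum.elim (ψ ∘ fA) g'' := ⟨g' ∘ Sum.inr, by
      ext (a | l)
      · simp [hψ]
      · simp⟩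
    refine h G ψ g'' ((closure_sum hA.1 _ _).symm.trans hg) (lift_theta hs ψ g'' ▸ hr.2) π (fun a => ?_)
      fun l => hπ (Sum.inr l)
    exact DFunLike.congr_fun (MonoidHom.eq_of_eqOn_dense hA.1 (f := π.comp ψ) (g := ι0) (by
      rintro _ ⟨i, rfl⟩; exact hπ (Sum.inl i))) a

/-- padding with trivial generators -/
theorem PresOn.pad [Fintype ι] {f : ι → H} {m : ℕ} (h : PresOn f m) (k : ℕ) (hk : Fintype.card ι ≤ k) :
    ∃ g : Fin k → H, PresOn g (m + (k - Fintype.card ι)) := by
  obtain ⟨e⟩ : Nonempty (ι ↪ Fin k) := Function.Embedding.nonempty_of_card_le (by simpa using hk)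
  have := h.sup (Function.extend e f 1) e e.injective fun i => e.injective.extend_apply _ _ i
  rw [Fintype.card_fin] at this
  exact ⟨_, this⟩

end Cfsg.Agent.Pres
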