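import Mathlib
import Cfsg.Agent.Pres.Basic

/-! A root subgroup as a cyclic module for a torus element. -/

set_option autoImplicit false
set_option linter.unusedSectionVars false

namespace Cfsg.Agent.Pres

open Polynomial

variable {G : Type*} [Group G]

/-- conjugates under powers -/
def cu (h u : G) (i : ℕ) : G := h ^ i * u * (h ^ i)⁻¹

theorem cu_zero (h u : G) : cu h u 0 = u := by simp [cu]

theorem cu_one (h u : G) : cu h u 1 = h * u * h⁻¹ := by simp [cu]

theorem cu_succ (h u : G) (i : ℕ) : cu h u (i + 1) = h * cu h u i * h⁻¹ := by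
  rw [cu, cu, pow_succ']; group

theorem cu_add (h u : G) (i j : ℕ) : cu h u (i + j) = h ^ i * cu h u j * (h ^ i)⁻¹ := by
  rw [cu, cu, pow_add]; group

theorem map_cu {H : Type*} [Group H] (f : G →* H) (h u : G) (i : ℕ) : f (cu h u i) = cu (f h) (f u) i := by
  simp [cu]

theorem commute_conj {a b : G} (h : Commute a b) (g : G) : Commute (g * a * g⁻¹) (g * b * g⁻¹) :=
  h.map (MulAut.conj g)

theorem cu_comm_of_le {h u : G} {n : ℕ} (hn : ∀ m ≤ n, Commute u (cu h u m)) {i j : ℕ} (h1 : i ≤ j + n)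
    (h2 : j ≤ i + n) : Commute (cu h u i) (cu h u j) := by
  wlog hij : i ≤ j generalizing i j
  · exact (this h2 h1 (by omega)).symm
  obtain ⟨k, rfl⟩ := Nat.exists_eq_add_of_le hij
  rw [cu_add]
  exact commute_conj (hn k (by omega)) _

theorem baum_step {a a' b b' : G} (h : Commute (a * a') (b' * b)) (h1 : Commute a b') (h2 : Commute a' b')
    (h3 : Commute a' b) : Commute a b := by
  have := h.eq
  rw [mul_assoc, (h2.mul_right h3).eq, ← mul_assoc, ← mul_assoc, h1.eq, ← mul_assoc, mul_left_inj,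
    mul_assoc, mul_assoc, mul_right_inj] at this
  exact this

theorem baum_one {h u : G} {k : ℕ} (h1 : Commute u (cu h u 1)) (h2 : cu h u k = u * cu h u 1) (i j : ℕ) :
    Commute (cu h u i) (cu h u j) := by
  have key : ∀ n, ∀ m ≤ n + 1, Commute u (cu h u m) := by
    intro n
    induction n with
    | zero => intro m hm; interval_cases m; exacts [by rw [cu_zero], h1]
    | succ n ih =>
      intro m hm
      rcases hm.lt_or_eq with hm | rfl
      · exact ih m (by omega)
      have e := commute_conj (ih (n + 1) le_rfl) (h ^ k)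
      rw [← cu_add, add_comm k, cu_add, ← cu, h2] at e
      rw [show h ^ (n + 1) * (u * cu h u 1) * (h ^ (n + 1))⁻¹ = cu h u (n + 1) * cu h u (n + 1 + 1) by
        rw [cu_add h u (n + 1) 1, show cu h u (n + 1) = h ^ (n + 1) * u * (h ^ (n + 1))⁻¹ from rfl]
        generalize cu h u 1 = a; group] at e
      exact baum_step e (ih _ le_rfl) (cu_comm_of_le ih (by omega) (by omega))
        (cu_comm_of_le ih (by omega) (by omega))
  exact cu_comm_of_le (key (i + j)) (by omega) (by omega)

theorem baum_two {h u : G} {k : ℕ} {z : ℤ} (h1 : Commute u (cu h u 1)) (h1' : Commute u (cu h u 2))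
    (h2 : cu h u k = u * cu h u 1 ^ z * cu h u 2) (i j : ℕ) : Commute (cu h u i) (cu h u j) := by
  have key : ∀ n, ∀ m ≤ n + 2, Commute u (cu h u m) := by
    intro n
    induction n with
    | zero => intro m hm; interval_cases m; exacts [by rw [cu_zero], h1, h1']
    | succ n ih =>
      intro m hm
      rcases hm.lt_or_eq with hm | rfl
      · exact ih m (by omega)
      have e := commute_conj (ih (n + 1) (by omega)) (h ^ k)
      rw [← cu_add, add_comm k, cu_add, ← cu, h2] at e
      rw [show h ^ (n + 1) * (u * cu h u 1 ^ z * cu h u 2) * (h ^ (n + 1))⁻¹ =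
        cu h u (n + 1) * cu h u (n + 1 + 1) ^ z * cu h u (n + 1 + 2) by
        rw [cu_add h u (n + 1) 1, cu_add h u (n + 1) 2, conj_zpow,
          show cu h u (n + 1) = h ^ (n + 1) * u * (h ^ (n + 1))⁻¹ from rfl]
        generalize cu h u 1 ^ z = a; generalize cu h u 2 = b; group, mul_assoc u] at e
      have c : ∀ {i j : ℕ}, i ≤ j + (n + 2) → j ≤ i + (n + 2) → Commute (cu h u i) (cu h u j) :=
        cu_comm_of_le ih
      refine baum_step e ((ih _ (by omega)).mul_right ((ih _ (by omega)).zpow_right _)) ?_ ?_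
      · exact (((c (by omega) (by omega)).mul_right ((c (by omega) (by omega)).zpow_right _)).zpow_left _).mul_left
          ((c (by omega) (by omega)).mul_right ((c (by omega) (by omega)).zpow_right _))
      · exact ((c (by omega) (by omega)).zpow_left _).mul_left (c (by omega) (by omega))
  exact cu_comm_of_le (key (i + j)) (by omega) (by omega)

variable {p : ℕ} [Fact p.Prime]

/-- product of powers of conjugates -/
def WW (h u : G) (c : ℕ → ZMod p) : ℕ → G
  | 0 => 1
  | n + 1 => WW h u c n * cu h u n ^ (c n).val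

/-- the word attached to a polynomial -/
noncomputable def PW (h u : G) (f : (ZMod p)[X]) : G := WW h u f.coeff (f.natDegree + 1)

theorem map_WW {H : Type*} [Group H] (f : G →* H) (h u : G) (c : ℕ → ZMod p) (n : ℕ) :
    f (WW h u c n) = WW (f h) (f u) c n := by
  induction n with
  | zero => simp [WW]
  | succ n ih => simp [WW, ih, map_cu]

theorem map_PW {H : Type*} [Group H] (f : G →* H) (h u : G) (g : (ZMod p)[X]) :
    f (PW h u g) = PW (f h) (f u) g := map_WW _ _ _ _ _

theorem WW_mem {K : Subgroup G} {h u : G} (hK : ∀ i, cu h u i ∈ K) (c : ℕ → ZMod p) (n : ℕ) :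
    WW h u c n ∈ K := by
  induction n with
  | zero => exact one_mem _
  | succ n ih => exact mul_mem ih (pow_mem (hK n) _)

theorem PW_mem {K : Subgroup G} {h u : G} (hK : ∀ i, cu h u i ∈ K) (f : (ZMod p)[X]) : PW h u f ∈ K :=
  WW_mem hK _ _

theorem cu_mem {K : Subgroup G} {h u : G} (hh : h ∈ K) (hu : u ∈ K) (i : ℕ) : cu h u i ∈ K :=
  mul_mem (mul_mem (pow_mem hh _) hu) (inv_mem (pow_mem hh _))

theorem PW_commute {h u g : G} (hg : ∀ i, Commute g (cu h u i)) (f : (ZMod p)[X]) : Commute g (PW h u f) :=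
  (Subgroup.mem_centralizer_singleton_iff.mp (PW_mem (K := Subgroup.centralizer {g})
    (fun i => Subgroup.mem_centralizer_singleton_iff.mpr (hg i).eq.symm) f)).symm

theorem PW_conj (g h u : G) (f : (ZMod p)[X]) : g * PW h u f * g⁻¹ = PW (g * h * g⁻¹) (g * u * g⁻¹) f :=
  map_PW (MulAut.conj g).toMonoidHom h u f

theorem PW_congr {h u h' u' : G} (e : ∀ i, cu h u i = cu h' u' i) (f : (ZMod p)[X]) : PW h u f = PW h' u' f := by
  unfold PW
  generalize f.natDegree + 1 = n
  induction n with
  | zero => rfl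
  | succ n ih => rw [WW, WW, ih, e]

theorem PW_eq_WW (h u : G) (f : (ZMod p)[X]) {n : ℕ} (hn : f.natDegree < n) : PW h u f = WW h u f.coeff n := by
  induction hn with
  | refl => rfl
  | step hn ih => rw [WW, ← ih, coeff_eq_zero_of_natDegree_lt hn]; simp

theorem PW_one (h u : G) : PW h u (1 : (ZMod p)[X]) = u := by
  simp [PW, WW, cu_zero, ZMod.val_one]

theorem PW_zero (h u : G) : PW h u (0 : (ZMod p)[X]) = 1 := by simp [PW, WW]

theorem pow_val_add {a : G} (ha : a ^ p = 1) (x y : ZMod p) : a ^ (x + y).val = a ^ x.val * a ^ y.val := by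
  rw [← pow_add, ZMod.val_add, ← pow_eq_pow_mod _ ha]

theorem PW_X_mul (h u : G) (f : (ZMod p)[X]) : PW h u (X * f) = h * PW h u f * h⁻¹ := by
  rw [PW_eq_WW h u _ (n := f.natDegree + 1 + 1) (natDegree_mul_le.trans_lt (by
    have := natDegree_X_le (R := ZMod p); omega)), PW]
  generalize f.natDegree + 1 = n
  induction n with
  | zero => simp [WW]
  | succ n ih => rw [WW, ih, WW, coeff_X_mul, cu_succ, conj_pow]; group

section
variable {h u : G} (hc : ∀ i j, Commute (cu h u i) (cu h u j)) (hp : u ^ p = 1)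
include hc hp

theorem PW_add (f g : (ZMod p)[X]) : PW h u (f + g) = PW h u f * PW h u g := by
  have h1 := natDegree_add_le f g
  rw [PW_eq_WW h u _ (n := max f.natDegree g.natDegree + 1) (by omega),
    PW_eq_WW h u f (n := max f.natDegree g.natDegree + 1) (by omega),
    PW_eq_WW h u g (n := max f.natDegree g.natDegree + 1) (by omega)]
  generalize max f.natDegree g.natDegree + 1 = n
  induction n with
  | zero => simp [WW]
  | succ n ih =>
    have h2 : Commute (cu h u n ^ (f.coeff n).val) (WW h u g.coeff n) :=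
      (Subgroup.mem_centralizer_singleton_iff.mp (WW_mem (K := Subgroup.centralizer {_})
        (fun i => Subgroup.mem_centralizer_singleton_iff.mpr ((hc i n).pow_right _).eq) _ _)).symm
    rw [WW, WW, WW, ih, coeff_add, pow_val_add (by rw [cu, conj_pow, hp]; simp), mul_assoc, mul_assoc,
      ← mul_assoc (WW h u g.coeff n), ← h2.eq, mul_assoc]

theorem PW_nsmul (n : ℕ) (f : (ZMod p)[X]) : PW h u (n • f) = PW h u f ^ n := by
  induction n with
  | zero => simp [PW_zero]
  | succ n ih => rw [succ_nsmul, PW_add hc hp, ih, pow_succ]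

theorem PW_mul_eq_one {f : (ZMod p)[X]} (hf : PW h u f = 1) (g : (ZMod p)[X]) : PW h u (g * f) = 1 := by
  induction g using Polynomial.induction_on with
  | C a => rw [← ZMod.natCast_zmod_val a, map_natCast, ← nsmul_eq_mul, PW_nsmul hc hp, hf, one_pow]
  | add g g' h1 h2 => rw [add_mul, PW_add hc hp, h1, h2, one_mul]
  | monomial n a ih => rw [pow_succ', mul_left_comm, mul_assoc X, PW_X_mul, ih]; simp

theorem PW_fixed {k : ℕ} (hk : cu h u k = u * cu h u 1) {f : (ZMod p)[X]} (hf : Commute h (PW h u f)) :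
    PW h u f = 1 := by
  have h1 : ∀ g : (ZMod p)[X], PW h u (X ^ k * g) = h ^ k * PW h u g * (h ^ k)⁻¹ := fun g => by
    clear hk
    induction k with
    | zero => simp
    | succ k ih => rw [pow_succ' X, mul_assoc, PW_X_mul, ih, pow_succ']; group
  have h2 : PW h u (X ^ k - (1 + X) : (ZMod p)[X]) = 1 := by
    have := PW_add hc hp (X ^ k - (1 + X) : (ZMod p)[X]) (1 + X)
    rw [sub_add_cancel, PW_add hc hp, ← mul_one (X ^ k), h1, ← mul_one X, PW_X_mul, PW_one, ← cu, hk,
      cu_one, mul_one, mul_one] at this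
    exact (right_eq_mul.mp this)
  have h3 := PW_add hc hp (f * (X ^ k - (1 + X))) (f + X * f)
  rw [show f * (X ^ k - (1 + X)) + (f + X * f) = X ^ k * f by ring,
    PW_mul_eq_one hc hp h2, one_mul, PW_add hc hp, PW_X_mul, h1, (hf.pow_left k).eq, hf.eq, mul_inv_cancel_right, mul_inv_cancel_right] at h3
  exact left_eq_mul.mp h3

theorem exists_mod {F : Type*} [Field F] [Algebra (ZMod p) F] {θ : F}
    (hθ : ∀ t, ∃ f : (ZMod p)[X], aeval θ f = t) (hm : PW h u (minpoly (ZMod p) θ) = 1) :
    ∃ x : F → G, (∀ s t, x (s + t) = x s * x t) ∧ (∀ t, h * x t * h⁻¹ = x (θ * t)) ∧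
      ∀ f : (ZMod p)[X], x (aeval θ f) = PW h u f := by
  choose c hc' using hθ
  have key : ∀ f g : (ZMod p)[X], aeval θ f = aeval θ g → PW h u f = PW h u g := fun f g e => by
    obtain ⟨a, ha⟩ := minpoly.dvd (ZMod p) θ (p := f - g) (by rw [map_sub, e, sub_self])
    rw [← sub_add_cancel f g, PW_add hc hp, ha, mul_comm, PW_mul_eq_one hc hp hm, one_mul]
  refine ⟨fun t => PW h u (c t), fun s t => ?_, fun t => ?_, fun f => key _ _ (hc' _)⟩
  · rw [← PW_add hc hp]; exact key _ _ (by simp [hc'])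
  · rw [← PW_X_mul]; exact key _ _ (by simp [hc'])

end

theorem add_zero_eq {F : Type*} [AddGroup F] {x : F → G} (h1 : ∀ s t, x (s + t) = x s * x t) : x 0 = 1 := by
  have := h1 0 0
  rw [add_zero] at this
  exact left_eq_mul.1 this

theorem add_neg_eq {F : Type*} [AddGroup F] {x : F → G} (h1 : ∀ s t, x (s + t) = x s * x t) (t : F) :
    x (-t) = (x t)⁻¹ := by
  rw [eq_inv_iff_mul_eq_one, ← h1, neg_add_cancel, add_zero_eq h1]

theorem add_nsmul_eq {F : Type*} [AddGroup F] {x : F → G} (h1 : ∀ s t, x (s + t) = x s * x t) (n : ℕ) (t : F) :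
    x (n • t) = x t ^ n := by
  induction n with
  | zero => simp [add_zero_eq h1]
  | succ n ih => rw [succ_nsmul, h1, ih, pow_succ]

theorem add_zsmul_eq {F : Type*} [AddGroup F] {x : F → G} (h1 : ∀ s t, x (s + t) = x s * x t) (n : ℤ) (t : F) :
    x (n • t) = x t ^ n := by
  obtain ⟨n, rfl | rfl⟩ := n.eq_nat_or_neg
  · simp [add_nsmul_eq h1]
  · simp [add_nsmul_eq h1, add_neg_eq h1]

theorem cu_eq {F : Type*} [Field F] {θ : F} {x : F → G} {h : G} (h2 : ∀ t, h * x t * h⁻¹ = x (θ * t)) (a : F)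
    (i : ℕ) : cu h (x a) i = x (θ ^ i * a) := by
  induction i with
  | zero => simp [cu_zero]
  | succ i ih => rw [cu_succ, ih, h2, pow_succ', mul_assoc]

theorem PW_eq {F : Type*} [Field F] [Algebra (ZMod p) F] {θ : F} {x : F → G} {h : G}
    (h1 : ∀ s t, x (s + t) = x s * x t) (h2 : ∀ t, h * x t * h⁻¹ = x (θ * t)) (a : F) (f : (ZMod p)[X]) :
    PW h (x a) f = x (aeval θ f * a) := by
  rw [PW, aeval_eq_sum_range]
  generalize f.natDegree + 1 = n
  induction n with
  | zero => simp [WW, add_zero_eq h1]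
  | succ n ih =>
    rw [WW, ih, Finset.sum_range_succ, add_mul, h1, cu_eq h2, ← add_nsmul_eq h1]
    congr 2
    conv_rhs => rw [← ZMod.natCast_zmod_val (f.coeff n), Nat.cast_smul_eq_nsmul, smul_mul_assoc]

/-- an element of large multiplicative order generates the field -/
theorem aeval_surj_of_card {F : Type*} [Field F] [Fintype F] [Algebra (ZMod p) F] {θ : F} (h0 : θ ≠ 0)
    (h : Fintype.card F < (orderOf θ + 1) ^ 2) (t : F) : ∃ f : (ZMod p)[X], aeval θ f = t := by
  let K := IntermediateField.adjoin (ZMod p) {θ}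
  have h1 : orderOf θ + 1 ≤ Nat.card K := by
    let θ' : K := ⟨θ, IntermediateField.mem_adjoin_simple_self _ _⟩
    have h2 : θ' ≠ 0 := fun e => h0 (congrArg Subtype.val e)
    have h3 : orderOf (Units.mk0 θ' h2) = orderOf θ := by
      rw [← orderOf_units, ← orderOf_injective K.val.toMonoidHom Subtype.val_injective]; rfl
    have := orderOf_le_card (x := Units.mk0 θ' h2)
    rw [h3, Nat.card_units] at this
    have : 0 < Nat.card K := Nat.card_pos
    omega
  have h2 : Module.finrank K F = 1 := by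
    have e := Module.natCard_eq_pow_finrank (K := K) (V := F)
    have h3 : 0 < Module.finrank K F := Module.finrank_pos
    by_contra h4
    have : (orderOf θ + 1) ^ 2 ≤ Nat.card K ^ Module.finrank K F :=
      (Nat.pow_le_pow_left h1 2).trans (Nat.pow_le_pow_right Nat.card_pos (by omega))
    rw [← e, Nat.card_eq_fintype_card] at this
    omega
  have h3 : t ∈ K := (IntermediateField.finrank_eq_one_iff_eq_top.mp h2).ge trivial
  have h4 : t ∈ K.toSubalgebra := h3
  rw [IntermediateField.adjoin_simple_toSubalgebra_of_isAlgebraic (Algebra.IsAlgebraic.isAlgebraic θ),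
    Algebra.adjoin_singleton_eq_range_aeval] at h4
  exact h4

theorem exists_prim (F : Type*) [Field F] [Fintype F] : ∃ ζ : F, ζ ≠ 0 ∧ orderOf ζ + 1 = Fintype.card F ∧
    ∀ t, t ≠ 0 → ∃ k : ℕ, ζ ^ k = t := by
  classical
  obtain ⟨g, hg⟩ := IsCyclic.exists_monoid_generator (α := Fˣ)
  refine ⟨g, g.ne_zero, ?_, fun t ht => ?_⟩
  · rw [orderOf_units, orderOf_eq_card_of_forall_mem_powers hg, Nat.card_units, Nat.card_eq_fintype_card]
    have := Fintype.card_pos (α := F)
    omega
  · obtain ⟨k, hk⟩ := hg (Units.mk0 t ht)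
    exact ⟨k, by simpa using congrArg Units.val hk⟩

theorem aeval_surj_pow {F : Type*} [Field F] [Fintype F] [Algebra (ZMod p) F] {ζ : F} (h0 : ζ ≠ 0)
    (h : orderOf ζ + 1 = Fintype.card F) {k : ℕ} (hk : k ≠ 0)
    (hq : ∀ m, m * Nat.gcd (orderOf ζ) k = orderOf ζ → orderOf ζ + 1 < (m + 1) ^ 2) (t : F) :
    ∃ f : (ZMod p)[X], aeval (ζ ^ k) f = t := by
  refine aeval_surj_of_card (pow_ne_zero k h0) ?_ t
  rw [← h, orderOf_pow' _ hk]
  exact hq _ (Nat.div_mul_cancel (Nat.gcd_dvd_left _ _))

end Cfsg.Agent.Pres
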