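import Mathlib
import Cfsg.Agent.Pres.Mod
import Cfsg.Agent.Root.SL2

/-! Short presentations of `SL₂(q)`. -/

set_option autoImplicit false
set_option linter.unusedSectionVars false

namespace Cfsg.Agent.Pres

open Subgroup Polynomial Root
open scoped MatrixGroups

variable {G : Type*} [Group G] {F : Type*} [Field F]

/-- diagonal matrices -/
def mH (a : F) (ha : a ≠ 0) : SL(2, F) := ⟨!![a, 0; 0, a⁻¹], by simp [ha]⟩

@[simp] theorem mH_val (a : F) (ha : a ≠ 0) : (mH a ha).1 = !![a, 0; 0, a⁻¹] := rfl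

theorem mH_mU {a : F} (ha : a ≠ 0) (t : F) : mH a ha * mU t * (mH a ha)⁻¹ = mU (a ^ 2 * t) := by
  rw [mul_inv_eq_iff_eq_mul]
  ext i j; fin_cases i <;> fin_cases j <;> simp [Matrix.mul_apply, Fin.sum_univ_two]
  field_simp

theorem mW_mH {a : F} (ha : a ≠ 0) : mW * mH a ha * mW⁻¹ = (mH a ha)⁻¹ := by
  rw [mul_inv_eq_iff_eq_mul, eq_inv_mul_iff_mul_eq]
  ext i j; fin_cases i <;> fin_cases j <;> simp [Matrix.mul_apply, Fin.sum_univ_two, ha]

theorem mW_mU (t : F) : mW * mU t * mW⁻¹ = mL (-t) := by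
  rw [mul_inv_eq_iff_eq_mul]
  ext i j; fin_cases i <;> fin_cases j <;> simp [Matrix.mul_apply, Fin.sum_univ_two]

theorem braid_mH {a : F} (ha : a ≠ 0) : mU a * (mW * mU a⁻¹ * mW⁻¹) * mU a = mH a ha * mW := by
  rw [mW_mU]
  ext i j; fin_cases i <;> fin_cases j <;> simp [Matrix.mul_apply, Fin.sum_univ_two, ha]

theorem braid_one : mU (1 : F) * (mW * mU 1 * mW⁻¹) * mU 1 = mW := by
  rw [mW_mU]; exact mW_eq.symm

theorem mH_pow {a : F} (ha : a ≠ 0) (n : ℕ) : mH a ha ^ n = mH (a ^ n) (pow_ne_zero n ha) := by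
  induction n with
  | zero => ext i j; fin_cases i <;> fin_cases j <;> simp
  | succ n ih =>
    rw [pow_succ, ih]
    ext i j; fin_cases i <;> fin_cases j <;> simp [Matrix.mul_apply, Fin.sum_univ_two, pow_succ, mul_comm]

theorem mH_one : mH (1 : F) one_ne_zero = 1 := by ext i j; fin_cases i <;> fin_cases j <;> simp

theorem sl2_top {K : Subgroup SL(2, F)} (h1 : ∀ t, mU t ∈ K) (h2 : mW ∈ K) : K = ⊤ := by
  rw [eq_top_iff, ← upper_sup_lower]
  refine sup_le (fun g hg => ?_) (fun g hg => ?_)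
  · obtain ⟨t, rfl⟩ := mem_upper.1 hg; exact h1 t
  · obtain ⟨t, rfl⟩ := mem_lower.1 hg
    rw [← neg_neg t, ← mW_mU]
    exact mul_mem (mul_mem h2 (h1 _)) (inv_mem h2)

theorem sl2_hom_ext {φ ψ : SL(2, F) →* G} (h1 : ∀ t, φ (mU t) = ψ (mU t)) (h2 : φ mW = ψ mW) : φ = ψ :=
  MonoidHom.eq_of_eqOn_top (by
    have := sl2_top (K := φ.eqLocus ψ) h1 h2
    intro g hg
    exact (this ▸ hg : g ∈ φ.eqLocus ψ))

theorem braid_conj {ζ : F} (h0 : ζ ≠ 0) {h w : G} {x : F → G} (xh : ∀ t, h * x t * h⁻¹ = x (ζ ^ 2 * t))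
    (wh : w * h * w⁻¹ = h⁻¹) {t : F} {k : ℕ} (b : x t * (w * x t⁻¹ * w⁻¹) * x t = h ^ k * w) :
    x (ζ ^ 2 * t) * (w * x (ζ ^ 2 * t)⁻¹ * w⁻¹) * x (ζ ^ 2 * t) = h ^ (k + 2) * w := by
  have e1 : w⁻¹ * h * w = h⁻¹ := by
    rw [← inv_inj, inv_inv, mul_inv_rev, mul_inv_rev, inv_inv, ← wh]; group
  have e2 : x (ζ ^ 2 * t)⁻¹ = h⁻¹ * x t⁻¹ * h := by
    have := xh (ζ ^ 2 * t)⁻¹
    rw [show ζ ^ 2 * (ζ ^ 2 * t)⁻¹ = t⁻¹ by field_simp] at this
    rw [← this]; group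
  have e3 : w * h⁻¹ = h * w := by rw [← e1]; group
  have e4 : h * w⁻¹ = w⁻¹ * h⁻¹ := by rw [← wh]; group
  rw [e2, ← xh, ← mul_assoc w, ← mul_assoc w, e3, mul_assoc _ h w⁻¹, e4]
  calc _ = h * (x t * (w * x t⁻¹ * w⁻¹) * x t) * h⁻¹ := by group
    _ = _ := by rw [b, mul_assoc, mul_assoc, e3]; group

theorem sl2_core [Finite F] {ζ : F} (h0 : ζ ≠ 0) (hζ : ∀ t, t ≠ 0 → ∃ k : ℕ, ζ ^ k = t) {h w : G} {x : F → G}
    (xa : ∀ s t, x (s + t) = x s * x t) (xh : ∀ t, h * x t * h⁻¹ = x (ζ ^ 2 * t))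
    (wh : w * h * w⁻¹ = h⁻¹) (b1 : x 1 * (w * x 1 * w⁻¹) * x 1 = w)
    (b2 : x ζ * (w * x ζ⁻¹ * w⁻¹) * x ζ = h * w) :
    ∃ φ : SL(2, F) →* G, (∀ t, φ (mU t) = x t) ∧ φ mW = w ∧ φ (mH ζ h0) = h := by
  have b : ∀ k : ℕ, x (ζ ^ k) * (w * x (ζ ^ k)⁻¹ * w⁻¹) * x (ζ ^ k) = h ^ k * w := by
    intro k
    induction k using Nat.twoStepInduction with
    | zero => simpa using b1
    | one => simpa using b2
    | more k ih _ => have := braid_conj h0 xh wh ih; rwa [← pow_add, add_comm 2] at this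
  have e1 : w⁻¹ * h * w = h⁻¹ := by
    rw [← inv_inj, inv_inv, mul_inv_rev, mul_inv_rev, inv_inv, ← wh]; group
  let S : St2 F G :=
    { x := x
      y := fun t => w * x (-t) * w⁻¹
      x_add := xa
      y_add := fun s t => by rw [neg_add, xa]; group
      conj := fun t ht u => by
        obtain ⟨k, rfl⟩ := hζ t ht
        simp only [neg_neg, b k]
        have e2 := cu_eq xh ((ζ ^ k)⁻¹ * (ζ ^ k)⁻¹ * u) k
        rw [show (ζ ^ 2) ^ k * ((ζ ^ k)⁻¹ * (ζ ^ k)⁻¹ * u) = u by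
          rw [← pow_mul, mul_comm 2, pow_mul]; field_simp, cu] at e2
        have e3 : h ^ k * w = w * (h ^ k)⁻¹ := by
          rw [← inv_pow, ← e1, show w⁻¹ * h * w = w⁻¹ * h * w⁻¹⁻¹ by rw [inv_inv], conj_pow]; group
        rw [e3, ← e2]; group }
  obtain ⟨φ, h1, h2⟩ := St2.exists_hom (S := S) fun t u ht hu => S.h_mul_of_finite ht hu
  change ∀ t, _ = x t at h1
  change ∀ t, _ = w * x (-t) * w⁻¹ at h2
  have h3 : φ mW = w := by rw [mW_eq, map_mul, map_mul, h1, h2, neg_neg, b1]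
  refine ⟨φ, h1, h3, ?_⟩
  have := congrArg φ (braid_mH h0)
  simp only [map_mul, map_inv, h1, h3, b2] at this
  exact (mul_right_cancel this).symm

theorem sl2_inj {ζ : F} (h0 : ζ ≠ 0) {g : Fin 3 → G} (hg : closure (Set.range g) = ⊤)
    (φ : SL(2, F) →* G) (h1 : φ (mU 1) = g 0) (h2 : φ (mH ζ h0) = g 1) (h3 : φ mW = g 2)
    (π : G →* SL(2, F)) (hπ : ∀ t, π (φ (mU t)) = mU t) (hπ' : π (g 2) = mW) : Function.Injective π := by
  have e : π.comp φ = MonoidHom.id _ := sl2_hom_ext hπ (by simp [h3, hπ'])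
  have hs : φ.range = ⊤ := by
    rw [eq_top_iff, ← hg, closure_le]
    rintro _ ⟨i, rfl⟩
    fin_cases i
    exacts [⟨_, h1⟩, ⟨_, h2⟩, ⟨_, h3⟩]
  rw [injective_iff_map_eq_one]
  intro a ha
  obtain ⟨b, rfl⟩ := MonoidHom.range_eq_top.mp hs a
  have := DFunLike.congr_fun e b
  simp only [MonoidHom.comp_apply, MonoidHom.id_apply, ha] at this
  rw [← this, map_one]

variable {p : ℕ} [Fact p.Prime] [Algebra (ZMod p) F]

theorem sl2_gen {ζ : F} (h0 : ζ ≠ 0) (hθ : ∀ t, ∃ f : (ZMod p)[X], aeval (ζ ^ 2) f = t) :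
    closure (Set.range ![mU (1 : F), mH ζ h0, mW]) = ⊤ := by
  refine sl2_top (fun t => ?_) (subset_closure ⟨2, rfl⟩)
  obtain ⟨f, rfl⟩ := hθ t
  rw [← mul_one (aeval _ f), ← PW_eq mU_add (mH_mU h0)]
  refine PW_mem (cu_mem ?_ ?_) f
  exacts [subset_closure ⟨1, rfl⟩, subset_closure ⟨0, rfl⟩]

theorem mU_pow_p : mU (1 : F) ^ p = 1 := by
  have : CharP F p := charP_of_injective_algebraMap (algebraMap (ZMod p) F).injective p
  rw [← add_nsmul_eq mU_add]; simp [mU_zero]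

/-- relators in odd characteristic -/
noncomputable def relOdd (k : ℕ) (z : ℤ) (m f f' : (ZMod p)[X]) (u h w : G) : Fin 8 → G :=
  ![u ^ p, u * cu h u 1 * (cu h u 1 * u)⁻¹, u * cu h u 2 * (cu h u 2 * u)⁻¹,
    cu h u k * (u * cu h u 1 ^ z * cu h u 2)⁻¹, PW h u m, w * h * w⁻¹ * h⁻¹⁻¹, u * (w * u * w⁻¹) * u * w⁻¹,
    PW h u f * (w * PW h u f' * w⁻¹) * PW h u f * (h * w)⁻¹]

theorem map_relOdd {H : Type*} [Group H] (φ : G →* H) (k : ℕ) (z : ℤ) (m f f' : (ZMod p)[X]) (u h w : G)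
    (i : Fin 8) : φ (relOdd k z m f f' u h w i) = relOdd k z m f f' (φ u) (φ h) (φ w) i := by
  fin_cases i <;> simp [relOdd, map_cu, map_PW]

theorem sl2_pres_odd [Finite F] {ζ : F} (h0 : ζ ≠ 0) (hζ : ∀ t, t ≠ 0 → ∃ k : ℕ, ζ ^ k = t)
    (hθ : ∀ t, ∃ f : (ZMod p)[X], aeval (ζ ^ 2) f = t) {k : ℕ} {z : ℤ}
    (hk : (ζ ^ 2) ^ k = 1 + z * ζ ^ 2 + (ζ ^ 2) ^ 2) : PresOn ![mU (1 : F), mH ζ h0, mW] 8 := by
  obtain ⟨f, hf⟩ := hθ ζ
  obtain ⟨f', hf'⟩ := hθ ζ⁻¹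
  have pw : ∀ g : (ZMod p)[X], PW (mH ζ h0) (mU 1) g = mU (aeval (ζ ^ 2) g) := fun g => by
    rw [PW_eq mU_add (mH_mU h0), mul_one]
  refine presOn_of_fun _ (sl2_gen h0 hθ) (relOdd k z (minpoly (ZMod p) (ζ ^ 2)) f f' (FreeGroup.of 0)
    (FreeGroup.of 1) (FreeGroup.of 2)) (fun i => ?_) fun G _ g hg hr π hπ => ?_
  · rw [map_relOdd]
    simp only [FreeGroup.lift_apply_of, Matrix.cons_val_zero, Matrix.cons_val_one, Matrix.cons_val]
    fin_cases i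
    · exact mU_pow_p
    · refine mul_inv_eq_one.mpr ?_
      rw [cu_eq (mH_mU h0), ← mU_add, ← mU_add, add_comm]
    · refine mul_inv_eq_one.mpr ?_
      rw [cu_eq (mH_mU h0), ← mU_add, ← mU_add, add_comm]
    · refine mul_inv_eq_one.mpr ?_
      simp only [cu_eq (mH_mU h0), ← add_zsmul_eq (x := (mU : F → _)) mU_add, ← mU_add, hk]; simp
    · exact (pw _).trans (by rw [minpoly.aeval, mU_zero])
    · exact mul_inv_eq_one.mpr (mW_mH h0)
    · exact mul_inv_eq_one.mpr braid_one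
    · refine mul_inv_eq_one.mpr ?_
      rw [pw, pw, hf, hf', braid_mH]
  · simp only [map_relOdd, FreeGroup.lift_apply_of] at hr
    obtain ⟨x, xa, xh, xf⟩ := exists_mod (baum_two (mul_inv_eq_one.mp (hr 1)) (mul_inv_eq_one.mp (hr 2))
      (mul_inv_eq_one.mp (hr 3))) (hr 0) hθ (hr 4)
    have x1 : x 1 = g 0 := by simpa [PW_one] using xf 1
    obtain ⟨φ, h1, h2, h3⟩ := sl2_core h0 hζ xa xh (mul_inv_eq_one.mp (hr 5))
      (x1 ▸ mul_inv_eq_one.mp (hr 6)) (by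
        have := mul_inv_eq_one.mp (hr 7)
        rwa [← xf, ← xf, hf, hf'] at this)
    refine sl2_inj h0 hg φ (by rw [h1, x1]) h3 h2 π (fun t => ?_) (hπ 2)
    obtain ⟨a, rfl⟩ := hθ t
    rw [h1, xf, map_PW, hπ, hπ]
    exact pw a

/-- relators in characteristic two -/
noncomputable def relEven (k n : ℕ) (m : (ZMod 2)[X]) (u h w : G) : Fin 5 → G :=
  ![u ^ 2, cu h u k * (u * cu h u 1)⁻¹, h ^ n * (PW h u m)⁻¹, w * h * w⁻¹ * h⁻¹⁻¹, u * (w * u * w⁻¹) * u * w⁻¹]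

theorem map_relEven {H : Type*} [Group H] (φ : G →* H) (k n : ℕ) (m : (ZMod 2)[X]) (u h w : G)
    (i : Fin 5) : φ (relEven k n m u h w i) = relEven k n m (φ u) (φ h) (φ w) i := by
  fin_cases i <;> simp [relEven, map_cu, map_PW]

theorem sl2_pres_even [Finite F] [Algebra (ZMod 2) F] {ζ : F} (h0 : ζ ≠ 0)
    (hζ : ∀ t, t ≠ 0 → ∃ k : ℕ, ζ ^ k = t)
    (hθ : ∀ t, ∃ f : (ZMod 2)[X], aeval (ζ ^ 2) f = t) {k j : ℕ}
    (hk : (ζ ^ 2) ^ k = 1 + ζ ^ 2) (hj : ζ ^ (2 * j + 1) = 1) : PresOn ![mU (1 : F), mH ζ h0, mW] 5 := by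
  have pw : ∀ g : (ZMod 2)[X], PW (mH ζ h0) (mU 1) g = mU (aeval (ζ ^ 2) g) := fun g => by
    rw [PW_eq mU_add (mH_mU h0), mul_one]
  refine presOn_of_fun _ (sl2_gen h0 hθ) (relEven k (2 * j + 1) (minpoly (ZMod 2) (ζ ^ 2)) (FreeGroup.of 0)
    (FreeGroup.of 1) (FreeGroup.of 2)) (fun i => ?_) fun G _ g hg hr π hπ => ?_
  · rw [map_relEven]
    simp only [FreeGroup.lift_apply_of, Matrix.cons_val_zero, Matrix.cons_val_one, Matrix.cons_val]
    fin_cases i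
    · exact mU_pow_p (p := 2)
    · refine mul_inv_eq_one.mpr ?_
      simp only [cu_eq (mH_mU h0), ← mU_add, hk]; simp
    · refine mul_inv_eq_one.mpr ?_
      rw [pw, minpoly.aeval, mU_zero, mH_pow]
      simp only [hj, mH_one]
    · exact mul_inv_eq_one.mpr (mW_mH h0)
    · exact mul_inv_eq_one.mpr braid_one
  · simp only [map_relEven, FreeGroup.lift_apply_of] at hr
    have r0 : g 0 ^ 2 = 1 := hr 0
    have r1 : cu (g 1) (g 0) k = g 0 * cu (g 1) (g 0) 1 := mul_inv_eq_one.mp (hr 1)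
    have r2 : g 1 ^ (2 * j + 1) = PW (g 1) (g 0) (minpoly (ZMod 2) (ζ ^ 2)) := mul_inv_eq_one.mp (hr 2)
    have sq : ∀ i, cu (g 1) (g 0) i ^ 2 = 1 := fun i => by rw [cu, conj_pow, r0]; simp
    have c1 : Commute (g 0) (cu (g 1) (g 0) 1) := by
      have e1 := sq k
      have e2 := sq 1
      rw [r1, pow_two, mul_eq_one_iff_eq_inv, mul_inv_rev] at e1
      rw [pow_two, mul_eq_one_iff_eq_inv] at e2 r0
      rw [← e2, ← r0] at e1
      exact e1
    have hc := baum_one c1 r1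
    have r3 := PW_fixed hc r0 r1 (r2 ▸ (Commute.refl (g 1)).pow_right _)
    rw [r3] at r2
    obtain ⟨x, xa, xh, xf⟩ := exists_mod hc r0 hθ r3
    have x1 : x 1 = g 0 := by simpa [PW_one] using xf 1
    have wh := mul_inv_eq_one.mp (hr 3)
    have b1 : x 1 * (g 2 * x 1 * (g 2)⁻¹) * x 1 = g 2 := x1 ▸ mul_inv_eq_one.mp (hr 4)
    have b : ∀ i : ℕ, x ((ζ ^ 2) ^ i) * (g 2 * x ((ζ ^ 2) ^ i)⁻¹ * (g 2)⁻¹) * x ((ζ ^ 2) ^ i) =
        g 1 ^ (2 * i) * g 2 := fun i => by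
      induction i with
      | zero => simpa using b1
      | succ i ih => rw [pow_succ' (ζ ^ 2), mul_add]; exact braid_conj h0 xh wh ih
    obtain ⟨φ, h1, h2, h3⟩ := sl2_core h0 hζ xa xh wh b1 (by
      have := b (j + 1)
      rwa [← pow_mul, show 2 * (j + 1) = 2 * j + 1 + 1 by ring, pow_succ, hj, pow_succ, r2, one_mul,
        one_mul] at this)
    refine sl2_inj h0 hg φ (by rw [h1, x1]) h3 h2 π (fun t => ?_) (hπ 2)
    obtain ⟨a, rfl⟩ := hθ t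
    rw [h1, xf, map_PW, hπ, hπ]
    exact pw a

theorem sl2_pres_two [Finite F] [Algebra (ZMod 2) F] (hζ : ∀ t : F, t ≠ 0 → t = 1) :
    PresOn ![mU (1 : F), mH 1 one_ne_zero, mW] 3 := by
  have hθ : ∀ t : F, ∃ f : (ZMod 2)[X], aeval ((1 : F) ^ 2) f = t := fun t => by
    by_cases ht : t = 0
    · exact ⟨0, by simp [ht]⟩
    · exact ⟨1, by simp [hζ t ht]⟩
  refine presOn_of_fun _ (sl2_gen one_ne_zero hθ) ![FreeGroup.of 0 ^ 2, FreeGroup.of 1,
    FreeGroup.of 0 * (FreeGroup.of 2 * FreeGroup.of 0 * (FreeGroup.of 2)⁻¹) * FreeGroup.of 0 *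
      (FreeGroup.of 2)⁻¹] (fun i => ?_) fun G _ g hg hr π hπ => ?_
  · fin_cases i
    · simpa using mU_pow_p (p := 2) (F := F)
    · simpa using mH_one
    · simpa using mul_inv_eq_one.mpr (braid_one (F := F))
  · have r0 : g 0 ^ 2 = 1 := by simpa using hr 0
    have r1 : g 1 = 1 := by simpa using hr 1
    have r2 : g 0 * (g 2 * g 0 * (g 2)⁻¹) * g 0 = g 2 := mul_inv_eq_one.mp (by simpa using hr 2)
    have hm : minpoly (ZMod 2) ((1 : F) ^ 2) = 1 + X := by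
      rw [one_pow, minpoly.one, add_comm, sub_eq_add_neg]
      congr 1
      rw [← C_1, ← C_neg]; rfl
    have hc : ∀ i j, Commute (cu (g 1) (g 0) i) (cu (g 1) (g 0) j) := fun i j => by simp [r1, cu]
    obtain ⟨x, xa, xh, xf⟩ := exists_mod hc r0 hθ (by
      rw [hm, PW_add hc r0, ← mul_one X, PW_X_mul, PW_one, r1]; simpa [pow_two] using r0)
    have x1 : x 1 = g 0 := by simpa [PW_one] using xf 1
    obtain ⟨φ, h1, h2, h3⟩ := sl2_core one_ne_zero (fun t ht => ⟨0, by simp [hζ t ht]⟩) xa xh (w := g 2)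
      (by simp [r1]) (x1 ▸ r2) (by simpa [r1, x1] using r2)
    refine sl2_inj one_ne_zero hg φ (by rw [h1, x1]) h3 h2 π (fun t => ?_) (hπ 2)
    obtain ⟨a, rfl⟩ := hθ t
    rw [h1, xf, map_PW, hπ, hπ]
    exact (PW_eq mU_add (mH_mU one_ne_zero) _ _).trans (by rw [mul_one])

theorem sq_gen [Fintype F] {ζ : F} (h0 : ζ ≠ 0) (h : orderOf ζ + 1 = Fintype.card F) (t : F) :
    ∃ f : (ZMod p)[X], aeval (ζ ^ 2) f = t := by
  refine aeval_surj_pow h0 h two_ne_zero (fun m hm => ?_) t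
  have h1 : Nat.gcd (orderOf ζ) 2 ≤ 2 := Nat.gcd_le_right _ two_pos
  have h2 : 0 < orderOf ζ := by
    have := Fintype.one_lt_card (α := F); omega
  have h3 : 0 < m := Nat.pos_of_ne_zero fun e => by simp [e] at hm; omega
  nlinarith

theorem sl2_pres_eight (F : Type*) [Field F] [Fintype F] :
    (∃ f : Fin 3 → SL(2, F), PresOn f 8) ∧ (CharP F 2 → ∃ f : Fin 3 → SL(2, F), PresOn f 5) := by
  obtain ⟨ζ, h0, h1, h2⟩ := exists_prim F
  have even : CharP F 2 → ∃ f : Fin 3 → SL(2, F), PresOn f 5 := fun h => by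
    let _ := ZMod.algebra F 2
    by_cases e : ζ = 1
    · exact ⟨_, (sl2_pres_two fun t ht => by obtain ⟨k, rfl⟩ := h2 t ht; simp [e]).mono (by norm_num)⟩
    obtain ⟨n, -, hn⟩ := FiniteField.card F 2
    obtain ⟨j, hj⟩ : Odd (orderOf ζ) := by
      have : Even (orderOf ζ + 1) := by rw [h1, hn]; exact (Nat.even_pow' n.ne_zero).mpr even_two
      exact Nat.not_even_iff_odd.mp (Nat.even_add_one.mp this)
    obtain ⟨k, hk⟩ := h2 (1 + ζ) fun h => e (by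
      rw [add_eq_zero_iff_neg_eq, CharTwo.neg_eq] at h; exact h.symm)
    refine ⟨_, sl2_pres_even h0 h2 (sq_gen h0 h1) (k := k) (j := j) ?_ (by rw [← hj, pow_orderOf_eq_one])⟩
    rw [← pow_mul, mul_comm, pow_mul, hk, CharTwo.add_sq, one_pow]
  refine ⟨?_, even⟩
  obtain ⟨p, hp⟩ := CharP.exists F
  have : Fact p.Prime := ⟨CharP.char_is_prime F p⟩
  by_cases h : p = 2
  · subst h
    obtain ⟨f, hf⟩ := even hp
    exact ⟨f, hf.mono (by norm_num)⟩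
  let _ := ZMod.algebra F p
  by_cases e : 1 + ζ ^ 2 = 0
  · obtain ⟨k, hk⟩ := h2 (1 - ζ ^ 2) fun e' => h (by
      have : ((2 : ℕ) : F) = 0 := by push_cast; linear_combination e + e'
      exact ((Nat.prime_dvd_prime_iff_eq Fact.out Nat.prime_two).mp ((CharP.cast_eq_zero_iff F p 2).mp this)))
    refine ⟨_, sl2_pres_odd (p := p) h0 h2 (sq_gen h0 h1) (k := k) (z := -2) ?_⟩
    rw [← pow_mul, mul_comm, pow_mul, hk]; push_cast; ring
  · obtain ⟨k, hk⟩ := h2 _ e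
    refine ⟨_, sl2_pres_odd (p := p) h0 h2 (sq_gen h0 h1) (k := k) (z := 2) ?_⟩
    rw [← pow_mul, mul_comm, pow_mul, hk]; push_cast; ring

theorem PresOn.quot_center {H : Type*} [Group H] {ι : Type} {f : ι → H} {m : ℕ} (h : PresOn f m)
    [IsCyclic (center H)] : PresOn (QuotientGroup.mk' (center H) ∘ f) (m + 1) := by
  obtain ⟨z, hz⟩ := IsCyclic.exists_generator (α := center H)
  refine h.quot _ (QuotientGroup.mk'_surjective _) {z.1} ?_
  rw [QuotientGroup.ker_mk']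
  refine le_antisymm (normalClosure_le_normal (by simp)) fun g hg => ?_
  obtain ⟨k, hk⟩ := hz ⟨g, hg⟩
  rw [show g = z.1 ^ k from (congrArg Subtype.val hk).symm]
  exact zpow_mem (subset_normalClosure (by simp)) k

theorem PresOn.quot_center' {H : Type*} [Group H] {ι : Type} {f : ι → H} {m : ℕ} (h : PresOn f m)
    (hz : center H = ⊥) : PresOn (QuotientGroup.mk' (center H) ∘ f) m := by
  refine h.quot _ (QuotientGroup.mk'_surjective _) ∅ ?_
  rw [QuotientGroup.ker_mk', hz]; simp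

instance isCyclic_center_SL {ι : Type*} [Fintype ι] [DecidableEq ι] [Finite F] :
    IsCyclic (center (Matrix.SpecialLinearGroup ι F)) := by
  rcases isEmpty_or_nonempty ι with h | ⟨⟨i⟩⟩
  · exact isCyclic_of_subsingleton
  · exact isCyclic_of_surjective _ (Matrix.SpecialLinearGroup.center_equiv_rootsOfUnity' i).symm.surjective

end Cfsg.Agent.Pres
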