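import Mathlib
import Cfsg.Agent.Pres.SLn2
import Cfsg.Agent.Pres.SL2

/-! Two generators for `SL_n(q)`. -/

set_option autoImplicit false
set_option linter.unusedSectionVars false

namespace Cfsg.Agent.Pres

open Matrix Equiv Polynomial Subgroup

variable {F : Type*} [Field F]

theorem mono_tr {ι : Type*} [DecidableEq ι] [Fintype ι] {g : SpecialLinearGroup ι F} {d : ι → F} {σ : ι → ι}
    (hσ : Function.Injective σ) (hd : ∀ i, d i ≠ 0) (hg : ∀ v i, slρ g v i = d i * v (σ i)) {i j : ι} (h : i ≠ j)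
    (t : F) : g * tr (σ i) (σ j) t * g⁻¹ = tr i j (d i * (d j)⁻¹ * t) := by
  rw [mul_inv_eq_iff_eq_mul]
  refine sl_ext' fun v m => ?_
  have := hd j
  simp only [map_mul, Module.End.mul_apply, hg, slρ_tr _ _ h, slρ_tr _ _ (hσ.ne h), Pi.add_apply, Pi.smul_apply,
    smul_eq_mul, Pi.single_apply, hσ.eq_iff]
  split_ifs with e
  · subst e; field_simp
  · simp

variable {n : ℕ}

theorem succ_ne_fin (hn : 1 ≤ n) (i : Fin (n + 1)) : i ≠ i + 1 := by
  obtain ⟨n, rfl⟩ : ∃ m, n = m + 1 := ⟨n - 1, by omega⟩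
  simp

theorem cyc_top {K : Subgroup (SpecialLinearGroup (Fin (n + 1)) F)} (h : ∀ i t, tr i (i + 1) t ∈ K) : K = ⊤ := by
  have key : ∀ (d : ℕ) (hd : d + 1 < n + 1) (i : Fin (n + 1)) t, tr i (i + ⟨d + 1, hd⟩) t ∈ K := by
    intro d
    induction d with
    | zero =>
      intro hd i t
      rw [show (⟨0 + 1, hd⟩ : Fin (n + 1)) = 1 from Fin.ext (by simp [Nat.mod_eq_of_lt hd])]
      exact h i t
    | succ d ih =>
      intro hd i t
      have e : i + ⟨d + 1 + 1, hd⟩ = i + ⟨d + 1, by omega⟩ + 1 := by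
        rw [add_assoc i]; congr 1
        exact Fin.ext (by simp [Fin.val_add, Nat.mod_eq_of_lt hd])
      have h1 : i ≠ i + ⟨d + 1, by omega⟩ := by simp [Fin.ext_iff]
      have h2 : i ≠ i + ⟨d + 1 + 1, hd⟩ := by simp [Fin.ext_iff]
      rw [e] at h2 ⊢
      have := (slSt _ F).rel h1 (succ_ne_fin (by omega) _) h2 t 1
      rw [mul_one] at this
      exact (show _ = tr _ _ _ from this) ▸ mul_mem (mul_mem (mul_mem (ih _ i t) (h _ _)) (inv_mem (ih _ i t)))
        (inv_mem (h _ _))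
  refine slSt_top fun i j t e => ?_
  have h1 : (j - i).val ≠ 0 := by simpa [sub_eq_zero] using e.symm
  have := key ((j - i).val - 1) (by omega) i t
  rwa [show (⟨(j - i).val - 1 + 1, by omega⟩ : Fin (n + 1)) = j - i from Fin.ext (by simp; omega),
    add_sub_cancel] at this

/-- signs of the cyclic matrix -/
def sg (F : Type*) [Field F] (i : Fin (n + 1)) : F := if i.val = n then (-1) ^ n else 1

theorem sg_ne (i : Fin (n + 1)) : sg F i ≠ 0 := by unfold sg; split_ifs <;> simp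

theorem cyc_act (hn : 1 ≤ n) {w : SpecialLinearGroup (Fin (n + 1)) F} (hw : w.1 =
      Matrix.of (fun i j => if j.val = i.val + 1 then 1 else if i.val = n ∧ j.val = 0 then (-1) ^ n else 0))
    (v : Fin (n + 1) → F) (i : Fin (n + 1)) : slρ w v i = sg F i * v (i + 1) := by
  rw [slρ_apply, hw, mulVec, dotProduct, Finset.sum_eq_single (i + 1)]
  · congr 1
    by_cases h : i = Fin.last n
    · subst h; simp [sg]
    · have : i.val ≠ n := fun e => h (Fin.ext e)
      simp [sg, this, Fin.val_add_one, h]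
  · intro j _ hj
    rw [of_apply, if_neg, if_neg, zero_mul]
    · rintro ⟨h1, h2⟩
      obtain rfl : i = Fin.last n := Fin.ext h1
      exact hj (by rw [Fin.last_add_one]; exact Fin.ext h2)
    · intro h
      refine hj (Fin.ext ?_)
      rw [Fin.val_add_one, if_neg, h]
      rintro rfl
      have := j.2
      simp at h; omega
  · simp

theorem top_of_cyc (hn : 1 ≤ n) {w : SpecialLinearGroup (Fin (n + 1)) F}
    (hw : ∀ v i, slρ w v i = sg F i * v (i + 1)) {K : Subgroup (SpecialLinearGroup (Fin (n + 1)) F)} (h1 : w ∈ K)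
    (h2 : ∀ t, tr 0 1 t ∈ K) : K = ⊤ := by
  refine cyc_top fun i => ?_
  induction i using Fin.induction with
  | zero => simpa using h2
  | succ i ih =>
    intro t
    have := mono_tr (add_left_injective 1) sg_ne hw (succ_ne_fin hn i.castSucc) t
    rw [mul_inv_eq_iff_eq_mul, ← eq_inv_mul_iff_mul_eq, Fin.coeSucc_eq_succ] at this
    rw [Fin.coeSucc_eq_succ] at ih
    rw [this]
    exact mul_mem (inv_mem h1) (mul_mem (ih _) h1)

theorem zero_ne_one_fin (hn : 1 ≤ n) : (0 : Fin (n + 1)) ≠ 1 := by simpa using succ_ne_fin hn 0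

theorem gen_small [Fintype F] (hK : Fintype.card F ≤ 3) (hn : 1 ≤ n) {w : SpecialLinearGroup (Fin (n + 1)) F}
    (hw : ∀ v i, slρ w v i = sg F i * v (i + 1)) : closure {tr 0 1 1, w} = ⊤ := by
  classical
  refine top_of_cyc hn hw (subset_closure (by simp)) fun t => ?_
  have h0 := zero_ne_one_fin hn
  have h1 : tr (0 : Fin (n + 1)) 1 (1 : F) ∈ closure {tr 0 1 1, w} := subset_closure (by simp)
  by_cases e : t = 0
  · rw [e, show tr (0 : Fin (n + 1)) 1 (0 : F) = 1 from (slSt _ F).x_zero h0]; exact one_mem _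
  by_cases e' : t = 1
  · rwa [e']
  have e'' : t = -1 := by
    by_contra h
    have h2 : t + 1 ≠ 0 := fun e => h (eq_neg_of_add_eq_zero_left e)
    have h3 : t + 1 ≠ 1 := by simpa using e
    have := Finset.card_le_univ ({0, 1, t, t + 1} : Finset F)
    rw [Finset.card_insert_of_notMem (by simp [Ne.symm e, h2.symm]), Finset.card_insert_of_notMem
      (by simp [Ne.symm e', e]), Finset.card_pair (by simp)] at this
    omega
  rw [e'', show tr (0 : Fin (n + 1)) 1 (-1 : F) = (tr 0 1 1)⁻¹ from (slSt _ F).x_neg h0 1]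
  exact inv_mem h1

theorem gen_big [Fintype F] (hK : 3 < Fintype.card F) (hn : 1 ≤ n) {k : F} (k0 : k ≠ 0)
    (hk : orderOf k + 1 = Fintype.card F) {w : SpecialLinearGroup (Fin (n + 1)) F}
    (hw : ∀ v i, slρ w v i = sg F i * v (i + 1)) : closure {dg k 0 1, tr 0 1 1 * w} = ⊤ := by
  obtain ⟨p, hp⟩ := CharP.exists F
  have : Fact p.Prime := ⟨CharP.char_is_prime F p⟩
  let _ := ZMod.algebra F p
  have h0 := zero_ne_one_fin hn
  set K := closure {dg k 0 1, tr 0 1 1 * w}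
  have h1 : dg k 0 1 ∈ K := subset_closure (by simp)
  have h2 : tr 0 1 1 * w ∈ K := subset_closure (by simp)
  have ad : ∀ s t : F, tr (0 : Fin (n + 1)) 1 (s + t) = tr 0 1 s * tr 0 1 t := (slSt _ F).add h0
  have k2 : k ^ 2 ≠ 1 := fun e => by
    have := Nat.le_of_dvd two_pos (orderOf_dvd_of_pow_eq_one e); omega
  have d1 : ∀ t, dg k 0 1 * tr (0 : Fin (n + 1)) 1 t * (dg k 0 1)⁻¹ = tr 0 1 (k ^ 2 * t) := fun t => by
    rw [dg_tr k0 h0 h0]; simp [dv, h0.symm, pow_two]
  have h3 : (-1 : Fin (n + 1)) ≠ 0 := by simpa using h0.symm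
  have d2 : w * dg k 0 1 * w⁻¹ = dg k (-1) 0 := by
    rw [mul_inv_eq_iff_eq_mul]
    refine sl_ext' fun v i => ?_
    simp only [map_mul, Module.End.mul_apply, hw, slρ_dg k0 h0, slρ_dg k0 h3, dv, add_eq_zero_iff_eq_neg,
      add_eq_right]
    ring
  obtain ⟨χ, hχ, d3⟩ : ∃ χ, χ ≠ 1 ∧ ∀ t, dg k (-1) 0 * tr (0 : Fin (n + 1)) 1 t * (dg k (-1) 0)⁻¹ =
      tr 0 1 (χ * t) := by
    refine ⟨_, ?_, dg_tr k0 h3 h0⟩
    simp only [dv, h3.symm, if_false, if_true, h0.symm]
    split_ifs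
    · rwa [← mul_inv, ← pow_two, Ne, inv_eq_one]
    · rw [inv_one, mul_one, Ne, inv_eq_one]
      rintro rfl; simp at k2
  have d4 : tr 0 1 ((k ^ 2 - 1) * (1 - χ)) ∈ K := by
    have e : tr 0 1 1 * w * dg k 0 1 * (tr 0 1 1 * w)⁻¹ = tr 0 1 (1 - χ) * dg k (-1) 0 := by
      rw [sub_eq_add_neg, ad, ← mul_neg_one, ← d3, add_neg_eq ad, ← d2]; group
    have := mul_mem (mul_mem (mul_mem h1 (mul_mem (mul_mem h2 h1) (inv_mem h2))) (inv_mem h1))
      (inv_mem (mul_mem (mul_mem h2 h1) (inv_mem h2)))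
    rw [e] at this
    convert this using 1
    rw [sub_mul, one_mul, sub_eq_add_neg, ad, add_neg_eq ad, ← d1, mul_assoc (dg k 0 1) (_ * _),
      mul_assoc _ (dg k (-1) 0), (dg_comm k0 k0 h3 h0).inv_right.eq]
    group
  have d5 : ∀ t, tr 0 1 t ∈ K := fun t => by
    have c0 : (k ^ 2 - 1) * (1 - χ) ≠ 0 := mul_ne_zero (sub_ne_zero.mpr k2) (sub_ne_zero.mpr hχ.symm)
    obtain ⟨f, hf⟩ := sq_gen (p := p) k0 hk (t / ((k ^ 2 - 1) * (1 - χ)))
    rw [← div_mul_cancel₀ t c0, ← hf, ← PW_eq ad d1]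
    exact PW_mem (cu_mem h1 d4) f
  exact top_of_cyc hn hw (by simpa using mul_mem (inv_mem (d5 1)) h2) d5

theorem exists_cyc (F : Type*) [Field F] (n : ℕ) : ∃ w : SpecialLinearGroup (Fin (n + 1)) F,
    ∀ v i, slρ w v i = sg F i * v (i + 1) := by
  refine ⟨⟨diagonal (sg F) * (finRotate (n + 1)).permMatrix F, ?_⟩, fun v i => ?_⟩
  · rw [det_mul, det_diagonal, det_permutation, sign_finRotate, Finset.prod_eq_single (Fin.last n)]
    · simp [sg, ← mul_pow]
    · intro i _ h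
      exact if_neg fun e => h (Fin.ext e)
    · simp
  · change ((diagonal (sg F) * (finRotate (n + 1)).permMatrix F) *ᵥ v) i = _
    rw [← mulVec_mulVec, mulVec_diagonal, permMatrix_mulVec]; simp

theorem sl_two_gen (F : Type*) [Field F] [Fintype F] (n : ℕ) (hn : 2 ≤ n) :
    ∃ f : Fin 2 → SpecialLinearGroup (Fin n) F, closure (Set.range f) = ⊤ := by
  obtain ⟨n, rfl⟩ : ∃ m, n = m + 1 := ⟨n - 1, by omega⟩
  obtain ⟨w, hw⟩ := exists_cyc F n
  obtain ⟨k, k0, hk, -⟩ := exists_prim F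
  by_cases h : Fintype.card F ≤ 3
  · exact ⟨![_, _], by simpa [Set.pair_comm] using gen_small h (by omega) hw⟩
  · exact ⟨![_, _], by simpa [Set.pair_comm] using gen_big (by omega) (by omega) k0 hk hw⟩

end Cfsg.Agent.Pres
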