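import Mathlib
import Cfsg.Agent.Pres.Ext
import Cfsg.Agent.Pres.Gen2
import Cfsg.Agent.Pres.RG7

/-! Tools for presentations over `SL_n`: membership relations, families of conjugates, signed permutations. -/

set_option autoImplicit false
set_option linter.unusedSectionVars false

namespace Cfsg.Agent.Pres

open Subgroup Equiv Matrix Cfsg.Agent.Root
open scoped commutatorElement MatrixGroups

variable {G H : Type*} [Group G] [Group H]

/-- membership relations -/
def MemL (L : List (G × Set G)) : Prop := ∀ p ∈ L, p.1 ∈ closure p.2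

@[simp] theorem memL_nil : MemL ([] : List (G × Set G)) := by simp [MemL]
@[simp] theorem memL_cons (a : G) (S : Set G) (L : List (G × Set G)) :
    MemL ((a, S) :: L) ↔ a ∈ closure S ∧ MemL L := by simp [MemL]
@[simp] theorem memL_append (L K : List (G × Set G)) : MemL (L ++ K) ↔ MemL L ∧ MemL K := by
  simp [MemL, or_imp, forall_and]

theorem PresOn.extendM {ι κ : Type} {A : Type*} [Group A] {fA : ι → A} {m : ℕ} (hA : PresOn fA m) (ι0 : A →* H)
    (g : κ → H) (hgen : ι0.range ⊔ closure (Set.range g) = ⊤) (L : List (FreeGroup (A ⊕ κ) × Set (FreeGroup (A ⊕ κ))))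
    (h0 : MemL (L.map (Prod.map (FreeGroup.lift (Sum.elim ι0 g)) (Set.image (FreeGroup.lift (Sum.elim ι0 g))))))
    (h : ∀ (G : Type) [Group G] (ψ : A →* G) (g' : κ → G), ψ.range ⊔ closure (Set.range g') = ⊤ →
      MemL (L.map (Prod.map (FreeGroup.lift (Sum.elim ψ g')) (Set.image (FreeGroup.lift (Sum.elim ψ g'))))) →
      ∀ π : G →* H, (∀ a, π (ψ a) = ι0 a) → (∀ l, π (g' l) = g l) → Function.Injective π) :
    PresOn (Sum.elim (ι0 ∘ fA) g) (m + L.length) := by
  have : ∀ p : FreeGroup (A ⊕ κ) × Set (FreeGroup (A ⊕ κ)), ∃ y, p ∈ L → y ∈ closure p.2 ∧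
      FreeGroup.lift (Sum.elim ι0 g) y = FreeGroup.lift (Sum.elim ι0 g) p.1 := fun p => by
    by_cases hp : p ∈ L
    · have := h0 _ (List.mem_map_of_mem hp)
      rw [Prod.map_snd, ← MonoidHom.map_closure] at this
      obtain ⟨y, hy⟩ := this
      exact ⟨y, fun _ => hy⟩
    · exact ⟨1, fun e => absurd e hp⟩
  choose y hy using this
  have := hA.extend ι0 g hgen (L.map fun p => (p.1, y p)) (by
    rw [List.map_map, holds_map]; exact fun p hp => (hy p hp).2.symm) fun G _ ψ g' h1 h2 => h G ψ g' h1 (by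
      rw [List.map_map, holds_map] at h2
      intro p hp
      obtain ⟨q, hq, rfl⟩ := List.mem_map.mp hp
      rw [Prod.map_snd, ← MonoidHom.map_closure]
      exact ⟨y q, (hy q hq).1, (h2 q hq).symm⟩)
  simpa using this

section Fam
variable {W Ω : Type*} [Group W] [MulAction W Ω] (N : Subgroup (G × W)) (o : Ω) (U : Subgroup G)

/-- the family of conjugates of a subgroup -/
def famN (x : Ω) : Subgroup G := ⨆ p : {p : G × W // p ∈ N ∧ p.2 • o = x}, U.map (MulAut.conj p.1.1).toMonoidHom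

variable {N o U}

theorem famN_conj {g : G} {w : W} (h : (g, w) ∈ N) {x : Ω} {u : G} (hu : u ∈ famN N o U x) :
    g * u * g⁻¹ ∈ famN N o U (w • x) :=
  iSup_le (a := (famN N o U (w • x)).comap (MulAut.conj g).toMonoidHom) (by
    rintro ⟨p, hp, e⟩ _ ⟨u, hu, rfl⟩
    exact le_iSup (fun p : {p : G × W // p ∈ N ∧ p.2 • o = w • x} => U.map (MulAut.conj p.1.1).toMonoidHom)
      ⟨(g, w) * p, mul_mem h hp, (mul_smul ..).trans (congrArg _ e)⟩ ⟨u, hu, by simp [mul_assoc]⟩) hu

theorem le_famN : U ≤ famN N o U o := fun u hu =>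
  le_iSup (fun p : {p : G × W // p ∈ N ∧ p.2 • o = o} => U.map (MulAut.conj p.1.1).toMonoidHom)
    ⟨1, one_mem _, one_smul ..⟩ ⟨u, hu, by simp⟩

theorem famN_le {K : Subgroup G} (h : ∀ p ∈ N, ∀ u ∈ U, p.1 * u * p.1⁻¹ ∈ K) (x : Ω) : famN N o U x ≤ K :=
  iSup_le (by rintro ⟨p, hp, -⟩ _ ⟨u, hu, rfl⟩; exact h p hp u hu)

theorem famN_self (h : ∀ p ∈ N, p.2 • o = o → ∀ u ∈ U, p.1 * u * p.1⁻¹ ∈ U) : famN N o U o = U :=
  le_antisymm (iSup_le (by rintro ⟨p, hp, e⟩ _ ⟨u, hu, rfl⟩; exact h p hp e u hu)) le_famN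

end Fam

theorem stab_step {P Ω : Type*} [Group P] [MulAction P Ω] {K : Subgroup P} {r p : P} {x : Ω} (h1 : r * r ∈ K)
    (h2 : ∀ k ∈ K, Commute r k) (h3 : ∀ k ∈ K, k • x = x) (h4 : r • x ≠ x) (hp : p ∈ K ⊔ zpowers r) (e : p • x = x) :
    p ∈ K := by
  let S : Subgroup P :=
    { carrier := {p | p ∈ K ∨ r * p ∈ K}
      one_mem' := .inl (one_mem _)
      mul_mem' := by
        rintro a b (ha | ha) (hb | hb)
        · exact .inl (mul_mem ha hb)
        · exact .inr (by rw [← mul_assoc, (h2 a ha).eq, mul_assoc]; exact mul_mem ha hb)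
        · exact .inr (by rw [← mul_assoc]; exact mul_mem ha hb)
        · refine .inl ?_
          have := mul_mem (inv_mem h1) (mul_mem ha hb)
          rw [← mul_assoc (r * a), ← (h2 _ ha).eq] at this
          simpa [mul_assoc] using this
      inv_mem' := by
        rintro a (ha | ha)
        · exact .inl (inv_mem ha)
        · refine .inr ?_
          have := mul_mem (inv_mem ha) h1
          have e : Commute r a := by simpa using (Commute.refl r).inv_right.mul_right (h2 _ ha)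
          rw [e.inv_right.eq]; simpa [mul_assoc] using this }
  rcases sup_le (c := S) (fun _ h => .inl h) (zpowers_le.mpr (.inr h1)) hp with h | h
  · exact h
  · exact absurd (by simpa [mul_smul, e] using h3 _ h) h4

theorem three_gen {A B : Type*} [Group A] [Group B] (φ : A →* G) (χ : B →* G) (hc : ∀ a b, Commute (φ a) (χ b))
    {a1 a2 : A} {b1 b2 : B} (h1 : closure {a1, a2} = ⊤) (h2 : normalClosure {a1} = ⊤) (h3 : closure {b1, b2} = ⊤)
    {K : Subgroup G} (e1 : φ a1 ∈ K) (e2 : φ a2 * χ b1 ∈ K) (e3 : χ b2 ∈ K) : φ.range ≤ K ∧ χ.range ≤ K := by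
  let S : Subgroup A :=
    { carrier := {a | ∃ b, φ a * χ b ∈ K}
      one_mem' := ⟨1, by simp⟩
      mul_mem' := fun {a a'} ⟨b, h⟩ ⟨b', h'⟩ => ⟨b * b', by
        have := mul_mem h h'
        rwa [(hc a' b).symm.mul_mul_mul_comm, ← map_mul, ← map_mul] at this⟩
      inv_mem' := fun {a} ⟨b, h⟩ => ⟨b⁻¹, by rw [(hc _ _).eq]; simpa using inv_mem h⟩ }
  have hS : S = ⊤ := top_unique (h1 ▸ (closure_le _).mpr (by
    rintro _ (rfl | rfl)
    exacts [⟨1, by simpa using e1⟩, ⟨b1, e2⟩]))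
  have : (K.comap φ).Normal := ⟨fun n hn a => by
    obtain ⟨b, h⟩ := (hS ▸ mem_top a : a ∈ S)
    have := mul_mem (mul_mem h hn) (inv_mem h)
    rw [mul_assoc (φ a), ← (hc n b).eq] at this
    simpa [mul_assoc] using this⟩
  have h4 : K.comap φ = ⊤ := top_unique (h2 ▸ normalClosure_le_normal (by simpa using e1))
  have h5 : ∀ a, φ a ∈ K := fun a => (h4 ▸ mem_top a : a ∈ K.comap φ)
  have h6 : K.comap χ = ⊤ := top_unique (h3 ▸ (closure_le _).mpr (by
    rintro _ (rfl | rfl)
    exacts [(mul_mem_cancel_left (h5 a2)).mp e2, e3]))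
  exact ⟨by rintro _ ⟨a, rfl⟩; exact h5 a, by rintro _ ⟨b, rfl⟩; exact (h6 ▸ mem_top b : b ∈ K.comap χ)⟩

variable {I F : Type*} [Field F] [DecidableEq I] [Fintype I]

theorem sl2_gen_nc (F : Type*) [Field F] [Fintype F] :
    ∃ a1 a2 : SL(2, F), closure {a1, a2} = ⊤ ∧ normalClosure {a1} = ⊤ := by
  obtain ⟨w, hw⟩ := exists_cyc F 1
  obtain ⟨k, k0, hk, -⟩ := exists_prim F
  have key : ∀ N : Subgroup SL(2, F), N.Normal → ∀ t, tr 0 1 t ∈ N → mL (-t) ∈ N := fun N hN t h => by
    rw [← mW_mU, ← tr_mU]; exact hN.conj_mem _ h _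
  by_cases h : Fintype.card F ≤ 3
  · refine ⟨_, _, gen_small h le_rfl hw, top_unique ?_⟩
    have h1 : tr (0 : Fin 2) 1 (1 : F) ∈ normalClosure {tr 0 1 1} := subset_normalClosure rfl
    have h2 : mW ∈ normalClosure {tr (0 : Fin 2) 1 (1 : F)} := by
      rw [mW_eq, ← tr_mU]; exact mul_mem (mul_mem h1 (key _ inferInstance _ h1)) h1
    obtain ⟨w', hw'⟩ : ∃ w' : SL(2, F), w' = mW := ⟨_, rfl⟩
    rw [← gen_small h le_rfl (w := mW⁻¹ ^ 3) (by
      rw [show (mW⁻¹ : SL(2, F)) ^ 3 = mW by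
        rw [inv_pow, inv_eq_iff_mul_eq_one]; ext i j; fin_cases i <;> fin_cases j <;> simp [pow_succ]]
      intro v i; fin_cases i <;> simp [slρ_apply, sg, mulVec, dotProduct]), closure_le]
    rintro _ (rfl | rfl)
    exacts [h1, pow_mem (inv_mem h2) _]
  · refine ⟨_, _, gen_big (by omega) le_rfl k0 hk hw, ?_⟩
    have h1 : k * k - 1 ≠ 0 := fun e => by
      have := orderOf_le_of_pow_eq_one two_pos (show k ^ 2 = 1 by linear_combination e)
      omega
    have h2 : ∀ t, tr (0 : Fin 2) 1 t ∈ normalClosure {dg k (0 : Fin 2) 1} := fun t => by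
      have h3 : dg k (0 : Fin 2) 1 ∈ normalClosure {dg k (0 : Fin 2) 1} := subset_normalClosure rfl
      have := mul_mem h3 (normalClosure_normal.conj_mem _ (inv_mem h3) (tr 0 1 (t / (k * k - 1))))
      rw [← mul_assoc, ← mul_assoc, dg_tr k0 (by simp) (by simp), tr_mU, tr_mU, ← mU_neg, ← mU_add] at this
      convert this using 1
      rw [tr_mU]; congr 1; simp only [dv]; simp; linear_combination -div_mul_cancel₀ t h1
    exact sl2_top' (fun t => tr_mU t ▸ h2 t) fun t => neg_neg t ▸ key _ inferInstance _ (h2 _)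

theorem sl_emb [Finite F] {k : ℕ} {e : Fin (k + 2) → I} (he : Function.Injective e) :
    ∃ φ : SL(k + 2, F) →* SpecialLinearGroup I F, ∀ a b t, a ≠ b → φ (tr a b t) = tr (e a) (e b) t := by
  rcases k with _ | k
  · have h := he.ne (show (0 : Fin 2) ≠ 1 by simp)
    let S : St2 F (SpecialLinearGroup I F) :=
      { x := tr (e 0) (e 1)
        y := tr (e 1) (e 0)
        x_add := (slSt I F).add h
        y_add := (slSt I F).add h.symm
        conj := fun t ht u => by
          rw [mul_inv_eq_iff_eq_mul]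
          refine sl_ext' fun v i => congrFun ?_ i
          simp only [map_mul, Module.End.mul_apply, slρ_tr _ _ h, slρ_tr _ _ h.symm, Pi.add_apply, Pi.smul_apply,
            Pi.single_apply, h, h.symm, if_true, if_false, smul_eq_mul]
          match_scalars <;> field_simp <;> ring }
    obtain ⟨φ, h1, h2⟩ := St2.exists_hom (S := S) fun t u ht hu => S.h_mul_of_finite ht hu
    refine ⟨φ, fun a b t hab => ?_⟩
    fin_cases a <;> fin_cases b
    · simp at hab
    · exact (congrArg φ (tr_mU t)).trans (h1 t)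
    · exact (congrArg φ (tr_mL t)).trans (h2 t)
    · simp at hab
  let S : StA (Fin (k + 3)) F (SpecialLinearGroup I F) :=
    { x := fun a b => tr (e a) (e b)
      add := fun h => (slSt I F).add (he.ne h)
      comm := fun h1 h2 h3 h4 => (slSt I F).comm (he.ne h1) (he.ne h2) (he.ne h3) (he.ne h4)
      rel := fun h1 h2 h3 => (slSt I F).rel (he.ne h1) (he.ne h2) (he.ne h3) }
  exact S.exists_hom (by simp)

theorem exists_block [Finite F] (s : Finset I) (hs : 2 ≤ s.card) : ∃ k, ∃ φ : SL(k + 2, F) →* SpecialLinearGroup I F,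
    (∀ a ∈ s, ∀ b ∈ s, a ≠ b → ∀ t, tr a b t ∈ φ.range) ∧
      ∀ K : Subgroup (SpecialLinearGroup I F), (∀ a ∈ s, ∀ b ∈ s, a ≠ b → ∀ t, tr a b t ∈ K) → φ.range ≤ K := by
  obtain ⟨k, hk⟩ : ∃ k, s.card = k + 2 := ⟨s.card - 2, by omega⟩
  let e := s.equivFinOfCardEq hk
  obtain ⟨φ, h⟩ := sl_emb (F := F) (e := fun a => (e.symm a : I)) (Subtype.val_injective.comp e.symm.injective)
  refine ⟨k, φ, fun a ha b hb hab t => ⟨tr (e ⟨a, ha⟩) (e ⟨b, hb⟩) t, by rw [h _ _ _ (by simpa using hab)]; simp⟩,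
    fun K hK => ?_⟩
  rintro _ ⟨A, rfl⟩
  exact (slSt_top (K := K.comap φ) fun a b t hab => by
    rw [mem_comap, h _ _ _ hab]
    exact hK _ (e.symm a).2 _ (e.symm b).2 (by simpa [Subtype.val_inj] using hab) t).ge (mem_top A)

variable (I F) in
/-- signed permutation matrices -/
def Sm : Subgroup (SpecialLinearGroup I F × Perm I) where
  carrier := {p | ∀ b, ∃ c : F, c * c = 1 ∧ slρ p.1 (Pi.single b 1) = c • Pi.single (p.2 b) 1}
  one_mem' _ := ⟨1, by simp⟩
  mul_mem' {p q} h h' b := by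
    obtain ⟨c, h1, h2⟩ := h' b
    obtain ⟨c', h1', h2'⟩ := h (q.2 b)
    exact ⟨c * c', by grind, by simp [h2, h2', smul_smul]⟩
  inv_mem' {p} h b := by
    obtain ⟨c, h1, h2⟩ := h (p.2⁻¹ b)
    refine ⟨c, h1, ?_⟩
    have := congrArg (fun v => c • slρ p.1⁻¹ v) h2
    simp only [← Module.End.mul_apply, ← map_mul, inv_mul_cancel, map_smul, smul_smul, h1] at this
    simpa using this.symm

/-- reflections -/
noncomputable def wA (a b : I) : SpecialLinearGroup I F := tr a b 1 * tr b a (-1) * tr a b 1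

theorem wA_eq (a b : I) : (wA a b : SpecialLinearGroup I F) = (slSt I F).w a b 1 := by simp [wA, StA.w, slSt]

theorem wA_Sm {a b : I} (h : a ≠ b) : (wA a b, swap a b) ∈ Sm I F := fun k => by
  rw [wA_eq]
  by_cases e : k = a
  · exact ⟨-1, by simp, by simpa [e] using (slSt I F).w_e slρ slρ_tr h one_ne_zero⟩
  by_cases e' : k = b
  · exact ⟨1, by simp, by simpa [e'] using (slSt I F).w_e' slρ slρ_tr h one_ne_zero⟩
  · exact ⟨1, by simp, by simpa [swap_apply_of_ne_of_ne e e'] using w_fix h e e' (1 : F)⟩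

theorem wA_sq {a b : I} (h : a ≠ b) : (wA a b ^ 2 : SpecialLinearGroup I F) = dg (-1) a b := by
  refine sl_ext' fun v i => ?_
  simp only [wA, sq, map_mul, Module.End.mul_apply, slρ_tr _ _ h, slρ_tr _ _ h.symm, Pi.add_apply, Pi.smul_apply,
    Pi.single_apply, h, h.symm, if_true, if_false, smul_eq_mul, slρ_dg (show (-1 : F) ≠ 0 by simp) h, dv]
  split_ifs <;> simp_all <;> ring

theorem Sm_ex {A : SpecialLinearGroup I F} {σ : Perm I} (h : (A, σ) ∈ Sm I F) : ∃ d : I → F, (∀ b, d b * d b = 1) ∧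
    ∀ v i, slρ A v (σ i) = d i * v i := by
  choose d h1 h2 using h
  refine ⟨d, h1, fun v i => ?_⟩
  conv_lhs => rw [pi_eq_sum_univ' v]
  simp only [map_sum, map_smul, show ∀ b, slρ A (Pi.single b 1) = _ from h2, Finset.sum_apply, Pi.smul_apply,
    Pi.single_apply, σ.injective.eq_iff]
  simp [mul_comm]

theorem Sm_tr {A : SpecialLinearGroup I F} {σ : Perm I} (h : (A, σ) ∈ Sm I F) {a b : I} (hab : a ≠ b) :
    ∃ c : F, c * c = 1 ∧ ∀ t, A * tr a b t * A⁻¹ = tr (σ a) (σ b) (c * t) := by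
  obtain ⟨d, h1, h2⟩ := Sm_ex h
  refine ⟨d a * d b, by grind, fun t => ?_⟩
  have := mono_tr (g := A) (d := fun i => d (σ⁻¹ i)) (σ := fun i => σ⁻¹ i) σ⁻¹.injective
    (fun i => left_ne_zero_of_mul_eq_one (h1 _)) (fun v i => by simpa using h2 v (σ⁻¹ i)) (σ.injective.ne hab) t
  simpa [← eq_inv_of_mul_eq_one_left (h1 b)] using this

theorem Sm_dg {A : SpecialLinearGroup I F} {σ : Perm I} (h : (A, σ) ∈ Sm I F) {a b : I} (hab : a ≠ b) {t : F}
    (ht : t ≠ 0) : A * dg t a b * A⁻¹ = dg t (σ a) (σ b) := by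
  obtain ⟨d, h1, h2⟩ := Sm_ex h
  rw [mul_inv_eq_iff_eq_mul]
  refine sl_ext' fun v i => ?_
  obtain ⟨i, rfl⟩ := σ.surjective i
  simp [h2, slρ_dg ht hab, slρ_dg ht (σ.injective.ne hab), dv, mul_left_comm]

theorem exists_Sm (σ : Perm I) : ∃ A, (A, σ) ∈ Sm I F := by
  induction σ using Perm.swap_induction_on with
  | one => exact ⟨1, one_mem _⟩
  | swap_mul σ a b h ih => exact ⟨_, mul_mem (wA_Sm h) ih.choose_spec⟩

theorem Sm_stab {C : Subgroup (SpecialLinearGroup I F)} {P : I → Prop} (h1 : ∀ a b, a ≠ b → dg (-1) a b ∈ C)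
    (h2 : ∀ a b, a ≠ b → ¬ P a → ¬ P b → wA a b ∈ C) {A : SpecialLinearGroup I F} {σ : Perm I} (h : (A, σ) ∈ Sm I F)
    (hσ : ∀ a, P a → σ a = a) : A ∈ C := by
  have := _root_.Classical.decEq F
  have base : ∀ (n : ℕ) (A : SpecialLinearGroup I F) (d : I → F), (∀ b, d b * d b = 1) → (∀ v i, slρ A v i = d i * v i) →
      (Finset.univ.filter fun b => d b ≠ 1).card = n → A ∈ C := by
    intro n
    induction n using Nat.strong_induction_on with
    | h n ih =>
    intro A d d1 d2 hn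
    have d3 : ∀ b, d b ≠ 1 → d b = -1 := fun b h => (mul_self_eq_one_iff.mp (d1 b)).resolve_left h
    by_cases e : ∃ a b, a ≠ b ∧ d a ≠ 1 ∧ d b ≠ 1
    · obtain ⟨a, b, hab, ha, hb⟩ := e
      rw [← mul_mem_cancel_left (h1 a b hab)]
      refine ih _ (hn ▸ Finset.card_lt_card ⟨fun x => ?_, fun h => ?_⟩) _ (fun i => dv (-1) a b i * d i)
        (fun i => by simp only [dv]; split_ifs <;> simp [d1]) (fun v i => by simp [slρ_dg _ hab, d2, mul_assoc]) rfl
      · intro hx
        have hx := (Finset.mem_filter.mp hx).2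
        simp only [Finset.mem_filter, Finset.mem_univ, true_and, dv] at hx ⊢
        split_ifs at hx <;> simp_all
      · simpa [dv, d3 a ha] using h (x := a) (by simpa using ha)
    push Not at e
    have hA : A.1 = diagonal d := Matrix.ext fun i j => by
      simpa [slρ_apply, diagonal_apply, Pi.single_apply] using d2 (Pi.single j 1) i
    rw [show A = 1 from sl_ext' fun v i => ?_]
    · exact one_mem _
    have := A.det_coe
    by_cases hi : d i = 1
    · simp [d2, hi]
    · rw [hA, det_diagonal, Finset.prod_eq_single i (fun b _ h => e i b h.symm hi) (by simp)] at this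
      exact absurd this hi
  induction hn : σ.support.card using Nat.strong_induction_on generalizing A σ with
  | h n ih =>
  by_cases e : ∃ a, σ a ≠ a
  · obtain ⟨a, ha⟩ := e
    have e1 : ¬ P a := fun h => ha (hσ a h)
    have e2 : ¬ P (σ a) := fun h => ha (σ.injective (hσ _ h))
    rw [← mul_mem_cancel_left (h2 _ _ ha.symm e1 e2)]
    refine ih _ (hn ▸ Perm.card_support_swap_mul ha) (A := wA a (σ a) * A) (σ := swap a (σ a) * σ)
      (mul_mem (S := Subgroup _) (wA_Sm (F := F) ha.symm) h :) (fun b hb => ?_) rfl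
    rw [Perm.mul_apply, hσ b hb, swap_apply_of_ne_of_ne] <;> rintro rfl <;> contradiction
  · obtain rfl : σ = 1 := Equiv.ext (by simpa using e)
    obtain ⟨d, d1, d2⟩ := Sm_ex h
    exact base _ A d d1 d2 rfl

end Cfsg.Agent.Pres
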