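import Mathlib
import Cfsg.Agent.Pres.FP1
import Cfsg.Agent.Pres.RG12

/-! Short root subgroups obtained from `SL_n` by sign changes. -/

set_option autoImplicit false
set_option linter.unusedSectionVars false

namespace Cfsg.Agent.Pres

open Subgroup Equiv Matrix Sum
open scoped commutatorElement MatrixGroups

variable {J F G : Type*} [Bar J] [Field F] [DecidableEq J] [Fintype J] [Group G]

theorem comm_conj {K K' : Subgroup G} {g u v : G} (h : ⁅g⁻¹ * u * g, g⁻¹ * v * g⁆ ∈ K')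
    (hK : ∀ k ∈ K', g * k * g⁻¹ ∈ K) : ⁅u, v⁆ ∈ K := by
  convert hK _ h using 1; simp only [commutatorElement_def]; group

theorem commute_of_conj {g u v : G} (h : Commute (g⁻¹ * u * g) (g⁻¹ * v * g)) : Commute u v := by
  simpa [mul_assoc] using h.map (MulAut.conj g)

namespace UD

variable {D : UD J F}

theorem Mon_conjX {g : HH J F} {w : Perm (Option J)} (h : (g, w) ∈ D.Mon) {d : Option J → F}
    (h1 : ∀ y, g (ee y) = d y • ee (w y)) {i j i' j' : J} (hd : D2 i j) (e : w (some i) = some i')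
    (e' : w (some j) = some j') (a : F) : g * D.X i j a * g⁻¹ = D.X i' j' (d (some i) / d (some j) * a) := by
  obtain ⟨d', h1', h2, h3⟩ := Mon_ex h
  obtain rfl : d = d' := funext fun y => by simpa using congrFun ((h1 y).symm.trans (h1' y)) (w y)
  obtain ⟨s, s1, s2, s3⟩ := h.2.1.ex
  obtain rfl : s i = i' := Option.some.inj ((s1 i).symm.trans e)
  obtain rfl : s j = j' := Option.some.inj ((s1 j).symm.trans e')
  have h4 : ∀ v i, g v (some (s i)) = d (some i) * v (some i) := fun v i => by rw [← s1, h2]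
  have h6 : ∀ i, D.σ (d (some i)) * d (some (bar i)) * D.η (s i) = D.η i := fun i => by simpa [s1] using h3 (some i)
  rw [mul_inv_eq_iff_eq_mul]
  refine LinearEquiv.ext fun v => ?_
  have e1 := h6 i
  have e2 := h6 j
  have e4 := ne_of_apply (h1 (some j))
  have e5 : D.σ (d (some j)) ≠ 0 := by simpa using e4
  have := D.η_sq (s j)
  have := D.η_sq j
  simp only [LinearEquiv.mul_apply, X_apply _ hd, X_apply _ (s3 _ _ hd), map_add, map_sub, map_smul, h1, s1, ← s2,
    h4, map_mul, map_div₀]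
  match_scalars <;> field_simp
  grind

theorem Mon_conjY {g : HH J F} {w : Perm (Option J)} (h : (g, w) ∈ D.Mon) {d : Option J → F}
    (h1 : ∀ y, g (ee y) = d y • ee (w y)) {i i' : J} (e : w (some i) = some i') {u b : F} (hL : D.L u b) :
    g * D.Y i u b * g⁻¹ = D.Y i' (d none / d (some (bar i)) * u) (d (some i) / d (some (bar i)) * b) := by
  obtain ⟨d', h1', h2, h3⟩ := Mon_ex h
  obtain rfl : d = d' := funext fun y => by simpa using congrFun ((h1 y).symm.trans (h1' y)) (w y)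
  obtain ⟨s, s1, s2, s3⟩ := h.2.1.ex
  obtain rfl : s i = i' := Option.some.inj ((s1 i).symm.trans e)
  have s0 : w none = none := h.2.1.non
  have h4 : ∀ v i, g v (some (s i)) = d (some i) * v (some i) := fun v i => by rw [← s1, h2]
  have h5 : ∀ v, g v none = d none * v none := fun v => by rw [← h2, s0]
  have h7 : D.σ (d none) * d none = 1 := by simpa [s0] using h3 none
  rw [mul_inv_eq_iff_eq_mul]
  refine LinearEquiv.ext fun v => ?_
  have e1 : D.σ (d (some (bar i))) * d (some i) * D.η (s (bar i)) = D.η (bar i) := by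
    simpa [s1] using h3 (some (bar i))
  have e2 := η_σu hL (s (bar i))
  have e3 := η_σu hL (bar i)
  have e4 := ne_of_apply (h1 (some (bar i)))
  have e5 : D.σ (d (some (bar i))) ≠ 0 := by simpa using e4
  simp only [LinearEquiv.mul_apply, Y_apply, map_add, map_smul, h1, s0, s1, ← s2, h4, h5, map_mul, map_div₀]
  match_scalars <;> field_simp
  grind

theorem Mon_RX {g : HH J F} {w : Perm (Option J)} (h : (g, w) ∈ D.Mon) {i j i' j' : J} (hd : D2 i j)
    (e : w (some i) = some i') (e' : w (some j) = some j') {x : HH J F} (hx : x ∈ D.RX i j) :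
    g * x * g⁻¹ ∈ D.RX i' j' := by
  obtain ⟨d, h1, -⟩ := Mon_ex h
  obtain ⟨a, rfl⟩ := hx
  exact ⟨_, (Mon_conjX h h1 hd e e' a).symm⟩

end UD

theorem Cm.bar {w : Perm (Option J)} (h : Cm w) {x y : J} (e : w (some x) = some y) :
    w (some (bar x)) = some (bar y) := (h (some x)).trans (congrArg ob e)

theorem Cm.d2 {w : Perm (Option J)} (h : Cm w) {x y x' y' : J} (e : w (some x) = some x') (e' : w (some y) = some y')
    (hd : D2 x y) : D2 x' y' := by
  obtain ⟨s, s1, -, s3⟩ := h.ex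
  rw [← Option.some.inj ((s1 x).symm.trans e), ← Option.some.inj ((s1 y).symm.trans e')]; exact s3 _ _ hd

/-- a lift from reduced data -/
def Lift.mk' {D : UD J F} {π : G →* HH J F} (X : J → J → Subgroup G) (Y : J → Subgroup G)
    (X_map : ∀ {i j}, D2 i j → (X i j).map π = D.RX i j) (Y_map : ∀ i, (Y i).map π = D.RY i)
    (X_inj : ∀ {i j}, D2 i j → ∀ x ∈ X i j, π x = 1 → x = 1) (Y_inj : ∀ i, ∀ x ∈ Y i, π x = 1 → x = 1)
    (X_symm : ∀ {i j}, D2 i j → X (bar j) (bar i) = X i j)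
    (c1 : ∀ {i j k}, D2 i j → D2 j k → D2 i k → ∀ x ∈ X i j, ∀ y ∈ X j k, ⁅x, y⁆ ∈ X i k)
    (c2 : ∀ {i j k l}, D2 i j → D2 k l → k ≠ j → k ≠ bar i → l ≠ i → l ≠ bar j →
      ∀ x ∈ X i j, ∀ y ∈ X k l, Commute x y)
    (c3 : ∀ {i j}, D2 i j → ∀ x ∈ X i j, ∀ y ∈ X i (bar j), ⁅x, y⁆ ∈ Y i)
    (c4 : ∀ {i j}, D2 i j → ∀ x ∈ X i j, ∀ y ∈ Y j, ⁅x, y⁆ ∈ X i (bar j) ⊔ Y i)
    (c5 : ∀ {i j k}, D2 j k → j ≠ bar i → k ≠ i → ∀ x ∈ Y i, ∀ y ∈ X j k, Commute x y)
    (c6 : ∀ {i j}, D2 i j → ∀ x ∈ Y i, ∀ y ∈ Y j, ⁅x, y⁆ ∈ X i (bar j)) : Lift D π where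
  X := X
  Y := Y
  Z i := Y i ⊓ (D.RZ i).comap π
  X_map := X_map
  Y_map := Y_map
  Z_map i := le_antisymm (map_le_iff_le_comap.mpr inf_le_right) fun x hx => by
    obtain ⟨y, hy, rfl⟩ := Y_map i ▸ D.RZ_le i hx
    exact ⟨y, ⟨hy, hx⟩, rfl⟩
  X_inj := X_inj
  Y_inj := Y_inj
  X_symm := X_symm
  Z_le _ := inf_le_left
  c1 := c1
  c2 := c2
  c3 {i j} h x hx y hy := ⟨c3 h x hx y hy, by
    obtain ⟨a, ha⟩ : π x ∈ D.RX i j := X_map h ▸ mem_map_of_mem π hx
    obtain ⟨b, hb⟩ : π y ∈ D.RX j (bar i) := by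
      have := D.RX_symm i (bar j)
      rw [bar_bar] at this
      rw [this, ← X_map h.barr]; exact mem_map_of_mem π hy
    exact ⟨_, D.L_min (a * b), by rw [map_commutatorElement π, ← ha, ← hb, D.XX_long h]⟩⟩
  c4 := c4
  c4' {i j} h x hx y hy := by
    obtain ⟨x', hx', y', hy', e⟩ := mem_sup_norm (le_norm_of fun a ha b hb => by
      rw [(c5 h.barr (ne_bar i) h.symm.barl.1 a ha b hb).eq]; simpa using hb) (c4 h x hx y hy.1)
    refine e ▸ mul_mem (mem_sup_left hx') (mem_sup_right ⟨hy', ?_⟩)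
    obtain ⟨a, ha⟩ : π x ∈ D.RX i j := X_map h ▸ mem_map_of_mem π hx
    obtain ⟨a', ha'⟩ : π x' ∈ D.RX i (bar j) := X_map h.barr ▸ mem_map_of_mem π hx'
    obtain ⟨b, hb, e1⟩ : π y ∈ D.RZ j := hy.2
    obtain ⟨u, b', hb', e2⟩ : π y' ∈ D.RY i := Y_map i ▸ mem_map_of_mem π hy'
    have := congrArg (fun g : G => π g (ee (some (bar i))) none) e
    simp only [map_commutatorElement, map_mul, ← ha, ← ha', ← e1, ← e2, D.XY_rel h _ hb] at this
    obtain rfl : u = 0 := by simpa [D.X_apply h.barr, UD.Y_apply, eq_comm] using this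
    exact ⟨b', hb', e2⟩
  c5 := c5
  c6 := c6
  c7 {i j} h x hx y hy := by
    rw [← commutatorElement_eq_one_iff_commute]
    refine X_inj h.barr _ (c6 h x hx.1 y hy) ?_
    obtain ⟨b, hb, e1⟩ : π x ∈ D.RZ i := hx.2
    obtain ⟨u, b', -, e2⟩ : π y ∈ D.RY j := Y_map j ▸ mem_map_of_mem π hy
    simp [map_commutatorElement, ← e1, ← e2, D.YY_rel h hb, D.X_zero]

variable {I : Type*} [DecidableEq I] [Fintype I]

/-- the underlying index -/
def ab (x : I ⊕ I) : I := x.elim id id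

@[simp] theorem ab_inl (a : I) : ab (inl a : I ⊕ I) = a := rfl
@[simp] theorem ab_inr (a : I) : ab (inr a : I ⊕ I) = a := rfl
theorem D2_iff {x y : I ⊕ I} : D2 x y ↔ ab x ≠ ab y := by rcases x with x | x <;> rcases y with y | y <;> simp [D2]

/-- compatibility with the linear subgroup -/
def Cp (D : UD (I ⊕ I) F) (π : G →* HH (I ⊕ I) F) (ψ : SpecialLinearGroup I F →* G) : Prop :=
  ∀ a b t, a ≠ b → π (ψ (tr a b t)) = D.X (inl a) (inl b) t

/-- linear root groups -/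
def UA (ψ : SpecialLinearGroup I F →* G) (a b : I) : Subgroup G := closure (Set.range fun t => ψ (tr a b t))

theorem mem_UA {ψ : SpecialLinearGroup I F →* G} {a b : I} (h : a ≠ b) {x : G} : x ∈ UA ψ a b ↔ ∃ t, ψ (tr a b t) = x := by
  refine ⟨fun hx => ?_, fun hx => subset_closure hx⟩
  induction hx using closure_induction with
  | mem x hx => exact hx
  | one => exact ⟨0, by rw [show tr a b (0 : F) = 1 from (slSt I F).x_zero h, map_one]⟩
  | mul x y _ _ hx hy =>
    obtain ⟨t, rfl⟩ := hx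
    obtain ⟨u, rfl⟩ := hy
    exact ⟨t + u, by rw [show tr a b (t + u) = _ from (slSt I F).add h t u, map_mul]; rfl⟩
  | inv x _ hx =>
    obtain ⟨t, rfl⟩ := hx
    exact ⟨-t, by rw [show tr a b (-t) = _ from (slSt I F).x_neg h t, map_inv]; rfl⟩

theorem tr_UA (ψ : SpecialLinearGroup I F →* G) (a b : I) (t : F) : ψ (tr a b t) ∈ UA ψ a b := subset_closure ⟨t, rfl⟩

namespace Cp

variable {D : UD (I ⊕ I) F} {π : G →* HH (I ⊕ I) F} {ψ : SpecialLinearGroup I F →* G} (h : Cp D π ψ)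
include h

theorem inj {A B : SpecialLinearGroup I F} (e : π (ψ A) = π (ψ B)) : A = B := by
  have := ent_of_tr (π.comp ψ) (e := fun a => some (inl a)) (fun a b h => by simpa using h) fun a b t hab v c => by
    simp [h a b t hab, D.X_apply (D2_inl hab)]
  exact Subtype.ext (Matrix.ext fun a b => by rw [this, this]; exact congrArg (ent · _ _) e)

theorem of_range {x : G} (hx : x ∈ ψ.range) {B : SpecialLinearGroup I F} (e : π x = π (ψ B)) : x = ψ B := by
  obtain ⟨A, rfl⟩ := hx; rw [h.inj e]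

theorem mem_UA' {x : G} (hx : x ∈ ψ.range) {a b : I} (hab : a ≠ b) (e : π x ∈ D.RX (inl a) (inl b)) : x ∈ UA ψ a b := by
  obtain ⟨t, e⟩ := e
  rw [h.of_range hx (e.symm.trans (h a b t hab).symm)]; exact tr_UA _ _ _ _

theorem w_mon {a b : I} (hab : a ≠ b) {t : F} (ht : t ≠ 0) : (π (ψ ((slSt I F).w a b t)), dp (swap a b)) ∈ D.Mon := by
  have := D.Mon_X (D2_inl hab.symm) (t := -t⁻¹) (by simpa using ht)
  rw [← dp_swap hab.symm, Equiv.swap_comm] at this
  simpa [StA.w, slSt, h a b _ hab, h b a _ hab.symm] using this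

theorem dg_mon {a b : I} (hab : a ≠ b) {t : F} (ht : t ≠ 0) : (π (ψ (dg t a b)), 1) ∈ D.Mon := by
  simpa [dg_eq_w ht hab, ← map_mul dp] using mul_mem (h.w_mon hab ht) (h.w_mon hab (t := -1) (by simp))

theorem Sm_mon {A : SpecialLinearGroup I F} {σ : Perm I} (hA : (A, σ) ∈ Sm I F) : (π (ψ A), dp σ) ∈ D.Mon := by
  let C := D.Mon.comap ((π.comp ψ).prodMap dp)
  obtain ⟨B, h1, h2⟩ : ∃ B, (B, σ) ∈ Sm I F ∧ (B, σ) ∈ C := by
    clear hA
    induction σ using Perm.swap_induction_on with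
    | one => exact ⟨1, one_mem _, one_mem _⟩
    | swap_mul σ a b hab ih =>
      obtain ⟨B, h1, h2⟩ := ih
      exact ⟨_, mul_mem (wA_Sm hab) h1, mul_mem (show (wA a b, swap a b) ∈ C from
        wA_eq (F := F) a b ▸ h.w_mon hab one_ne_zero) h2⟩
  have h3 : B⁻¹ * A ∈ C.comap (MonoidHom.inl _ _) := Sm_stab (P := fun _ => True) (σ := 1)
    (fun a b hab => by simpa [C] using h.dg_mon hab (by simp)) (by simp)
    (by simpa using mul_mem (inv_mem h1) hA) (by simp)
  simpa [C] using mul_mem h2 h3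

theorem dg_apply {a b : I} (hab : a ≠ b) {t : F} (ht : t ≠ 0) (y : Option (I ⊕ I)) : π (ψ (dg t a b)) (ee y) =
    (if y = some (inl a) then t else if y = some (inl b) then t⁻¹ else if y = some (inr a) then (D.σ t)⁻¹
      else if y = some (inr b) then D.σ t else 1) • ee y := by
  have e5 : D.σ t ≠ 0 := by simpa using ht
  have := D.η_sq (inl a)
  have := D.η_sq (inl b)
  have hd := D2_inl hab
  simp only [dg_eq_w ht hab, StA.w, slSt, map_mul, h a b _ hab, h b a _ hab.symm, LinearEquiv.mul_apply, D.X_apply hd,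
    D.X_apply hd.symm, Pi.add_apply, Pi.sub_apply, Pi.smul_apply, ee_apply, Option.some.injEq, inl.injEq, inr.injEq,
    hab, hab.symm, bar_inl, reduceCtorEq, if_false, if_true, map_neg, map_one, smul_eq_mul, map_inv₀, inv_neg, inv_one]
  by_cases e1 : y = some (inl a)
  · subst e1; simp [hab, hab.symm]; match_scalars <;> field_simp <;> ring
  by_cases e2 : y = some (inl b)
  · subst e2; simp [hab, hab.symm]; match_scalars <;> field_simp <;> ring
  by_cases e3 : y = some (inr a)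
  · subst e3; simp [hab, hab.symm]; match_scalars <;> field_simp <;> grind
  by_cases e4 : y = some (inr b)
  · subst e4; simp [hab, hab.symm]; match_scalars <;> field_simp <;> grind
  simp [e1, e2, e3, e4, Ne.symm e1, Ne.symm e2, Ne.symm e3, Ne.symm e4]

end Cp

theorem UD.exists_iota [Finite F] {n : ℕ} (D : UD (Fin (n + 2) ⊕ Fin (n + 2)) F) (hR : D.Rk) :
    ∃ ι : SL(n + 2, F) →* D.E, Cp D D.E.subtype ι := by
  let Λ : Lift D (MonoidHom.id _) := Lift.mk' D.RX D.RY (by simp) (by simp) (by simp) (by simp)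
    (fun _ => D.RX_symm _ _) (by rintro i j k h1 h2 h3 _ ⟨a, rfl⟩ _ ⟨b, rfl⟩; exact ⟨_, (D.XX_rel h1 h2 h3 a b).symm⟩)
    (by rintro i j k l - - h1 h2 h3 h4 _ ⟨a, rfl⟩ _ ⟨b, rfl⟩; exact D.XX_comm h1 h2 h3 h4 a b)
    (by
      rintro i j h _ ⟨a, rfl⟩ _ ⟨b, rfl⟩
      rw [D.X_symm i (bar j), bar_bar, D.XX_long h]; exact UD.Y_mem _ (D.L_min _))
    (by
      rintro i j h _ ⟨a, rfl⟩ _ ⟨u, b, hb, rfl⟩
      rw [D.XY_rel h a hb]
      exact mul_mem (mem_sup_left (D.X_mem ..)) (mem_sup_right (UD.Y_mem _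
        (by simpa using UD.L_sign (UD.L_sign (D.L_smul hb (D.σ a)) j) i))))
    (by rintro i j k - h1 h2 _ ⟨u, b, -, rfl⟩ _ ⟨a, rfl⟩; exact D.YX_comm h1 h2 ..)
    (by rintro i j h _ ⟨u, b, hb, rfl⟩ _ ⟨u', b', -, rfl⟩; exact ⟨_, (D.YY_rel h hb).symm⟩)
  obtain ⟨ψ, hψ⟩ := Λ.exists_sl hR (e := inl) fun _ _ => D2_inl
  have h1 : ∀ a b t, a ≠ b → ψ (tr a b t) = D.X (inl a) (inl b) t := fun a b t h =>
    (hψ a b t h).trans (Λ.π_lx (D2_inl h) t)
  exact ⟨ψ.codRestrict _ fun A => (slSt_top (K := D.E.comap ψ) fun a b t h => by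
    rw [mem_comap, h1 a b t h]; exact D.X_E _ _ _).ge (mem_top A), h1⟩

end Cfsg.Agent.Pres
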