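import Mathlib
import Cfsg.Agent.Pres.FP2

/-! Sign change data and the family of short root subgroups. -/

set_option autoImplicit false
set_option linter.unusedSectionVars false

namespace Cfsg.Agent.Pres

open Subgroup Equiv Matrix Sum
open scoped commutatorElement MatrixGroups

variable {F G I : Type*} [Field F] [Group G] [DecidableEq I] [Fintype I]

theorem mem_cc {K : Subgroup G} {g u : G} (h : g * (g⁻¹ * u * g) * g⁻¹ ∈ K) : u ∈ K := by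
  convert h using 1; group
theorem mem_cc' {K : Subgroup G} {g u : G} (h : g * (g⁻¹ * u * g⁻¹⁻¹) * g⁻¹ ∈ K) : u ∈ K := by
  convert h using 1; group

/-- sign change data -/
structure SC (D : UD (I ⊕ I) F) (π : G →* HH (I ⊕ I) F) (ψ : SpecialLinearGroup I F →* G) where
  cp : Cp D π ψ
  o1 : I
  o2 : I
  o12 : o1 ≠ o2
  Θ : Subgroup (G × Perm (Option (I ⊕ I)))
  mon : ∀ p ∈ Θ, (π p.1, p.2) ∈ D.Mon
  sgn : ∀ p ∈ Θ, ∀ a, p.2 (some (inl a)) = some (inl a) ∨ p.2 (some (inl a)) = some (inr a)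
  stab : ∀ p ∈ Θ, ∀ a b, a ≠ b → p.2 (some (inl a)) = some (inl a) → p.2 (some (inl b)) = some (inl b) →
    ∀ t, p.1 * ψ (tr a b t) * p.1⁻¹ ∈ ψ.range
  flip : ∀ a b, a ≠ b → ∃ p ∈ Θ, p.2 (some (inl a)) = some (inr a) ∧ p.2 (some (inl b)) = some (inr b) ∧
    ∀ t, p.1 * ψ (tr a b t) * p.1⁻¹ ∈ ψ.range
  real2 : ∀ x y, D2 x y → ∃ p ∈ Θ, p.2 (some (inl (ab x))) = some x ∧ p.2 (some (inl (ab y))) = some y
  real3 : ∀ x y z, D2 x y → D2 y z → D2 x z → ∃ p ∈ Θ, p.2 (some (inl (ab x))) = some x ∧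
    p.2 (some (inl (ab y))) = some y ∧ p.2 (some (inl (ab z))) = some z
  norm : ∀ A σ, (A, σ) ∈ Sm I F → ∀ p ∈ Θ, (ψ A, dp σ) * p * (ψ A, dp σ)⁻¹ ∈ Θ

namespace SC

variable {D : UD (I ⊕ I) F} {π : G →* HH (I ⊕ I) F} {ψ : SpecialLinearGroup I F →* G} (S : SC D π ψ)

/-- the monomial group -/
def N : Subgroup (G × Perm (Option (I ⊕ I))) := S.Θ ⊔ (Sm I F).map (ψ.prodMap dp)

theorem Θ_N {p : G × Perm (Option (I ⊕ I))} (h : p ∈ S.Θ) : p ∈ S.N := mem_sup_left h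
theorem Sm_N {A : SpecialLinearGroup I F} {σ : Perm I} (h : (A, σ) ∈ Sm I F) : (ψ A, dp σ) ∈ S.N :=
  mem_sup_right ⟨_, h, rfl⟩

theorem N_ex {p : G × Perm (Option (I ⊕ I))} (h : p ∈ S.N) :
    ∃ θ ∈ S.Θ, ∃ A σ, (A, σ) ∈ Sm I F ∧ p = θ * (ψ A, dp σ) := by
  obtain ⟨θ, h1, _, ⟨⟨A, σ⟩, h2, rfl⟩, rfl⟩ := mem_sup_norm (le_norm_of (by
    rintro _ ⟨⟨A, σ⟩, h2, rfl⟩; exact S.norm A σ h2)) h
  exact ⟨θ, h1, A, σ, h2, rfl⟩

variable {S}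

theorem N_mon {g : G} {w : Perm (Option (I ⊕ I))} (h : (g, w) ∈ S.N) : (π g, w) ∈ D.Mon := by
  obtain ⟨θ, h1, A, σ, h2, e0⟩ := S.N_ex h
  obtain ⟨rfl, rfl⟩ := Prod.ext_iff.mp e0
  simpa using mul_mem (S.mon θ h1) (S.cp.Sm_mon h2)

theorem N_cm {g : G} {w : Perm (Option (I ⊕ I))} (h : (g, w) ∈ S.N) : Cm w := (N_mon h).2.1

theorem N_fix {θ : G × Perm (Option (I ⊕ I))} (h : θ ∈ S.Θ) {σ : Perm I} {a b : I}
    (e : θ.2 (dp σ (some (inl a))) = some (inl b)) : σ a = b ∧ θ.2 (some (inl b)) = some (inl b) := by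
  rw [dp_inl] at e
  rcases S.sgn θ h (σ a) with e' | e' <;> rw [e'] at e <;> simp_all

theorem UA_conj {g : G} {w : Perm (Option (I ⊕ I))} (h : (g, w) ∈ S.N) {a b a' b' : I} (hab : a ≠ b)
    (e : w (some (inl a)) = some (inl a')) (e' : w (some (inl b)) = some (inl b')) {u : G} (hu : u ∈ UA ψ a b) :
    g * u * g⁻¹ ∈ UA ψ a' b' := by
  obtain ⟨θ, h1, A, σ, h2, e0⟩ := S.N_ex h
  obtain ⟨rfl, rfl⟩ := Prod.ext_iff.mp e0
  obtain ⟨rfl, e1⟩ := N_fix h1 e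
  obtain ⟨rfl, e2⟩ := N_fix h1 e'
  obtain ⟨t, rfl⟩ := (mem_UA hab).mp hu
  obtain ⟨c, -, hc⟩ := Sm_tr h2 hab
  have h3 := σ.injective.ne hab
  have h4 := S.stab θ h1 _ _ h3 e1 e2 (c * t)
  rw [← hc] at h4
  refine S.cp.mem_UA' (by simpa [mul_assoc] using h4) h3 ?_
  simpa using UD.Mon_RX (N_mon h) (D2_inl hab) e e' (S.cp a b t hab ▸ D.X_mem ..)

variable (S) in
/-- the short root subgroups -/
def X (x y : I ⊕ I) : Subgroup G := famN S.N (some (inl S.o1), some (inl S.o2)) (UA ψ S.o1 S.o2) (some x, some y)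

theorem X_conj {g : G} {w : Perm (Option (I ⊕ I))} (h : (g, w) ∈ S.N) {x y x' y' : I ⊕ I}
    (e : w (some x) = some x') (e' : w (some y) = some y') {u : G} (hu : u ∈ S.X x y) : g * u * g⁻¹ ∈ S.X x' y' := by
  have := famN_conj h hu
  simp only [Prod.smul_mk, Perm.smul_def, e, e'] at this
  exact this

theorem X_conj' {g : G} {w : Perm (Option (I ⊕ I))} (h : (g, w) ∈ S.N) {x y x' y' : I ⊕ I}
    (e : w (some x) = some x') (e' : w (some y) = some y') {u : G} (hu : u ∈ S.X x' y') : g⁻¹ * u * g ∈ S.X x y := by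
  simpa using X_conj (g := g⁻¹) (w := w⁻¹) (inv_mem h) (by simp [← e]) (by simp [← e']) hu

variable (S)

theorem X_inl {a b : I} (h : a ≠ b) : S.X (inl a) (inl b) = UA ψ a b := by
  obtain ⟨σ, hσ⟩ := Perm.exists_extending_pair _ _ (inj2 S.o12) (inj2 h)
  obtain ⟨A, hA⟩ := exists_Sm (F := F) σ
  have e1 : dp σ (some (inl S.o1)) = some (inl a) := by simpa using hσ 0
  have e2 : dp σ (some (inl S.o2)) = some (inl b) := by simpa using hσ 1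
  have h0 : S.X (inl S.o1) (inl S.o2) = UA ψ S.o1 S.o2 := famN_self fun p hp e u hu =>
    UA_conj hp S.o12 (congrArg Prod.fst e) (congrArg Prod.snd e) hu
  refine le_antisymm (fun u hu => ?_) fun u hu => ?_
  · exact mem_cc <| UA_conj (S.Sm_N hA) S.o12 e1 e2 (h0 ▸ X_conj' (S.Sm_N hA) e1 e2 hu)
  · exact mem_cc' <| X_conj (S.Sm_N hA) e1 e2 (h0 ▸ UA_conj (g := (ψ A)⁻¹) (w := (dp σ)⁻¹)
      (inv_mem (S.Sm_N hA)) h (Perm.inv_eq_iff_eq.mpr e1.symm) (Perm.inv_eq_iff_eq.mpr e2.symm) hu)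

theorem tr_X {a b : I} (h : a ≠ b) (t : F) : ψ (tr a b t) ∈ S.X (inl a) (inl b) := S.X_inl h ▸ tr_UA ψ a b t

theorem trans2 {x y : I ⊕ I} (h : D2 x y) {a b : I} (hab : a ≠ b) :
    ∃ g w, (g, w) ∈ S.N ∧ w (some (inl a)) = some x ∧ w (some (inl b)) = some y := by
  obtain ⟨σ, hσ⟩ := Perm.exists_extending_pair _ _ (inj2 hab) (inj2 (D2_iff.mp h))
  obtain ⟨A, hA⟩ := exists_Sm (F := F) σ
  obtain ⟨p, hp, e1, e2⟩ := S.real2 x y h
  exact ⟨p.1 * ψ A, p.2 * dp σ, mul_mem (S.Θ_N hp) (S.Sm_N hA), by simpa [← e1] using hσ 0, by simpa [← e2] using hσ 1⟩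

theorem X_ex {x y : I ⊕ I} (h : D2 x y) {u : G} (hu : u ∈ S.X x y) : ∃ g w t, (g, w) ∈ S.N ∧
    w (some (inl S.o1)) = some x ∧ w (some (inl S.o2)) = some y ∧ u = g * ψ (tr S.o1 S.o2 t) * g⁻¹ := by
  obtain ⟨g, w, h1, e1, e2⟩ := S.trans2 h S.o12
  obtain ⟨t, ht⟩ := (mem_UA S.o12).mp (S.X_inl S.o12 ▸ X_conj' h1 e1 e2 hu)
  exact ⟨g, w, t, h1, e1, e2, by simp [ht, mul_assoc]⟩

theorem X_π {x y : I ⊕ I} (h : D2 x y) {u : G} (hu : u ∈ S.X x y) : π u ∈ D.RX x y := by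
  obtain ⟨g, w, t, h1, e1, e2, rfl⟩ := S.X_ex h hu
  simpa using UD.Mon_RX (N_mon h1) (D2_inl S.o12) e1 e2 (S.cp _ _ t S.o12 ▸ D.X_mem ..)

theorem X_map {x y : I ⊕ I} (h : D2 x y) : (S.X x y).map π = D.RX x y := by
  refine le_antisymm (map_le_iff_le_comap.mpr fun u => S.X_π h) fun u hu => ?_
  obtain ⟨g, w, h1, e1, e2⟩ := S.trans2 h S.o12
  obtain ⟨t, ht⟩ := UD.Mon_RX (g := (π g)⁻¹) (w := w⁻¹) (inv_mem (N_mon h1)) h (Perm.inv_eq_iff_eq.mpr e1.symm)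
    (Perm.inv_eq_iff_eq.mpr e2.symm) hu
  exact ⟨_, X_conj h1 e1 e2 (S.tr_X S.o12 t), by simp [S.cp _ _ t S.o12, ht, mul_assoc]⟩

theorem X_inj {x y : I ⊕ I} (h : D2 x y) : ∀ u ∈ S.X x y, π u = 1 → u = 1 := fun u hu e => by
  obtain ⟨g, w, t, -, -, -, rfl⟩ := S.X_ex h hu
  rw [S.cp.inj (A := tr S.o1 S.o2 t) (B := 1) (by simpa using e)]; simp

theorem X_uniq {x y : I ⊕ I} (h : D2 x y) {u v : G} (hu : u ∈ S.X x y) (hv : v ∈ S.X x y) (e : π u = π v) : u = v :=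
  mul_inv_eq_one.mp (S.X_inj h _ (mul_mem hu (inv_mem hv)) (by simp [e]))

theorem X_symm {x y : I ⊕ I} (h : D2 x y) : S.X (bar y) (bar x) = S.X x y := by
  have key : ∀ {x y : I ⊕ I}, D2 x y → S.X (bar y) (bar x) ≤ S.X x y := fun {x y} h u hu => by
    obtain ⟨g, w, h1, e1, e2⟩ := S.trans2 h S.o12
    obtain ⟨p, hp, f1, f2, f3⟩ := S.flip _ _ S.o12.symm
    have h2 := X_conj' h1 ((N_cm h1).bar e2) ((N_cm h1).bar e1) hu
    obtain ⟨t, ht⟩ := (mem_UA S.o12.symm).mp (S.X_inl S.o12.symm ▸ X_conj' (S.Θ_N hp) f1 f2 h2)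
    have h3 := f3 t
    rw [ht, show p.1 * (p.1⁻¹ * (g⁻¹ * u * g) * p.1) * p.1⁻¹ = g⁻¹ * u * g by group] at h3
    have h4 := S.cp.mem_UA' h3 S.o12 (D.RX_symm _ _ ▸ S.X_π (D2_inl S.o12).dual h2)
    exact mem_cc <| X_conj h1 e1 e2 (S.X_inl S.o12 ▸ h4)
  exact le_antisymm (key h) (by simpa using key h.dual)

theorem c1 {x y z : I ⊕ I} (h1 : D2 x y) (h2 : D2 y z) (h3 : D2 x z) : ∀ u ∈ S.X x y, ∀ v ∈ S.X y z, ⁅u, v⁆ ∈ S.X x z := by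
  intro u hu v hv
  obtain ⟨p, hp, e1, e2, e3⟩ := S.real3 x y z h1 h2 h3
  rw [D2_iff] at h1 h2 h3
  obtain ⟨s, hs⟩ := (mem_UA h1).mp (S.X_inl h1 ▸ X_conj' (S.Θ_N hp) e1 e2 hu)
  obtain ⟨t, ht⟩ := (mem_UA h2).mp (S.X_inl h2 ▸ X_conj' (S.Θ_N hp) e2 e3 hv)
  refine comm_conj (g := p.1) ?_ fun k hk => X_conj (S.Θ_N hp) e1 e3 hk
  rw [← hs, ← ht, ← map_commutatorElement, show ⁅tr _ _ s, tr _ _ t⁆ = _ from (slSt I F).rel h1 h2 h3 s t]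
  exact S.tr_X h3 _

theorem cA {x y z : I ⊕ I} (h1 : D2 x y) (h3 : D2 x z) (h2 : z ≠ bar y) : ∀ u ∈ S.X x y, ∀ v ∈ S.X x z, Commute u v := by
  intro u hu v hv
  obtain ⟨p, hp, e1, e2, e3⟩ : ∃ p ∈ S.Θ, p.2 (some (inl (ab x))) = some x ∧
      p.2 (some (inl (ab y))) = some y ∧ p.2 (some (inl (ab z))) = some z := by
    by_cases e : z = y
    · obtain ⟨p, hp, e1, e2⟩ := S.real2 x y h1
      exact ⟨p, hp, e1, e2, e ▸ e2⟩
    · exact S.real3 x y z h1 (D2.symm ⟨e, h2⟩) h3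
  rw [D2_iff] at h1 h3
  obtain ⟨s, hs⟩ := (mem_UA h1).mp (S.X_inl h1 ▸ X_conj' (S.Θ_N hp) e1 e2 hu)
  obtain ⟨t, ht⟩ := (mem_UA h3).mp (S.X_inl h3 ▸ X_conj' (S.Θ_N hp) e1 e3 hv)
  refine commute_of_conj (g := p.1) ?_
  rw [← hs, ← ht]
  exact ((slSt I F).comm h1 h3 h1.symm h3 s t).map ψ

theorem c4_of {x y z w : I ⊕ I} (h1 : D2 x y) (h2 : D2 z w) (h3 : D2 z y) (h4 : D2 x w)
    (h : ∃ p ∈ S.Θ, p.2 (some (inl (ab x))) = some x ∧ p.2 (some (inl (ab y))) = some y ∧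
      p.2 (some (inl (ab z))) = some z ∧ p.2 (some (inl (ab w))) = some w) :
    ∀ u ∈ S.X x y, ∀ v ∈ S.X z w, Commute u v := by
  intro u hu v hv
  obtain ⟨p, hp, e1, e2, e3, e4⟩ := h
  rw [D2_iff] at h1 h2 h3 h4
  obtain ⟨s, hs⟩ := (mem_UA h1).mp (S.X_inl h1 ▸ X_conj' (S.Θ_N hp) e1 e2 hu)
  obtain ⟨t, ht⟩ := (mem_UA h2).mp (S.X_inl h2 ▸ X_conj' (S.Θ_N hp) e3 e4 hv)
  refine commute_of_conj (g := p.1) ?_
  rw [← hs, ← ht]
  exact ((slSt I F).comm h1 h2 h3.symm h4 s t).map ψ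

theorem c2 (H : ∀ x y z w, D2 x y → D2 z w → D2 z x → D2 z y → D2 x w → D2 y w →
      ∀ u ∈ S.X x y, ∀ v ∈ S.X z w, Commute u v) {x y z w : I ⊕ I} (h : D2 x y) (h' : D2 z w) (e1 : z ≠ y)
    (e2 : z ≠ bar x) (e3 : w ≠ x) (e4 : w ≠ bar y) : ∀ u ∈ S.X x y, ∀ v ∈ S.X z w, Commute u v := by
  by_cases f1 : z = x
  · subst f1; exact S.cA h h' e4
  by_cases f2 : w = bar x
  · subst f2
    rw [← S.X_symm h', bar_bar]; exact S.cA h (by simpa using h'.dual) (by simpa using e1)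
  by_cases f3 : z = bar y
  · subst f3
    rw [← S.X_symm h]; exact S.cA h.dual h' (by simpa using e3)
  by_cases f4 : w = y
  · subst f4
    rw [← S.X_symm h, ← S.X_symm h']; exact S.cA h.dual h'.dual (by simpa [bar_eq_iff] using e2)
  exact H x y z w h h' ⟨f1, e2⟩ ⟨e1, f3⟩ (D2.symm ⟨e3, f2⟩) (D2.symm ⟨f4, e4⟩)

theorem X_le {K : Subgroup G} (h1 : ψ.range ≤ K) (h2 : ∀ p ∈ S.Θ, p.1 ∈ K) (x y : I ⊕ I) : S.X x y ≤ K :=
  famN_le (fun p hp u hu => by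
    have : p.1 ∈ K := mem_comap.mp (sup_le (c := K.comap (MonoidHom.fst _ _)) h2
      (by rintro _ ⟨q, -, rfl⟩; exact h1 ⟨_, rfl⟩) hp)
    obtain ⟨t, rfl⟩ := (mem_UA S.o12).mp hu
    exact mul_mem (mul_mem this (h1 ⟨_, rfl⟩)) (inv_mem this)) _

end SC

/-- stabilisers in a commuting family of sign changes -/
theorem comm_stab {Ω : Type*} {W : I → G × Perm Ω} (hc : ∀ i j, Commute (W i) (W j)) {K : Subgroup G} {a b : I}
    {x y : Ω} (h1 : ∀ i, i ≠ a → i ≠ b → (W i).1 ∈ K) (h2 : (W a).1 * (W a).1 ∈ K) (h3 : (W b).1 * (W b).1 ∈ K)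
    (hsq : ∀ i, (W i).2 * (W i).2 = 1) (hx : ∀ i, (W i).2 x = x ↔ i ≠ a) (hy : ∀ i, (W i).2 y = y ↔ i ≠ b)
    {p : G × Perm Ω} (hp : p ∈ closure (Set.range W)) (e1 : p.2 x = x) (e2 : p.2 y = y) : p.1 ∈ K := by
  let _ : MulAction (G × Perm Ω) Ω := MulAction.compHom Ω (MonoidHom.snd G (Perm Ω))
  have hC : ∀ i, ∀ k ∈ closure (Set.range W), Commute (W i) k := fun i k hk =>
    (closure_le (centralizer {W i})).mpr (by rintro _ ⟨j, rfl⟩; exact mem_centralizer_singleton_iff.mpr (hc j i)) hk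
      _ rfl
  let K0 := closure (Set.range W) ⊓ K.prod (MulAction.stabilizer (Perm Ω) x ⊓ MulAction.stabilizer (Perm Ω) y)
  have hW : ∀ i, W i ∈ closure (Set.range W) := fun i => subset_closure ⟨i, rfl⟩
  have sq : ∀ i, (W i).1 * (W i).1 ∈ K → W i * W i ∈ K0 := fun i h =>
    ⟨mul_mem (hW i) (hW i), h, by rw [Prod.snd_mul, hsq]; exact one_mem _⟩
  have h4 : K0 ⊔ zpowers (W a) ≤ closure (Set.range W) := sup_le inf_le_left (zpowers_le.mpr (hW a))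
  refine (stab_step (K := K0) (x := x) (sq a h2) (fun k hk => hC a k hk.1) (fun k hk => hk.2.2.1)
    (fun e => (hx a).mp e rfl) ?_ e1).2.1
  have h5 : ∀ i, i ≠ b → W i ∈ K0 ⊔ zpowers (W a) := fun i hi => by
    by_cases e : i = a
    · exact e ▸ mem_sup_right (mem_zpowers _)
    · exact mem_sup_left ⟨hW i, h1 i e hi, (hx i).mpr e, (hy i).mpr hi⟩
  by_cases hab : a = b
  · refine (closure_le _).mpr ?_ hp
    rintro _ ⟨i, rfl⟩
    by_cases e : i = b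
    · exact (e.trans hab.symm) ▸ mem_sup_right (mem_zpowers _)
    · exact h5 i e
  refine stab_step (r := W b) (x := y) (mem_sup_left (sq b h3)) (fun k hk => hC b k (h4 hk))
    (fun k hk => mem_comap.mp (sup_le (c := (MulAction.stabilizer (Perm Ω) y).comap (MonoidHom.snd _ _))
      (fun k hk => hk.2.2.2) (zpowers_le.mpr ((hy a).mpr hab)) hk)) (fun e => (hy b).mp e rfl) ((closure_le _).mpr ?_ hp) e2
  rintro _ ⟨i, rfl⟩
  by_cases e : i = b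
  · exact e ▸ mem_sup_right (mem_zpowers _)
  · exact mem_sup_left (h5 i e)

end Cfsg.Agent.Pres
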