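import Mathlib
import Cfsg.Agent.Pres.FP3

/-! Sign changes for the orthogonal groups. -/

set_option autoImplicit false
set_option linter.unusedSectionVars false

namespace Cfsg.Agent.Pres

open Subgroup Equiv Matrix Sum
open scoped commutatorElement MatrixGroups

theorem exists_famE {G A W Ω : Type*} [Group G] [Group A] [Group W] [MulAction W Ω] (ψ : A →* G)
    (N : Subgroup (A × W)) (o : Ω) (s : G) (h : ∀ a w, (a, w) ∈ N → w • o = o → Commute (ψ a) s) :
    ∃ f : Ω → G, f o = s ∧ ∀ a w, (a, w) ∈ N → ∀ x, ψ a * f x * (ψ a)⁻¹ = f (w • x) := by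
  classical
  let f : Ω → G := fun x => if h : ∃ p ∈ N, p.2 • o = x then ψ h.choose.1 * s * (ψ h.choose.1)⁻¹ else 1
  have key : ∀ p ∈ N, f (p.2 • o) = ψ p.1 * s * (ψ p.1)⁻¹ := fun p hp => by
    have e : ∃ q ∈ N, q.2 • o = p.2 • o := ⟨p, hp, rfl⟩
    have := (h (p.1⁻¹ * e.choose.1) (p.2⁻¹ * e.choose.2) (mul_mem (inv_mem hp) e.choose_spec.1)
      (by rw [mul_smul, e.choose_spec.2]; simp)).eq
    simp only [map_mul, map_inv] at this
    simp only [f, dif_pos e]
    rw [← mul_inv_cancel_left (ψ p.1) (ψ e.choose.1), mul_assoc (ψ p.1), this]; group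
  refine ⟨f, by simpa using key 1 (one_mem _), fun a w hp x => ?_⟩
  by_cases e : ∃ p ∈ N, p.2 • o = x
  · obtain ⟨p, h1, rfl⟩ := e
    rw [← mul_smul, key p h1, show w * p.2 = ((a, w) * p).2 from rfl, key _ (mul_mem hp h1)]; simp [mul_assoc]
  · have e' : ¬ ∃ p ∈ N, p.2 • o = w • x := fun ⟨p, h1, h2⟩ =>
      e ⟨_, mul_mem (inv_mem hp) h1, by rw [Prod.snd_mul, mul_smul, h2]; simp⟩
    simp only [f, dif_neg e, dif_neg e']; simp

theorem sq_sq {F : Type*} [Field F] [Finite F] (c : F) : ∃ a b : F, a ^ 2 + b ^ 2 = c := by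
  have := Fintype.ofFinite F
  by_cases h : ringChar F = 2
  · obtain ⟨a, rfl⟩ := FiniteField.isSquare_of_char_two h c
    exact ⟨a, 0, by ring⟩
  · obtain ⟨a, b, hab⟩ := FiniteField.exists_root_sum_quadratic (f := .X ^ 2) (g := .X ^ 2 - .C c)
      (Polynomial.degree_X_pow 2) (Polynomial.degree_X_pow_sub_C two_pos c) (FiniteField.odd_card_of_char_ne_two h)
    exact ⟨a, b, by simpa [← add_sub_assoc, sub_eq_zero] using hab⟩

variable {F G I : Type*} [Field F] [Group G] [DecidableEq I] [Fintype I]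

theorem comm_sq [Finite F] {x y : F → G} (hx : ∀ s t, x (s + t) = x s * x t) (hy : y 0 = 1)
    (h : ∀ t r, t ≠ 0 → r ≠ 0 → Commute (x (t * r)) (y (r / t))) (a b : F) : Commute (x a) (y b) := by
  have h0 : x 0 = 1 := by have := hx 0 0; rwa [add_zero, left_eq_mul] at this
  by_cases e : b = 0
  · simp [e, hy]
  have key : ∀ t, Commute (x (t ^ 2 * b)) (y b) := fun t => by
    by_cases e' : t = 0
    · simp [e', h0]
    · convert h t (t * b) e' (mul_ne_zero e' e) using 2 <;> field_simp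
  obtain ⟨s, t, h1⟩ := sq_sq (a / b)
  rw [show a = s ^ 2 * b + t ^ 2 * b by rw [← add_mul, h1]; field_simp, hx]
  exact (key s).mul_left (key t)

/-- sign changes -/
def sc (i : I) : Perm (Option (I ⊕ I)) := swap (some (inl i)) (some (inr i))

theorem sc_inl (i a : I) : sc i (some (inl a)) = if a = i then some (inr a) else some (inl a) := by
  simp only [sc, swap_apply_def]; split_ifs <;> simp_all
theorem sc_inr (i a : I) : sc i (some (inr a)) = if a = i then some (inl a) else some (inr a) := by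
  simp only [sc, swap_apply_def]; split_ifs <;> simp_all
@[simp] theorem sc_none (i : I) : sc i none = none := by simp [sc, swap_apply_def]
@[simp] theorem sc_sq (i : I) : sc i * sc i = 1 := swap_mul_self _ _
theorem sc_cm (i : I) : Cm (sc i) := by rintro (_ | _ | _) <;> simp [sc_inl, sc_inr, apply_ite ob]
theorem sc_comm (i j : I) : Commute (sc i) (sc j) := Equiv.ext (by
  rintro (_ | _ | _) <;> simp only [Perm.mul_apply, sc_inl, sc_inr, sc_none, apply_ite (sc _)] <;> split_ifs <;> rfl)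
theorem dp_sc (σ : Perm I) (i : I) : dp σ * sc i * (dp σ)⁻¹ = sc (σ i) := (swap_apply_apply _ _ _).symm
theorem sc_or (i : I) (y : Option (I ⊕ I)) : sc i y = y ∨ sc i y = ob y := by
  rcases y with _ | a | a <;> simp only [sc_inl, sc_inr, sc_none] <;> [simp; split_ifs <;> simp; split_ifs <;> simp]

variable (F) in
/-- permutation matrices -/
def pmv {J : Type*} : Perm (Option J) →* HH J F where
  toFun w := LinearEquiv.funCongrLeft F F w⁻¹
  map_one' := rfl
  map_mul' _ _ := rfl

theorem pmv_ee {J : Type*} [DecidableEq J] (w : Perm (Option J)) (y : Option J) : pmv F w (ee y) = ee (w y) :=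
  funext fun x => show (Pi.single y 1 : VV J F) (w⁻¹ x) = (Pi.single (w y) 1 : VV J F) x by
    simp only [Pi.single_apply, Perm.inv_eq_iff_eq]

theorem Cp.Sm_apply {D : UD (I ⊕ I) F} {π : G →* HH (I ⊕ I) F} {ψ : SpecialLinearGroup I F →* G} (h : Cp D π ψ)
    (hη : ∀ a b, D.η (inl a) = D.η (inl b)) {A : SpecialLinearGroup I F} {σ : Perm I} (hA : (A, σ) ∈ Sm I F) : ∃ d : Option (I ⊕ I) → F,
      (∀ y, π (ψ A) (ee y) = d y • ee (dp σ y)) ∧ (∀ y, d (ob y) = d y) ∧ (∀ y, d y = 1 ∨ d y = -1) ∧ d none = 1 := by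
  obtain ⟨d, h1, -, h3⟩ := UD.Mon_ex (h.Sm_mon hA)
  have h0 : d none = 1 := by
    have : π (ψ A) (ee none) = ee none := (slSt_top (K := (Fx (ee none)).comap (π.comp ψ)) fun a b t hab => by
      simp [mem_Fx, h a b t hab, D.X_apply (D2_inl hab)]).ge (mem_top A)
    simpa [h1] using congrFun this none
  have h4 : ∀ a, d (some (inl a)) = 1 ∨ d (some (inl a)) = -1 := fun a => by
    obtain ⟨c, hc, e⟩ := hA a
    have := ent_of_tr (π.comp ψ) (e := fun a => some (inl a)) (fun a b h => by simpa using h) (fun a b t hab v c => by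
      simp [h a b t hab, D.X_apply (D2_inl hab)]) A (σ a) a
    have e' := congrFun e (σ a)
    simp [slρ_apply, this, ent, h1] at e'
    exact mul_self_eq_one_iff.mp (e' ▸ hc)
  have h5 : ∀ a, d (some (inr a)) = d (some (inl a)) := fun a => by
    have e1 := h3 (some (inl a))
    have := D.η_ne (inl a)
    rcases h4 a with e | e <;> simp [e, hη (σ a) a] at e1 <;> grind
  refine ⟨d, h1, ?_, ?_, h0⟩
  · rintro (_ | a | a) <;> simp [h5]
  · rintro (_ | a | a) <;> simp [h0, h4, h5]

end Cfsg.Agent.Pres
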