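import Mathlib
import Cfsg.Agent.Pres.FP4

/-! A presentation of the orthogonal groups of plus type over `SL_n`. -/

set_option autoImplicit false
set_option linter.unusedSectionVars false

namespace Cfsg.Agent.Pres

open Subgroup Equiv Matrix Sum
open scoped commutatorElement MatrixGroups

variable {F G I : Type*} [Field F] [Group G] [DecidableEq I] [Fintype I]

theorem dg_symm {i j : I} (h : i ≠ j) : dg (-1 : F) i j = dg (-1) j i := sl_ext' fun v k => by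
  simp only [slρ_dg (show (-1 : F) ≠ 0 by simp) h, slρ_dg (show (-1 : F) ≠ 0 by simp) h.symm, dv]
  split_ifs <;> simp_all

theorem dg_sq {i j : I} (h : i ≠ j) : dg (-1 : F) i j * dg (-1) i j = 1 := sl_ext' fun v k => by
  simp only [map_mul, Module.End.mul_apply, slρ_dg (show (-1 : F) ≠ 0 by simp) h, dv]
  split_ifs <;> simp

theorem dg_Sm {i j : I} (h : i ≠ j) : (dg (-1 : F) i j, 1) ∈ Sm I F := by
  simpa [← wA_sq h, sq] using pow_mem (wA_Sm (F := F) h) 2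

theorem dg_mem {K : Subgroup (SpecialLinearGroup I F)} {i j : I} (h : i ≠ j) (h1 : ∀ t, tr i j t ∈ K)
    (h2 : ∀ t, tr j i t ∈ K) {t : F} (ht : t ≠ 0) : dg t i j ∈ K := by
  rw [dg_eq_w ht h]
  exact mul_mem (mul_mem (mul_mem (h1 _) (h2 _)) (h1 _)) (mul_mem (mul_mem (h1 _) (h2 _)) (h1 _))

theorem dg_all {K : Subgroup (SpecialLinearGroup I F)} (a : I) (h : ∀ k, a ≠ k → dg (-1 : F) a k ∈ K) (i j : I)
    (hij : i ≠ j) : dg (-1 : F) i j ∈ K := by
  by_cases e : a = i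
  · exact e ▸ h j (e ▸ hij)
  by_cases e' : a = j
  · exact dg_symm (F := F) hij ▸ e' ▸ h i e
  rw [← dg_mul (by simp) (Ne.symm e) e' hij, dg_symm (Ne.symm e)]
  exact mul_mem (h i e) (h j e')

theorem Cm.mul {J : Type*} [Bar J] {w w' : Perm (Option J)} (h : Cm w) (h' : Cm w') : Cm (w * w') := fun x => by
  simp [h' x, h _]

theorem pmv_mon {w : Perm (Option (I ⊕ I))} (hw : Cm w) : (pmv F w, w) ∈ (oD I F).Mon :=
  ⟨fun u v => by
    simp only [UD.Bf]
    rw [← Equiv.sum_comp w]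
    refine Finset.sum_congr rfl fun x _ => ?_
    have : ∀ x, (oD I F).η' x = 1 := by rintro (_ | _) <;> rfl
    rw [this, this, ← hw]
    exact show 1 * u (w⁻¹ (w x)) * v (w⁻¹ (w (ob x))) = _ by simp [oD], hw, fun y => ⟨1, by simp [pmv_ee]⟩⟩

theorem pmv_X {w : Perm (Option (I ⊕ I))} (hw : Cm w) {i j i' j' : I ⊕ I} (h : D2 i j) (e : w (some i) = some i')
    (e' : w (some j) = some j') (t : F) : pmv F w * (oD I F).X i j t * (pmv F w)⁻¹ = (oD I F).X i' j' t := by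
  simpa using UD.Mon_conjX (pmv_mon hw) (d := fun _ => 1) (by simp [pmv_ee]) h e e' t

variable {π : G →* HH (I ⊕ I) F} {ψ : SpecialLinearGroup I F →* G}

theorem Cp.conj_pmv (h : Cp (oD I F) π ψ) {A : SpecialLinearGroup I F} {σ : Perm I} (hA : (A, σ) ∈ Sm I F) (i j : I) :
    π (ψ A) * pmv F (sc i * sc j) * (π (ψ A))⁻¹ = pmv F (sc (σ i) * sc (σ j)) := by
  obtain ⟨d, h1, h2, -⟩ := h.Sm_apply (fun _ _ => rfl) hA
  have h3 : ∀ i y, d (sc i y) = d y := fun i y => by rcases sc_or i y with e | e <;> simp [e, h2]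
  rw [mul_inv_eq_iff_eq_mul, ← dp_sc, ← dp_sc]
  exact basis_ext fun y => by simp [pmv_ee, h1, h3, -map_mul, -map_inv]

/-- pairs of roots normalised by a double sign change -/
def Nb (a b i j : I) : Prop := i = a ∧ j = b ∨ i = b ∧ j = a ∨ i ≠ a ∧ i ≠ b ∧ j ≠ a ∧ j ≠ b

/-- relations for the double sign change -/
structure OD (π : G →* HH (I ⊕ I) F) (ψ : SpecialLinearGroup I F →* G) (s : G) (a b c : I) : Prop where
  cp : Cp (oD I F) π ψ
  ab : a ≠ b
  bc : b ≠ c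
  ac : a ≠ c
  hs : π s = pmv F (sc a * sc b)
  r1 : ∀ i j t, i ≠ j → Nb a b i j → s * ψ (tr i j t) * s⁻¹ ∈ ψ.range
  r2 : s * ψ (dg (-1) a c) * s⁻¹ ∈ ψ.range
  r3 : s * (ψ (wA a c) * s * (ψ (wA a c))⁻¹) = ψ (wA b c) * s * (ψ (wA b c))⁻¹

/-- the family of double sign changes -/
structure PF (π : G →* HH (I ⊕ I) F) (ψ : SpecialLinearGroup I F →* G) (P : I → I → G) : Prop where
  cp : Cp (oD I F) π ψ
  self : ∀ i, P i i = 1
  symm : ∀ i j, P i j = P j i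
  mul : ∀ i j k, P i j * P j k = P i k
  hπ : ∀ i j, π (P i j) = pmv F (sc i * sc j)
  conj : ∀ A σ, (A, σ) ∈ Sm I F → ∀ i j, ψ A * P i j * (ψ A)⁻¹ = P (σ i) (σ j)
  r1 : ∀ a b i j t, i ≠ j → Nb a b i j → P a b * ψ (tr i j t) * (P a b)⁻¹ ∈ ψ.range

theorem OD.exists_PF {s : G} {a b c : I} (h : OD π ψ s a b c) : ∃ P, PF π ψ P ∧ P a b = s := by
  let K := (ψ.range.comap (MulAut.conj s).toMonoidHom).comap ψ
  have hK : ∀ i j, i ≠ j → Nb a b i j → ∀ t, tr i j t ∈ K := fun i j h1 h2 t => h.r1 i j t h1 h2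
  have hw : ∀ i j, i ≠ j → Nb a b i j → wA i j ∈ K := fun i j h1 h2 =>
    mul_mem (mul_mem (hK i j h1 h2 _) (hK j i h1.symm (by unfold Nb at *; tauto) _)) (hK i j h1 h2 _)
  have hc : ∀ A σ, (A, σ) ∈ Sm I F → A ∈ K → sc (σ a) * sc (σ b) = sc a * sc b → Commute (ψ A) s := fun A σ h1 h2 h3 => by
    have := h.cp.conj_pmv h1 a b
    rw [h3, ← h.hs, mul_inv_eq_iff_eq_mul] at this
    exact (mul_inv_eq_iff_eq_mul.mp (h.cp.of_range h2 (B := A) (by simp [← this]))).symm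
  obtain ⟨f, f1, f2⟩ := exists_famE ψ (Sm I F) (a, b) s fun A σ h1 h2 => by
    obtain ⟨e1, e2⟩ : σ a = a ∧ σ b = b := Prod.ext_iff.mp h2
    refine hc A σ h1 (Sm_stab (P := fun i => i = a ∨ i = b) (dg_all a fun k hk => ?_) (fun i j h1 h2 h3 => hw i j h1
      (by unfold Nb; tauto)) h1 (by rintro _ (rfl | rfl) <;> assumption)) (by rw [e1, e2])
    by_cases e : k = b
    · exact e ▸ wA_sq (F := F) h.ab ▸ pow_mem (hw a b h.ab (.inl ⟨rfl, rfl⟩)) 2
    by_cases e' : c = k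
    · exact e' ▸ h.r2
    rw [← dg_mul (by simp) h.ac e' hk]
    exact mul_mem h.r2 (wA_sq (F := F) e' ▸ pow_mem (hw c k e' (.inr (.inr ⟨h.ac.symm, h.bc.symm, hk.symm, e⟩))) 2)
  have f3 : ∀ A σ, (A, σ) ∈ Sm I F → ∀ i j, ψ A * f (i, j) * (ψ A)⁻¹ = f (σ i, σ j) := fun A σ h i j => f2 A σ h _
  have tr3 : ∀ {i j k}, i ≠ j → j ≠ k → i ≠ k → ∃ A σ, (A, σ) ∈ Sm I F ∧ σ a = i ∧ σ b = j ∧ σ c = k := fun h1 h2 h3 => by
    obtain ⟨σ, hσ⟩ := Perm.exists_extending_pair _ _ (inj3 h.ab h.bc h.ac) (inj3 h1 h2 h3)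
    obtain ⟨A, hA⟩ := exists_Sm (F := F) σ
    exact ⟨A, σ, hA, hσ 0, hσ 1, hσ 2⟩
  have tr2 : ∀ {i j}, i ≠ j → ∃ A σ, (A, σ) ∈ Sm I F ∧ σ a = i ∧ σ b = j := fun h1 => by
    obtain ⟨σ, hσ⟩ := Perm.exists_extending_pair _ _ (inj2 h.ab) (inj2 h1)
    obtain ⟨A, hA⟩ := exists_Sm (F := F) σ
    exact ⟨A, σ, hA, hσ 0, hσ 1⟩
  have f4 : ∀ i j, i ≠ j → f (i, j) = f (j, i) := fun i j hij => by
    obtain ⟨A, σ, h1, rfl, rfl⟩ := tr2 hij
    have := f3 _ _ (wA_Sm h.ab) a b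
    rw [f1, (hc _ _ (wA_Sm h.ab) (hw a b h.ab (.inl ⟨rfl, rfl⟩)) (by simp [(sc_comm a b).eq])).eq] at this
    simp only [mul_inv_cancel_right, swap_apply_left, swap_apply_right] at this
    rw [← f3 A σ h1, ← f3 A σ h1, f1, ← this]
  have f5 : ∀ i j k, i ≠ j → j ≠ k → i ≠ k → f (i, j) * f (j, k) = f (i, k) := fun i j k h1 h2 h3 => by
    obtain ⟨A, σ, h4, rfl, rfl, rfl⟩ := tr3 h1 h2 h3
    have := h.r3
    rw [← f1, f3 _ _ (wA_Sm h.ac), f3 _ _ (wA_Sm h.bc)] at this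
    simp only [swap_apply_left, swap_apply_of_ne_of_ne h.ab.symm h.bc, swap_apply_of_ne_of_ne h.ab h.ac] at this
    rw [← f3 A σ h4, ← f3 A σ h4, ← f3 A σ h4, ← this, f4 b c h.bc]; group
  refine ⟨fun i j => if i = j then 1 else f (i, j), ⟨h.cp, by simp, fun i j => ?_, fun i j k => ?_, fun i j => ?_,
    fun A σ h1 i j => ?_, fun i j k l t h1 h2 => ?_⟩, by simp [h.ab, f1]⟩
  · by_cases e : i = j
    · simp [e]
    · simp [e, Ne.symm e, f4 i j e]
  · by_cases e : i = j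
    · simp [e]
    by_cases e' : j = k
    · simp [e']
    by_cases e'' : i = k
    · subst e''
      obtain ⟨A, σ, -, rfl, rfl⟩ := tr2 e
      have h1 := σ.injective.ne h.ac
      have h2 := σ.injective.ne h.bc
      have := f5 _ _ _ h1.symm e h2.symm
      rw [← f5 _ _ _ h2.symm e' h1.symm, mul_assoc, mul_eq_left] at this
      simpa [e, e', f4 _ _ e] using this
    · simp [e, e', e'', f5 i j k e e' e'']
  · by_cases e : i = j
    · simp [e]
    obtain ⟨A, σ, h1, rfl, rfl⟩ := tr2 e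
    rw [if_neg e, ← f3 A σ h1, f1, ← h.cp.conj_pmv h1, ← h.hs]; simp
  · by_cases e : i = j
    · simp [e]
    · simp [e, f3 A σ h1]
  · by_cases e : i = j
    · simp [e]
    obtain ⟨A, σ, h3, rfl, rfl⟩ := tr2 e
    obtain ⟨k, rfl⟩ := σ.surjective k
    obtain ⟨l, rfl⟩ := σ.surjective l
    obtain ⟨d, h4, h5⟩ := Sm_tr h3 (σ.injective.ne_iff.mp h1)
    have := mul_mem (mul_mem (ψ.mem_range.mpr ⟨A, rfl⟩) (h.r1 k l (d * t) (σ.injective.ne_iff.mp h1)
      (by simpa [Nb] using h2))) (inv_mem (ψ.mem_range.mpr ⟨A, rfl⟩))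
    rw [if_neg e, ← f3 A σ h3, f1, ← one_mul t, ← h4, mul_assoc d, ← h5]
    simpa [mul_assoc] using this

/-- permutations preserving all hyperbolic planes -/
def Sgn (J : Type*) [Bar J] [DecidableEq J] : Subgroup (Perm (Option J)) where
  carrier := {w | ∀ y, w y = y ∨ w y = ob y}
  one_mem' _ := .inl rfl
  mul_mem' {a b} h h' y := by
    rcases h' y with e | e <;> simp only [Perm.mul_apply, e]
    exacts [h y, by simpa [or_comm] using h (ob y)]
  inv_mem' {a} h y := by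
    rcases h (a⁻¹ y) with e | e
    exacts [.inl (by simpa using e.symm), .inr (by rw [← ob_ob (a⁻¹ y), ← e]; simp)]

theorem sc_fix {i : I} {x : I ⊕ I} (h : ab x ≠ i) : sc i (some x) = some x := by
  rcases x with x | x <;> simp_all [sc_inl, sc_inr]

theorem X_le_top {D : UD (I ⊕ I) F} {ψ : SpecialLinearGroup I F →* D.E} (S : SC D D.E.subtype ψ) {K : Subgroup D.E}
    (h1 : ψ.range ≤ K) (h2 : ∀ p ∈ S.Θ, p.1 ∈ K) (h3 : ∀ i u b, D.L u b → D.Y i u b ∈ K.map D.E.subtype) : K = ⊤ :=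
  top_unique fun x _ => by
    obtain ⟨y, hy, e⟩ := D.E_le (K := K.map D.E.subtype) (fun i j a h =>
      map_mono (S.X_le h1 h2 i j) (S.X_map h ▸ D.X_mem i j a)) h3 x.2
    exact Subtype.ext e ▸ hy

variable (P : I → I → G) in
/-- double sign changes with their permutations -/
def PQ (i j : I) : G × Perm (Option (I ⊕ I)) := (P i j, sc i * sc j)

variable (P : I → I → G) in
/-- the group of even sign changes -/
def PΘ : Subgroup (G × Perm (Option (I ⊕ I))) := closure (Set.range fun p : I × I => PQ P p.1 p.2)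

theorem PQ_mem {P : I → I → G} (i j : I) : PQ P i j ∈ PΘ P := subset_closure ⟨(i, j), rfl⟩

theorem PQ_T {P : I → I → G} {c : I} {x : I ⊕ I} (h : ab x ≠ c) :
    (PQ P (x.elim (fun _ => c) id) c).2 (some (inl (ab x))) = some x := by
  rcases x with x | x <;> simp_all [PQ, sc_inl]

theorem PQ_T' {P : I → I → G} {c : I} {x y : I ⊕ I} (h : ab y ≠ c) (h' : ab y ≠ ab x) :
    (PQ P (x.elim (fun _ => c) id) c).2 (some y) = some y := by
  rcases x with x | x <;> simp_all [PQ, sc_fix]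

theorem PΘ_real {P : I → I → G} {c : I} {x y z : I ⊕ I} (h1 : D2 x y) (h2 : D2 y z) (h3 : D2 x z) (hx : ab x ≠ c)
    (hy : ab y ≠ c) (hz : ab z ≠ c) : ∃ p ∈ PΘ P, p.2 (some (inl (ab x))) = some x ∧
      p.2 (some (inl (ab y))) = some y ∧ p.2 (some (inl (ab z))) = some z := by
  rw [D2_iff] at h1 h2 h3
  refine ⟨_, mul_mem (mul_mem (PQ_mem (x.elim (fun _ => c) id) c) (PQ_mem (y.elim (fun _ => c) id) c))
    (PQ_mem (z.elim (fun _ => c) id) c), ?_, ?_, ?_⟩ <;> simp only [Prod.snd_mul, Perm.mul_apply]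
  · rw [PQ_T' (by simpa) (by simpa), PQ_T' (by simpa) (by simpa), PQ_T hx]
  · rw [PQ_T' (by simpa) (by simpa), PQ_T hy, PQ_T' hy h1.symm]
  · rw [PQ_T hz, PQ_T' hz h2.symm, PQ_T' hz h3.symm]

namespace PF

variable {P : I → I → G} (h : PF π ψ P)
include h

theorem Q_mul (i j k : I) : PQ P i j * PQ P j k = PQ P i k :=
  Prod.ext (h.mul ..) (by simp [PQ, mul_assoc, ← mul_assoc (sc j)])

theorem sq (i j : I) : P i j * P i j = 1 := by simpa [h.symm j i, h.self] using h.mul i j i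

theorem Q_symm (i j : I) : PQ P i j = PQ P j i := Prod.ext (h.symm ..) (sc_comm ..)

theorem comm_tr {a b i j : I} (hij : i ≠ j) (h1 : i ≠ a) (h2 : i ≠ b) (h3 : j ≠ a) (h4 : j ≠ b) (t : F) :
    Commute (P a b) (ψ (tr i j t)) :=
  mul_inv_eq_iff_eq_mul.mp (h.cp.of_range (h.r1 a b i j t hij (.inr (.inr ⟨h1, h2, h3, h4⟩))) (by
    rw [map_mul, map_mul, map_inv, h.hπ, h.cp _ _ _ hij]
    exact pmv_X ((sc_cm a).mul (sc_cm b)) (D2_inl hij) (by simp [sc_inl, *]) (by simp [sc_inl, *]) t))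

/-- the sign change data -/
def toSC (h4 : ∀ a b c : I, ∃ d, a ≠ d ∧ b ≠ d ∧ c ≠ d) {o1 o2 : I} (o12 : o1 ≠ o2) : SC (oD I F) π ψ where
  cp := h.cp
  o1 := o1
  o2 := o2
  o12 := o12
  Θ := PΘ P
  mon p hp := by
    induction hp using closure_induction with
    | mem x hx => obtain ⟨⟨i, j⟩, rfl⟩ := hx; exact h.hπ i j ▸ pmv_mon ((sc_cm i).mul (sc_cm j))
    | one => rw [Prod.fst_one, map_one]; exact one_mem _
    | mul x y _ _ hx hy => simpa using mul_mem hx hy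
    | inv x _ hx => simpa using inv_mem hx
  sgn p hp a := (closure_le ((Sgn _).comap (MonoidHom.snd _ _))).mpr
    (by rintro _ ⟨⟨i, j⟩, rfl⟩; exact mul_mem (s := Sgn _) (sc_or i) (sc_or j)) hp _
  stab p hp a b hab e1 e2 t := by
    obtain ⟨c, h1, h2, -⟩ := h4 a b a
    have := comm_stab (W := fun i => PQ P i c) (K := centralizer {ψ (tr a b t)}) (fun i j => by
        rw [Commute, SemiconjBy, h.Q_symm j, h.Q_mul, h.Q_symm c, h.Q_symm i c, h.Q_mul, h.Q_symm])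
      (fun i e e' => mem_centralizer_singleton_iff.mpr (h.comm_tr hab e.symm h1 e'.symm h2 t))
      (by simp [PQ, h.sq]) (by simp [PQ, h.sq])
      (fun i => by simp [PQ, (sc_comm i c).eq, mul_assoc, ← mul_assoc (sc i)])
      (fun i => by simp [PQ, sc_inl, h1, eq_comm (a := i)]) (fun i => by simp [PQ, sc_inl, h2, eq_comm (a := i)])
      ((closure_le _).mpr (by
        rintro _ ⟨⟨i, j⟩, rfl⟩
        show PQ P i j ∈ _
        rw [← h.Q_mul i c j, h.Q_symm c j]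
        exact mul_mem (subset_closure ⟨i, rfl⟩) (subset_closure ⟨j, rfl⟩)) hp) e1 e2
    rw [mem_centralizer_singleton_iff.mp this]; simp
  flip a b hab := ⟨_, PQ_mem a b, by simp [PQ, sc_inl, hab], by simp [PQ, sc_inl, sc_inr, hab.symm],
    fun t => h.r1 a b a b t hab (.inl ⟨rfl, rfl⟩)⟩
  real2 x y hd := by
    obtain ⟨c, h1, h2, -⟩ := h4 (ab x) (ab y) (ab x)
    obtain ⟨d, h3, h5, h6⟩ := h4 (ab x) (ab y) c
    obtain ⟨p, hp, e1, e2, -⟩ := PΘ_real (P := P) (z := inl c) hd (D2_iff.mpr h2) (D2_iff.mpr h1) h3 h5 h6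
    exact ⟨p, hp, e1, e2⟩
  real3 x y z h1 h2 h3 := by
    obtain ⟨c, h5, h6, h7⟩ := h4 (ab x) (ab y) (ab z)
    exact PΘ_real h1 h2 h3 h5 h6 h7
  norm A σ hA p hp := (closure_le ((PΘ P).comap (MulAut.conj (ψ A, dp σ)).toMonoidHom)).mpr (by
    rintro _ ⟨⟨i, j⟩, rfl⟩
    show (ψ A, dp σ) * PQ P i j * (ψ A, dp σ)⁻¹ ∈ PΘ P
    rw [show (ψ A, dp σ) * PQ P i j * (ψ A, dp σ)⁻¹ = PQ P (σ i) (σ j) from
      Prod.ext (h.conj A σ hA i j) (by simp [PQ, ← dp_sc, mul_assoc])]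
    exact PQ_mem _ _) hp

theorem cq [Finite F] {a b c d e g : I} (cd : c ≠ d) (ce : c ≠ e) (cg : c ≠ g) (de : d ≠ e) (dg' : d ≠ g) (eg : e ≠ g)
    (hab : a = c ∧ b = d ∨ a = e ∧ b = g) (H : Commute (ψ (tr a b 1)) (P d e * ψ (tr c d 1) * (P d e)⁻¹)) (s t : F) :
    Commute (ψ (tr a b s)) (P d e * ψ (tr c d t) * (P d e)⁻¹) := by
  have ab : a ≠ b := by rcases hab with ⟨rfl, rfl⟩ | ⟨rfl, rfl⟩ <;> assumption
  refine comm_sq (x := fun s => ψ (tr a b s)) (y := fun t => P d e * ψ (tr c d t) * (P d e)⁻¹)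
    (fun s t => by rw [← map_mul]; exact congrArg ψ ((slSt I F).add ab s t))
    (by rw [show tr c d (0 : F) = 1 from (slSt I F).x_zero cd]; simp) (fun t r ht hr => ?_) s t
  have h1 : P d e * ψ (dg t d e) * (P d e)⁻¹ = ψ (dg t e d) := h.cp.of_range (x := P d e * _ * _)
    (dg_mem (K := (ψ.range.comap (MulAut.conj (P d e)).toMonoidHom).comap ψ) de
      (fun t => h.r1 _ _ _ _ t de (.inl ⟨rfl, rfl⟩)) (fun t => h.r1 _ _ _ _ t de.symm (.inr (.inl ⟨rfl, rfl⟩))) ht) (by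
    rw [map_mul, map_mul, map_inv, h.hπ, mul_inv_eq_iff_eq_mul]
    refine basis_ext fun y => ?_
    simp only [LinearEquiv.mul_apply, h.cp.dg_apply de ht, h.cp.dg_apply de.symm ht, map_smul, pmv_ee]
    congr 1
    rcases y with _ | y | y
    · simp
    all_goals by_cases e1 : y = d <;> by_cases e2 : y = e <;> simp_all [sc_inl, sc_inr, oD])
  have h2 : Commute (P d e) (ψ (dg r c g)) := mem_centralizer_singleton_iff.mp
    (dg_mem (K := (centralizer {P d e}).comap ψ) cg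
      (fun t => mem_centralizer_singleton_iff.mpr (h.comm_tr cg cd ce dg'.symm eg.symm t).symm)
      (fun t => mem_centralizer_singleton_iff.mpr (h.comm_tr cg.symm dg'.symm eg.symm cd ce t).symm) hr) |>.symm
  have h3 : dg t e d * (dg r c g * tr a b 1 * (dg r c g)⁻¹) * (dg t e d)⁻¹ = tr a b (t * r) := by
    rw [dg_tr hr cg ab, dg_tr ht de.symm ab]
    rcases hab with ⟨rfl, rfl⟩ | ⟨rfl, rfl⟩ <;> simp [dv, *, Ne.symm]
  have h4 : dg t d e * (dg r c g * tr c d 1 * (dg r c g)⁻¹) * (dg t d e)⁻¹ = tr c d (r / t) := by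
    rw [dg_tr hr cg cd, dg_tr ht de cd]; simp [dv, *, Ne.symm, div_eq_inv_mul]
  have := H.map (MulAut.conj (ψ (dg t e d) * ψ (dg r c g)))
  convert this using 1
  · simp [← h3, mul_assoc]
  · rw [← h1, ← mul_inv_eq_iff_eq_mul.mpr h2.eq, ← h4]; simp [mul_assoc]

end PF

end Cfsg.Agent.Pres
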