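import Mathlib
import Cfsg.Agent.Pres.Mod
import Cfsg.Agent.Pres.StA2

/-! Steinberg relations of type `A` from few relations: the core computation. -/

set_option autoImplicit false
set_option linter.unusedSectionVars false

namespace Cfsg.Agent.Pres

open Polynomial

variable {G : Type*} [Group G]

/-- conjugation by `a` shifts the sequence -/
def Shift (a : G) (V : ℕ → G) : Prop := ∀ n, a * V n * a⁻¹ = V (n + 1)

theorem Shift.pow {a : G} {V : ℕ → G} (h : Shift a V) (m n : ℕ) : a ^ m * V n * (a ^ m)⁻¹ = V (n + m) := by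
  induction m with
  | zero => simp
  | succ m ih => rw [← add_assoc, ← h, ← ih, pow_succ']; group

theorem Shift.mul {a b : G} {V : ℕ → G} (h : Shift a V) (hb : ∀ n, Commute b (V n)) : Shift (a * b) V := fun n => by
  rw [← h, mul_assoc a, (hb n).eq]; group

theorem Shift.mul' {a b : G} {V : ℕ → G} (h : Shift a V) (hb : ∀ n, Commute b (V n)) : Shift (b * a) V := fun n => by
  rw [show b * a * V n * (b * a)⁻¹ = b * (a * V n * a⁻¹) * b⁻¹ by group, h, (hb _).eq, mul_inv_cancel_right]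

theorem shift_cu (h u : G) : Shift h (cu h u) := fun n => (cu_succ h u n).symm

theorem Shift.cu {a : G} {V : ℕ → G} (h : Shift a V) (n : ℕ) : cu a (V 0) n = V n := by
  rw [Pres.cu, h.pow, zero_add]

theorem Shift.conj {a b : G} {V : ℕ → G} (h : Shift a V) (hb : ∀ n, Commute b (V n)) (n m : ℕ) :
    a ^ n * b ^ m * V 0 * (a ^ n * b ^ m)⁻¹ = V n := by
  rw [mul_assoc (a ^ n), ((hb 0).pow_left m).eq, ← zero_add n, ← h.pow, zero_add]; group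

theorem Shift.conj' {a b : G} {V : ℕ → G} (h : Shift b V) (ha : ∀ n, Commute a (V n)) (n m : ℕ) :
    a ^ n * b ^ m * V 0 * (a ^ n * b ^ m)⁻¹ = V m := by
  rw [show a ^ n * b ^ m * V 0 * (a ^ n * b ^ m)⁻¹ = a ^ n * (b ^ m * V 0 * (b ^ m)⁻¹) * (a ^ n)⁻¹ by group, h.pow,
    ((ha _).pow_left n).eq, zero_add, mul_inv_cancel_right]

theorem Shift.conj'' {a b : G} {V : ℕ → G} (h : Shift a V) (h' : Shift b V) (n m : ℕ) :
    a ^ n * b ^ m * V 0 * (a ^ n * b ^ m)⁻¹ = V (n + m) := by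
  rw [show a ^ n * b ^ m * V 0 * (a ^ n * b ^ m)⁻¹ = a ^ n * (b ^ m * V 0 * (b ^ m)⁻¹) * (a ^ n)⁻¹ by group, h'.pow,
    h.pow, zero_add, add_comm]

theorem commute_cu {g h u : G} (h1 : Commute g h) (h2 : Commute g u) (n : ℕ) : Commute g (cu h u n) :=
  ((h1.pow_right n).mul_right h2).mul_right (h1.pow_right n).inv_right

theorem commute_comm {g a b : G} (h1 : Commute g a) (h2 : Commute g b) : Commute g (a * b * a⁻¹ * b⁻¹) :=
  ((h1.mul_right h2).mul_right h1.inv_right).mul_right h2.inv_right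

theorem sl_core {ι F : Type*} [Field F] {p : ℕ} [Fact p.Prime] [Algebra (ZMod p) F] {U H : ι → ι → G}
    (h4 : ∀ i j k : ι, ∃ l, i ≠ l ∧ j ≠ l ∧ k ≠ l) {ζ : F} (h0 : ζ ≠ 0) (hζ : ∀ t, t ≠ 0 → ∃ k : ℕ, ζ ^ k = t)
    (hθ : ∀ t, ∃ f : (ZMod p)[X], aeval (ζ ^ 2) f = t)
    (T3 : ∀ {i j k}, i ≠ j → j ≠ k → i ≠ k → H i j * H j k = H i k)
    (T1 : ∀ {i j k}, i ≠ j → j ≠ k → i ≠ k → Commute (H i j) (H i k))
    (A1 : ∀ {i j k l}, i ≠ j → i ≠ k → i ≠ l → j ≠ k → j ≠ l → k ≠ l → Commute (H k l) (U i j))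
    (A2 : ∀ {i j}, i ≠ j → ∃ k, i ≠ k ∧ j ≠ k ∧ Commute (H i k * H j k) (U i j) ∧
      PW (H i k) (U i j) (minpoly (ZMod p) ζ) = 1)
    (U3 : ∀ {i j}, i ≠ j → U i j ^ p = 1)
    (S1 : ∀ {i j k}, i ≠ j → j ≠ k → i ≠ k → U i j * U j k * (U i j)⁻¹ * (U j k)⁻¹ = U i k)
    (S2 : ∀ {i j k}, i ≠ j → j ≠ k → i ≠ k → Commute (U i j) (U i k))
    (S3 : ∀ {i j k}, i ≠ j → j ≠ k → i ≠ k → Commute (U i j) (U k j))
    (S4 : ∀ {i j k l}, i ≠ j → i ≠ k → i ≠ l → j ≠ k → j ≠ l → k ≠ l → Commute (U i j) (U k l)) :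
    ∃ S : StA ι F G, (∀ i j, i ≠ j → S.x i j 1 = U i j) ∧ ∀ i j k, i ≠ j → j ≠ k → i ≠ k → ∀ t,
      H i k * S.x i j t * (H i k)⁻¹ = S.x i j (ζ * t) ∧ H k j * S.x i j t * (H k j)⁻¹ = S.x i j (ζ * t) := by
  have Hi : ∀ {i j}, i ≠ j → H j i = (H i j)⁻¹ := fun {i j} h => by
    obtain ⟨k, h1, h2, -⟩ := h4 i j j
    have := T3 h h2 h1
    rw [← T3 h.symm h1 h2, ← mul_assoc, mul_eq_right] at this
    exact eq_inv_of_mul_eq_one_right this
  have c1 : ∀ {i j k}, i ≠ j → i ≠ k → Commute (H i j) (H i k) := fun {i j k} h1 h2 => by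
    by_cases e : j = k
    · rw [e]
    · exact T1 h1 e h2
  have Hc : ∀ {i j k l}, i ≠ j → k ≠ l → Commute (H i j) (H k l) := fun {i j k l} h1 h2 => by
    by_cases e : i = k
    · subst e; exact c1 h1 h2
    by_cases e' : i = l
    · subst e'; rw [Hi e]; exact (c1 h1 e).inv_right
    rw [← T3 (Ne.symm e) e' h2, Hi e]
    exact (c1 h1 e).inv_right.mul_right (c1 h1 e')
  choose! κ k1 k2 k3 k4 using fun i j => @A2 i j
  let V : ι → ι → ℕ → G := fun i j => cu (H i (κ i j)) (U i j)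
  have V0 : ∀ i j, V i j 0 = U i j := fun i j => cu_zero _ _
  have tv : ∀ {i j k l}, i ≠ j → i ≠ k → i ≠ l → j ≠ k → j ≠ l → k ≠ l → ∀ n, Commute (H k l) (V i j n) :=
    fun h1 h2 h3 h4 h5 h6 => commute_cu (Hc h6 (k1 _ _ h1)) (A1 h1 h2 h3 h4 h5 h6)
  have s1 : ∀ {i j k}, i ≠ j → j ≠ k → i ≠ k → Shift (H i k) (V i j) := fun {i j k} h1 h2 h3 => by
    by_cases e : κ i j = k
    · rw [← e]; exact shift_cu _ _
    · rw [← T3 (k1 _ _ h1) e h3]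
      exact (shift_cu _ _).mul (tv h1 (k1 _ _ h1) h3 (k2 _ _ h1) h2 e)
  have s2 : ∀ {i j k}, i ≠ j → j ≠ k → i ≠ k → Shift (H k j) (V i j) := fun {i j k} h1 h2 h3 => by
    have e0 : Shift (H (κ i j) j) (V i j) := by
      rw [Hi (k2 _ _ h1), show (H j (κ i j))⁻¹ = (H i (κ i j) * H j (κ i j))⁻¹ * H i (κ i j) by group]
      exact (shift_cu _ _).mul' fun n => (commute_cu ((Commute.refl _).mul_left (Hc (k2 _ _ h1) (k1 _ _ h1)))
        (k3 _ _ h1) n).inv_left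
    by_cases e : k = κ i j
    · rw [e]; exact e0
    · rw [← T3 e (k2 _ _ h1).symm h2.symm]
      exact e0.mul' (tv h1 h3 (k1 _ _ h1) h2 (k2 _ _ h1) e)
  have v2 : ∀ {i j k}, i ≠ j → j ≠ k → i ≠ k → ∀ n m, Commute (V i j n) (V i k m) := fun {i j k} h1 h2 h3 n m => by
    obtain ⟨l, l1, l2, l3⟩ := h4 i j k
    rw [← (s2 h1 l2 l1).conj (tv h1 l1 h3 l2 h2 l3.symm) n m,
      ← (s2 h3 l3 l1).conj' (tv h3 l1 h1 l3 h2.symm l2.symm) n m, V0, V0]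
    exact commute_conj (S2 h1 h2 h3) _
  have v3 : ∀ {i j k}, i ≠ j → j ≠ k → i ≠ k → ∀ n m, Commute (V i j n) (V k j m) := fun {i j k} h1 h2 h3 n m => by
    obtain ⟨l, l1, l2, l3⟩ := h4 i j k
    rw [← (s1 h1 l2 l1).conj (tv h1 h3 l1 h2 l2 l3) n m,
      ← (s1 h2.symm l2 l3).conj' (tv h2.symm h3.symm l3 h1.symm l2 l1) n m, V0, V0]
    exact commute_conj (S3 h1 h2 h3) _
  have v1 : ∀ {i j k}, i ≠ j → j ≠ k → i ≠ k → ∀ n m,
      V i j n * V j k m * (V i j n)⁻¹ * (V j k m)⁻¹ = V i k (n + m) := fun {i j k} h1 h2 h3 n m => by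
    obtain ⟨l, l1, l2, l3⟩ := h4 i j k
    rw [← (s1 h1 l2 l1).conj (tv h1 l1 h3 l2 h2 l3.symm) n m,
      ← (s2 h2 l3 l2).conj' (tv h2 h1.symm l2 h3.symm l3 l1) n m, ← (s1 h3 l3 l1).conj'' (s2 h3 l3 l1) n m,
      V0, V0, V0, ← S1 h1 h2 h3]
    group
  have v0 : ∀ {i j}, i ≠ j → ∀ n m, Commute (V i j n) (V i j m) := fun {i j} h n m => by
    obtain ⟨k, h1, h2, -⟩ := h4 i j j
    rw [← add_zero m, ← v1 h1 h2.symm h]
    exact commute_comm (v2 h h2 h1 _ _) (v3 h h2 h1 _ _)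
  have hθ1 : ∀ t, ∃ f : (ZMod p)[X], aeval ζ f = t := fun t => by
    obtain ⟨f, rfl⟩ := hθ t
    exact ⟨f.comp (X ^ 2), by simp [aeval_comp]⟩
  choose! x xa xh xf using fun i j (h : i ≠ j) => exists_mod (v0 h) (U3 h) hθ1 (k4 i j h)
  have x1 : ∀ i j, i ≠ j → x i j 1 = U i j := fun i j h => by simpa [PW_one] using xf i j h 1
  have xv : ∀ {i j}, i ≠ j → ∀ n, x i j (ζ ^ n) = V i j n := fun {i j} h n => by
    rw [← mul_one (ζ ^ n), ← cu_eq (xh i j h), x1 i j h]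
  have x0 : ∀ {i j}, i ≠ j → x i j 0 = 1 := fun h => add_zero_eq (xa _ _ h)
  have xs : ∀ {i j a}, i ≠ j → Shift a (V i j) → ∀ t, a * x i j t * a⁻¹ = x i j (ζ * t) := fun h hs t => by
    by_cases ht : t = 0
    · simp [ht, x0 h]
    · obtain ⟨n, rfl⟩ := hζ t ht
      rw [xv h, hs, ← xv h, pow_succ']
  have xc : ∀ {i j k l}, i ≠ j → k ≠ l → (∀ n m, Commute (V i j n) (V k l m)) →
      ∀ t s, Commute (x i j t) (x k l s) := fun h1 h2 h t s => by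
    by_cases ht : t = 0
    · simp [ht, x0 h1]
    by_cases hs : s = 0
    · simp [hs, x0 h2]
    obtain ⟨n, rfl⟩ := hζ t ht
    obtain ⟨m, rfl⟩ := hζ s hs
    rw [xv h1, xv h2]; exact h n m
  refine ⟨⟨x, fun h => xa _ _ h, fun {i j k l} h1 h2 h3 h4 => ?_, fun {i j k} h1 h2 h3 t s => ?_⟩, x1,
    fun i j k h1 h2 h3 t => ⟨xs h1 (s1 h1 h2 h3) t, xs h1 (s2 h1 h2 h3) t⟩⟩
  · by_cases e : i = k
    · subst e
      by_cases e' : j = l
      · subst e'; exact xc h1 h1 (v0 h1)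
      · exact xc h1 h2 (v2 h1 e' h2)
    by_cases e' : j = l
    · subst e'; exact xc h1 h2 (v3 h1 h3 e)
    have a1 : ∀ t, H i j * x i j t * (H i j)⁻¹ = x i j (ζ ^ 2 * t) := fun t => by
      rw [← T3 e h3.symm h1, pow_two, mul_assoc ζ, ← xs h1 (s1 h1 h3 e), ← xs h1 (s2 h1 h3 e)]; group
    have a2 : ∀ t, Commute (U k l) (x i j t) := fun t => by
      obtain ⟨f, rfl⟩ := hθ t
      rw [← mul_one (aeval _ f), ← PW_eq (xa i j h1) a1, x1 i j h1]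
      exact PW_commute (commute_cu (A1 h2 (Ne.symm e) h3.symm h4.symm (Ne.symm e') h1).symm
        (S4 h1 e h4 h3 e' h2).symm) f
    intro t s
    by_cases hs : s = 0
    · simp [hs, x0 h2]
    obtain ⟨m, rfl⟩ := hζ s hs
    have a3 := cu_eq (xs h1 (s1 h1 e' h4)) ((ζ ^ m)⁻¹ * t) m
    rw [mul_inv_cancel_left₀ hs] at a3
    rw [xv h2, ← zero_add m, ← (s2 h2 h4.symm (Ne.symm e)).pow, V0, ← a3]
    exact commute_conj (a2 _).symm _
  · by_cases ht : t = 0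
    · simp [ht, x0 h1, x0 h3]
    by_cases hs : s = 0
    · simp [hs, x0 h2, x0 h3]
    obtain ⟨n, rfl⟩ := hζ t ht
    obtain ⟨m, rfl⟩ := hζ s hs
    rw [← pow_add, xv h1, xv h2, xv h3, v1 h1 h2 h3]

end Cfsg.Agent.Pres
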