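import Mathlib
import Cfsg.Agent.Pres.SLn1
import Cfsg.Agent.Pres.SLn2
import Cfsg.Agent.Pres.Ext
import Cfsg.Agent.Pres.SL2
import Cfsg.Agent.Pres.Alt5

/-! Short presentations of `SL_n(q)`, `n ≥ 4`. -/

set_option autoImplicit false
set_option linter.unusedSectionVars false

namespace Cfsg.Agent.Pres

open Matrix Equiv Polynomial Subgroup

variable {G : Type*} [Group G] {p : ℕ} [Fact p.Prime]

/-- relators between the root elements and the torus elements -/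
noncomputable def slRel {ι : Type*} (m : (ZMod p)[X]) (a b c d : ι) (e3 e4 : Bool) (U H : ι → ι → G) (z : G) :
    List (G × G) :=
  [(H a b * H b c, H a c), (H a b * H a c, H a c * H a b), (H c d * U a b, U a b * H c d),
   (H a c * H b c * U a b, U a b * (H a c * H b c)), (PW (H a c) (U a b) m, 1), (U a b ^ p, 1),
   (U a b * U b c * (U a b)⁻¹ * (U b c)⁻¹, U a c), (U a b * U a c, U a c * U a b), (U a b * U c b, U c b * U a b),
   (U a b * U c d, U c d * U a b),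
   (z, U a c * (U c a)⁻¹ * U a c * (U b a * (U a b)⁻¹ * U b a)),
   (H a b, H a c * (U a b * (U b a)⁻¹ * U a b) * (H a c)⁻¹ * (U a b * (U b a)⁻¹ * U a b)⁻¹)] ++
  (if e3 then [(H a c * H c b, H a b), (U a c * U c b * (U a c)⁻¹ * (U c b)⁻¹, U a b)] else []) ++
  (if e4 then [(U a b * U d c, U d c * U a b)] else [])

theorem map_slRel {ι K : Type*} [Group K] (φ : G →* K) (m : (ZMod p)[X]) (a b c d : ι) (e3 e4 : Bool)
    (U H : ι → ι → G) (z : G) : (slRel m a b c d e3 e4 U H z).map (Prod.map φ φ) =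
      slRel m a b c d e3 e4 (fun i j => φ (U i j)) (fun i j => φ (H i j)) (φ z) := by
  cases e3 <;> cases e4 <;> simp [slRel, map_PW]

/-- commutation relators -/
def comRel {A : Type*} (s : List A) (ψ : A → G) (u : G) : List (G × G) := s.map fun τ => (ψ τ * u, u * ψ τ)

theorem map_comRel {A K : Type*} [Group K] (φ : G →* K) (s : List A) (ψ : A → G) (u : G) :
    (comRel s ψ u).map (Prod.map φ φ) = comRel s (fun τ => φ (ψ τ)) (φ u) := by
  simp [comRel]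

theorem holds_comRel {A : Type*} [Group A] (s : List A) (ψ : A →* G) (u : G) :
    Holds (comRel s ψ u) ↔ ∀ τ ∈ closure {x | x ∈ s}, Commute (ψ τ) u := by
  rw [comRel, holds_map]
  refine ⟨fun h τ hτ => ?_, fun h τ hτ => h τ (subset_closure hτ)⟩
  have : closure {x | x ∈ s} ≤ (centralizer {u}).comap ψ := (closure_le _).mpr fun x hx =>
    mem_centralizer_singleton_iff.mpr (h x hx)
  exact mem_centralizer_singleton_iff.mp (this hτ)

theorem conj_family {A : Type*} [Group A] (ψ : A →* G) {u : G} {τ σ σ' : A} (h : Commute (ψ (σ'⁻¹ * τ * σ)) u) :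
    ψ τ * (ψ σ * u * (ψ σ)⁻¹) * (ψ τ)⁻¹ = ψ σ' * u * (ψ σ')⁻¹ := by
  have := h.eq
  simp only [map_mul, map_inv] at this
  calc _ = ψ σ' * ((ψ σ')⁻¹ * ψ τ * ψ σ * u) * (ψ σ)⁻¹ * (ψ τ)⁻¹ := by group
    _ = _ := by rw [this]; group

variable {ι : Type} [DecidableEq ι] [Fintype ι] {F : Type*} [Field F] [Fintype F]

theorem exists_fourth (h : 4 ≤ Fintype.card ι) (i j k : ι) : ∃ l, i ≠ l ∧ j ≠ l ∧ k ≠ l := by
  obtain ⟨l, -, hl⟩ := Finset.exists_mem_notMem_of_card_lt_card (s := {i, j, k}) (t := Finset.univ)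
    (Finset.card_le_three.trans_lt (by rw [Finset.card_univ]; omega))
  simp only [Finset.mem_insert, Finset.mem_singleton, not_or] at hl
  exact ⟨l, Ne.symm hl.1, Ne.symm hl.2.1, Ne.symm hl.2.2⟩

theorem conj_cyc' {a b i j : ι} (hab : a ≠ b) (hij : i ≠ j) (c : H2.Carm.Idx a b) (k : H2.Carm.Idx i j)
    {τ : alternatingGroup ι} (ha : τ.1 a = i) (hb : τ.1 b = j) (hc : τ.1 c = k) :
    τ * H2.Carm.cyc hab c * τ⁻¹ = H2.Carm.cyc hij k := by
  refine Subtype.ext ?_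
  change τ.1 * (swap a c * swap a b) * τ.1⁻¹ = swap i k * swap i j
  rw [← hc]
  subst ha hb
  rw [swap_apply_apply, swap_apply_apply]; group

theorem alt_normal_top {a b c : ι} (h1 : a ≠ b) (h2 : a ≠ c) (h3 : b ≠ c) {K : Subgroup (alternatingGroup ι)}
    [hK : K.Normal] (h : H2.Carm.cyc h1 ⟨c, h2, h3⟩ ∈ K) : K = ⊤ := by
  rw [eq_top_iff, ← H2.Carm.closure_cyc h1, closure_le]
  rintro _ ⟨⟨d, d1, d2⟩, rfl⟩
  refine alt_three (P := fun i j k => ∀ h1 h2 h3, H2.Carm.cyc (a := i) (b := j) h1 ⟨k, h2, h3⟩ ∈ K) h1 h3 h2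
    (fun τ i j k e1 e2 e3 h _ _ _ => ?_) (fun _ _ _ => h) (Or.inr (Or.inl fun _ _ _ => ?_)) h1 d2 d1 h1 d1 d2
  · rw [← conj_cyc' e1 _ ⟨k, e3, e2⟩ _ rfl rfl rfl]
    exact hK.conj_mem _ (h e1 e3 e2) _
  · convert inv_mem h
    exact Subtype.ext (by simp [H2.Carm.coe_cyc])

/-- conjugates of an element indexed by pairs -/
def cj {A K : Type*} [Group K] (σ : ι → ι → A) (ψ : A → K) (u : K) (i j : ι) : K := ψ (σ i j) * u * (ψ (σ i j))⁻¹

theorem sl_of_rel (h4 : 4 ≤ Fintype.card ι) [Algebra (ZMod p) F] {ζ : F} (z0 : ζ ≠ 0)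
    (z1 : orderOf ζ + 1 = Fintype.card F) (z2 : ∀ t, t ≠ 0 → ∃ k : ℕ, ζ ^ k = t)
    {a b c d : ι} (h1 : a ≠ b) (h2 : a ≠ c) (h3 : a ≠ d) (h4' : b ≠ c) (h5 : b ≠ d) (h6 : c ≠ d)
    {e3 e4 : Bool} (he3 : e3 = false → 5 ≤ Fintype.card ι) (he4 : e4 = false → 6 ≤ Fintype.card ι)
    (ψ : alternatingGroup ι →* G) {U H : ι → ι → G}
    (hU : ∀ τ i j, i ≠ j → ψ τ * U i j * (ψ τ)⁻¹ = U (τ.1 i) (τ.1 j))
    (hH : ∀ τ i j, i ≠ j → ψ τ * H i j * (ψ τ)⁻¹ = H (τ.1 i) (τ.1 j))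
    (hr : Holds (slRel (minpoly (ZMod p) ζ) a b c d e3 e4 U H (ψ (H2.Carm.cyc h1 ⟨c, h2, h4'⟩)))) :
    ∃ S : StA ι F G, ψ.range ≤ S.grp ∧ U a b ∈ S.grp ∧ H a b ∈ S.grp ∧ ∀ i j k, i ≠ j → j ≠ k → i ≠ k →
      ∀ n, S.x i j (ζ ^ n) = cu (H i k) (U i j) n := by
  simp only [slRel, holds_append, holds_cons, holds_nil, and_true] at hr
  obtain ⟨⟨⟨T3, T1, A1, A2, U4, U3, S1, S2, S3, S4, K1, K2⟩, E3⟩, E4⟩ := hr
  have cm : ∀ (τ : alternatingGroup ι) {x y : G}, Commute x y → Commute (ψ τ * x * (ψ τ)⁻¹) (ψ τ * y * (ψ τ)⁻¹) :=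
    fun τ _ _ h => commute_conj h _
  have t3 : ∀ {i j k}, i ≠ j → j ≠ k → i ≠ k → H i j * H j k = H i k :=
    alt_three (P := fun i j k => H i j * H j k = H i k) h1 h4' h2 (fun τ i j k e1 e2 e3 h => by
      rw [← hH _ _ _ e1, ← hH _ _ _ e2, ← hH _ _ _ e3, ← h]; group) T3 (by
        cases e3
        · exact Or.inl (he3 rfl)
        · exact Or.inr (Or.inl (E3 _ (List.mem_cons_self))))
  have hi : ∀ {i j}, i ≠ j → H j i = (H i j)⁻¹ := fun {i j} h => by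
    obtain ⟨k, h1, h2, -⟩ := exists_fourth h4 i j j
    have := t3 h h2 h1
    rw [← t3 h.symm h1 h2, ← mul_assoc, mul_eq_right] at this
    exact eq_inv_of_mul_eq_one_right this
  obtain ⟨S, x1, xh⟩ := sl_core (U := U) (H := H) (exists_fourth h4) z0 z2 (sq_gen (p := p) z0 z1) t3
    (alt_three (P := fun i j k => Commute (H i j) (H i k)) h1 h4' h2 (fun τ i j k e1 e2 e3 h => by
      rw [← hH _ _ _ e1, ← hH _ _ _ e3]; exact cm τ h) T1 (Or.inr (Or.inl (Eq.symm T1))))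
    (alt_four (P := fun i j k l => Commute (H k l) (U i j)) h1 h2 h3 h4' h5 h6
      (fun τ i j k l e1 _ _ _ _ e6 h => by rw [← hH _ _ _ e6, ← hU _ _ _ e1]; exact cm τ h) A1
      (Or.inr (by rw [hi h6]; exact Commute.inv_left A1)))
    (fun {i j} h => by
      obtain ⟨τ, rfl, rfl⟩ := alt_two h4 h1 h
      refine ⟨τ.1 c, τ.1.injective.ne h2, τ.1.injective.ne h4', ?_, ?_⟩
      · have := cm τ A2
        rwa [← conj_mul, hH _ _ _ h2, hH _ _ _ h4', hU _ _ _ h1] at this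
      · rw [← hH _ _ _ h2, ← hU _ _ _ h1, ← PW_conj, U4]; simp)
    (fun {i j} h => by
      obtain ⟨τ, rfl, rfl⟩ := alt_two h4 h1 h
      rw [← hU _ _ _ h1, conj_pow, U3]; simp)
    (alt_three (P := fun i j k => U i j * U j k * (U i j)⁻¹ * (U j k)⁻¹ = U i k) h1 h4' h2
      (fun τ i j k e1 e2 e3 h => by
        rw [← hU _ _ _ e1, ← hU _ _ _ e2, ← hU _ _ _ e3, ← h]; group) S1 (by
        cases e3
        · exact Or.inl (he3 rfl)
        · exact Or.inr (Or.inl (E3 _ (List.mem_cons_of_mem _ List.mem_cons_self)))))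
    (alt_three (P := fun i j k => Commute (U i j) (U i k)) h1 h4' h2 (fun τ i j k e1 e2 e3 h => by
      rw [← hU _ _ _ e1, ← hU _ _ _ e3]; exact cm τ h) S2 (Or.inr (Or.inl (Eq.symm S2))))
    (alt_three (P := fun i j k => Commute (U i j) (U k j)) h1 h4' h2 (fun τ i j k e1 e2 e3 h => by
      rw [← hU _ _ _ e1, ← hU _ _ _ e2.symm]; exact cm τ h) S3 (Or.inr (Or.inr (Eq.symm S3))))
    (alt_four (P := fun i j k l => Commute (U i j) (U k l)) h1 h2 h3 h4' h5 h6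
      (fun τ i j k l e1 _ _ _ _ e6 h => by rw [← hU _ _ _ e6, ← hU _ _ _ e1]; exact cm τ h) S4 (by
        cases e4
        · exact Or.inl (he4 rfl)
        · exact Or.inr (E4 _ List.mem_cons_self)))
  have xm : ∀ {i j}, i ≠ j → ∀ t, S.x i j t ∈ S.grp := fun h t => S.x_mem h trivial t
  refine ⟨S, ?_, x1 a b h1 ▸ xm h1 1, ?_, fun i j k e1 e2 e3 n => ?_⟩
  · let N := closure {g | ∃ i j, i ≠ j ∧ g = U i j}
    have um : ∀ {i j}, i ≠ j → U i j ∈ N := fun h => subset_closure ⟨_, _, h, rfl⟩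
    have : (N.comap ψ).Normal := ⟨fun x hx τ => by
      rw [mem_comap, map_mul, map_mul, map_inv]
      refine (closure_le (N.comap (MulAut.conj (ψ τ)).toMonoidHom)).mpr ?_ hx
      rintro _ ⟨i, j, h, rfl⟩
      change ψ τ * U i j * (ψ τ)⁻¹ ∈ N
      exact (hU τ i j h).symm ▸ um (τ.1.injective.ne h)⟩
    have e := alt_normal_top h1 h2 h4' (K := N.comap ψ) (by
      rw [mem_comap, K1]
      exact mul_mem (mul_mem (mul_mem (um h2) (inv_mem (um h2.symm))) (um h2))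
        (mul_mem (mul_mem (um h1.symm) (inv_mem (um h1))) (um h1.symm)))
    rintro _ ⟨τ, rfl⟩
    refine (closure_le _).mpr ?_ (e.ge trivial : τ ∈ N.comap ψ)
    rintro _ ⟨i, j, h, rfl⟩
    exact x1 i j h ▸ xm h 1
  · have e1 := (xh a b c h1 h4' h2 1).1
    have e2 := (xh b a c h1.symm h2 h4' ζ⁻¹).2
    rw [mul_inv_cancel₀ z0, hi h2, inv_inv] at e2
    rw [K2, ← x1 a b h1, ← x1 b a h1.symm]
    refine mul_mem ?_ (inv_mem (mul_mem (mul_mem (xm h1 _) (inv_mem (xm h1.symm _))) (xm h1 _)))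
    convert mul_mem (mul_mem (xm h1 (ζ * 1)) (inv_mem (xm h1.symm ζ⁻¹))) (xm h1 (ζ * 1)) using 1
    rw [← e1, ← e2]; group
  · rw [← x1 i j e1, cu_eq (fun t => (xh i j k e1 e2 e3 t).1), mul_one]

theorem sl_rel [Algebra (ZMod p) F] {ζ : F} (z0 : ζ ≠ 0)
    {a b c d : ι} (h1 : a ≠ b) (h2 : a ≠ c) (h3 : a ≠ d) (h4 : b ≠ c) (h5 : b ≠ d) (h6 : c ≠ d) (e3 e4 : Bool)
    {U H : ι → ι → SpecialLinearGroup ι F} (hU : ∀ {i j}, i ≠ j → U i j = tr i j 1)
    (hH : ∀ {i j}, i ≠ j → H i j = dg ζ i j) :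
    Holds (slRel (minpoly (ZMod p) ζ) a b c d e3 e4 U H (pm (H2.Carm.cyc h1 ⟨c, h2, h4⟩))) := by
  have : CharP F p := charP_of_injective_algebraMap (algebraMap (ZMod p) F).injective p
  have ad := (slSt ι F).add h1
  have rl : ∀ {i j k : ι}, i ≠ j → j ≠ k → i ≠ k →
      tr i j (1 : F) * tr j k 1 * (tr i j 1)⁻¹ * (tr j k 1)⁻¹ = tr i k 1 := fun e1 e2 e3 =>
    ((slSt ι F).rel e1 e2 e3 1 1).trans (by rw [mul_one]; rfl)
  have cm := @StA.comm _ _ _ _ _ (slSt ι F)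
  have ng : ∀ {i j : ι}, i ≠ j → (tr i j (1 : F))⁻¹ = tr i j (-1⁻¹) := fun h => by
    rw [inv_one]; exact ((slSt ι F).x_neg h 1).symm
  have d1 : ∀ t, dg ζ a c * tr a b t * (dg ζ a c)⁻¹ = tr a b (ζ * t) := fun t => by
    rw [dg_tr z0 h2 h1]; simp [dv, h1.symm, h4]
  simp only [slRel, holds_append, holds_cons, holds_nil, and_true, hU h1, hU h1.symm, hU h2, hU h2.symm, hU h4,
    hU h4.symm, hU h6, hU h6.symm, hH h1, hH h2, hH h4, hH h4.symm, hH h6]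
  refine ⟨⟨⟨dg_mul z0 h1 h4 h2, dg_comm z0 z0 h1 h2, ?_, ?_, ?_, ?_, rl h1 h4 h2,
    cm h1 h2 h1.symm h2 1 1, cm h1 h4.symm h4 h1 1 1, cm h1 h6 h4 h3 1 1, ?_, ?_⟩, ?_⟩, ?_⟩
  · rw [← mul_inv_eq_iff_eq_mul, dg_tr z0 h6 h1]; simp [dv, h2, h3, h4, h5]
  · rw [← mul_inv_eq_iff_eq_mul, _root_.mul_inv_rev, ← mul_assoc, mul_assoc (dg ζ a c), mul_assoc (dg ζ a c),
      dg_tr z0 h4 h1, d1]
    simp [dv, h1, h2, z0]
  · rw [PW_eq (x := tr a b) ad d1, minpoly.aeval, zero_mul]; exact (slSt ι F).x_zero h1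
  · rw [← add_nsmul_eq (x := tr a b) ad, nsmul_one, CharP.cast_eq_zero]; exact (slSt ι F).x_zero h1
  · rw [pm_cyc, ng h2.symm, ng h1]; rfl
  · rw [ng h1.symm, dg_eq_w z0 h1, (slSt ι F).w_neg h1]
    congr 1
    have e := dg_tr z0 h2 h1.symm (-1⁻¹)
    rw [show dv ζ a c b * (dv ζ a c a)⁻¹ * -1⁻¹ = -ζ⁻¹ by simp [dv, h1.symm, h4]] at e
    change tr a b ζ * tr b a (-ζ⁻¹) * tr a b ζ = _
    rw [← e, ← mul_one ζ, ← d1, mul_one]; group
  · cases e3
    · exact holds_nil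
    · simpa using ⟨dg_mul z0 h2 h4.symm h1, rl h2 h4.symm h1⟩
  · cases e4
    · exact holds_nil
    · exact (holds_cons _ _ _).mpr ⟨cm h1 h6.symm h5 h2 1 1, holds_nil⟩

theorem sl_pres {κ : Type} {fA : κ → alternatingGroup ι} {m : ℕ} (hA : PresOn fA m) (h4 : 4 ≤ Fintype.card ι)
    {a b c d : ι} (h1 : a ≠ b) (h2 : a ≠ c) (h3 : a ≠ d) (h4' : b ≠ c) (h5 : b ≠ d) (h6 : c ≠ d)
    (s : List (alternatingGroup ι)) (hs : ∀ τ, τ ∈ closure {x | x ∈ s} ↔ τ.1 a = a ∧ τ.1 b = b)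
    (e3 e4 : Bool) (he3 : e3 = false → 5 ≤ Fintype.card ι) (he4 : e4 = false → 6 ≤ Fintype.card ι) :
    ∃ f : κ ⊕ Fin 2 → SpecialLinearGroup ι F,
      PresOn f (m + (12 + (if e3 then 2 else 0) + (if e4 then 1 else 0) + 2 * s.length)) := by
  obtain ⟨p, hp⟩ := CharP.exists F
  have : Fact p.Prime := ⟨CharP.char_is_prime F p⟩
  let _ := ZMod.algebra F p
  obtain ⟨ζ, z0, z1, z2⟩ := exists_prim F
  choose! σ σa σb using fun i j (h : i ≠ j) => alt_two h4 h1 h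
  have eU : ∀ {i j}, i ≠ j → cj σ pm (tr a b (1 : F)) i j = tr i j 1 := fun h => by
    rw [cj, pm_tr _ h1, σa _ _ h, σb _ _ h]
  have eH : ∀ {i j}, i ≠ j → cj σ pm (dg ζ a b) i j = dg ζ i j := fun h => by
    rw [cj, pm_dg _ z0 h1, σa _ _ h, σb _ _ h]
  have eq : ∀ {K : Type} [Group K] (ψ : alternatingGroup ι →* K) (u : K),
      (∀ τ ∈ closure {x | x ∈ s}, Commute (ψ τ) u) → cj σ ψ u a b = u ∧
      ∀ τ i j, i ≠ j → ψ τ * cj σ ψ u i j * (ψ τ)⁻¹ = cj σ ψ u (τ.1 i) (τ.1 j) := fun ψ u h => by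
    refine ⟨by rw [cj, (h _ ((hs _).mpr ⟨σa _ _ h1, σb _ _ h1⟩)).eq, mul_inv_cancel_right], fun τ i j e => ?_⟩
    have e' := τ.1.injective.ne e
    refine conj_family ψ (h _ ((hs _).mpr ⟨?_, ?_⟩))
    · simp [σa _ _ e, Equiv.symm_apply_eq, σa _ _ e']
    · simp [σb _ _ e, Equiv.symm_apply_eq, σb _ _ e']
  let w := FreeGroup.of (α := alternatingGroup ι ⊕ Fin 2) ∘ Sum.inl
  let u := FreeGroup.of (α := alternatingGroup ι ⊕ Fin 2) (Sum.inr 0)
  let h := FreeGroup.of (α := alternatingGroup ι ⊕ Fin 2) (Sum.inr 1)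
  have := hA.extend pm ![tr a b (1 : F), dg ζ a b] ?_
    (slRel (minpoly (ZMod p) ζ) a b c d e3 e4 (cj σ w u) (cj σ w h) (w (H2.Carm.cyc h1 ⟨c, h2, h4'⟩)) ++
      (comRel s w u ++ comRel s w h)) ?_ ?_
  · refine ⟨_, this.mono (le_of_eq ?_)⟩
    cases e3 <;> cases e4 <;> simp [slRel, comRel] <;> omega
  · refine slSt_top fun i j t e => ?_
    by_cases ht : t = 0
    · rw [ht, show tr i j (0 : F) = 1 from (slSt ι F).x_zero e]; exact one_mem _
    obtain ⟨n, rfl⟩ := z2 t ht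
    obtain ⟨k, k1, k2, -⟩ := exists_fourth h4 i j j
    have d1 : ∀ t, dg ζ i k * tr i j t * (dg ζ i k)⁻¹ = tr i j (ζ * t) := fun t => by
      rw [dg_tr z0 k1 e]; simp [dv, e.symm, k2]
    have hm : ∀ (l : Fin 2) i j, cj σ pm (![tr a b (1 : F), dg ζ a b] l) i j ∈
        pm.range ⊔ closure (Set.range ![tr a b (1 : F), dg ζ a b]) := fun l i j =>
      mul_mem (mul_mem (mem_sup_left ⟨_, rfl⟩) (mem_sup_right (subset_closure ⟨l, rfl⟩)))
        (inv_mem (mem_sup_left ⟨_, rfl⟩))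
    rw [← mul_one (ζ ^ n), ← cu_eq d1, ← eU e, ← eH k1]
    exact cu_mem (hm 1 _ _) (hm 0 _ _) n
  · simp only [List.map_append, map_slRel, map_comRel, holds_append, cj, w, u, h, map_mul, map_inv,
      Function.comp, FreeGroup.lift_apply_of, Sum.elim_inl, Sum.elim_inr]
    refine ⟨sl_rel z0 h1 h2 h3 h4' h5 h6 e3 e4 eU eH, (holds_comRel s pm _).mpr fun τ hτ => ?_,
      (holds_comRel s pm _).mpr fun τ hτ => ?_⟩
    · have := pm_tr τ h1 (1 : F)
      rwa [((hs τ).mp hτ).1, ((hs τ).mp hτ).2, mul_inv_eq_iff_eq_mul] at this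
    · have := pm_dg τ z0 h1
      rwa [((hs τ).mp hτ).1, ((hs τ).mp hτ).2, mul_inv_eq_iff_eq_mul] at this
  · intro G _ ψ g hg hr π p1 p2
    simp only [List.map_append, map_slRel, map_comRel, holds_append, cj, w, u, h, map_mul, map_inv,
      Function.comp, FreeGroup.lift_apply_of, Sum.elim_inl, Sum.elim_inr] at hr
    obtain ⟨u0, u1⟩ := eq ψ _ ((holds_comRel s ψ _).mp hr.2.1)
    obtain ⟨v0, v1⟩ := eq ψ _ ((holds_comRel s ψ _).mp hr.2.2)
    obtain ⟨S, s1, s2, s3, s4⟩ := sl_of_rel h4 z0 z1 z2 h1 h2 h3 h4' h5 h6 he3 he4 ψ u1 v1 hr.1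
    rw [u0] at s2
    rw [v0] at s3
    have top : S.grp = ⊤ := by
      rw [eq_top_iff, ← hg, sup_le_iff, closure_le]
      refine ⟨s1, ?_⟩
      rintro _ ⟨l, rfl⟩
      fin_cases l
      exacts [s2, s3]
    refine (injective_iff_map_eq_one π).mpr fun x => S.inj (by omega) π (fun i j t e => ?_) (top.ge trivial)
    by_cases ht : t = 0
    · rw [ht, S.x_zero e, map_one]; exact ((slSt ι F).x_zero e).symm
    obtain ⟨n, rfl⟩ := z2 t ht
    obtain ⟨k, k1, k2, -⟩ := exists_fourth h4 i j j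
    have d1 : ∀ t, dg ζ i k * tr i j t * (dg ζ i k)⁻¹ = tr i j (ζ * t) := fun t => by
      rw [dg_tr z0 k1 e]; simp [dv, e.symm, k2]
    rw [s4 i j k e k2 k1, ← mul_one (ζ ^ n), ← cu_eq d1, ← eU e, ← eH k1, map_cu]
    simp [cj, p1, p2]

theorem exists_stab_list (a b : ι) {k : ℕ} (f : Fin k → alternatingGroup ({a, b}ᶜ : Finset ι))
    (hf : closure (Set.range f) = ⊤) : ∃ s : List (alternatingGroup ι), s.length = k ∧
      ∀ τ, τ ∈ closure {x | x ∈ s} ↔ τ.1 a = a ∧ τ.1 b = b := by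
  refine ⟨List.ofFn (alternatingGroup.ofSubtype _ ∘ f), by simp, fun τ => ?_⟩
  have : {x | x ∈ List.ofFn (alternatingGroup.ofSubtype _ ∘ f)} = alternatingGroup.ofSubtype _ '' Set.range f := by
    ext x; simp [List.mem_ofFn]
  rw [this, ← MonoidHom.map_closure, hf, ← MonoidHom.range_eq_map, alternatingGroup.mem_range_ofSubtype_iff,
    Finset.subset_compl_comm, Finset.insert_subset_iff]
  simp

theorem alt_gens {α : Type} [Fintype α] [DecidableEq α] :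
    (Fintype.card α = 2 → ∃ f : Fin 0 → alternatingGroup α, closure (Set.range f) = ⊤) ∧
    (Fintype.card α = 3 → ∃ f : Fin 1 → alternatingGroup α, closure (Set.range f) = ⊤) ∧
    (3 ≤ Fintype.card α → ∃ f : Fin 2 → alternatingGroup α, closure (Set.range f) = ⊤) := by
  refine ⟨fun h => ?_, fun h => ?_, fun h => ?_⟩
  · have : Nontrivial α := Fintype.one_lt_card_iff_nontrivial.mp (by omega)
    have : Subsingleton (alternatingGroup α) := Fintype.card_le_one_iff_subsingleton.mp (by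
      rw [card_alternatingGroup, h]; rfl)
    exact ⟨Fin.elim0, Subsingleton.elim _ _⟩
  · have : Nontrivial α := Fintype.one_lt_card_iff_nontrivial.mp (by omega)
    have : Fact (Nat.Prime 3) := ⟨Nat.prime_three⟩
    have : IsCyclic (alternatingGroup α) := isCyclic_of_prime_card (p := 3) (by
      rw [nat_card_alternatingGroup, Nat.card_eq_fintype_card, h]; rfl)
    obtain ⟨g, hg⟩ := IsCyclic.exists_generator (α := alternatingGroup α)
    refine ⟨![g], ?_⟩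
    rw [eq_top_iff]
    exact fun x _ => (zpowers_le_of_mem (Subgroup.subset_closure (Set.mem_range_self 0))) (hg x)
  · obtain ⟨f, hf⟩ := ((good_all _ h).2.congr (Fintype.equivFin α).symm.altCongrHom).2
    exact ⟨f, hf.1⟩

theorem alt_pres_small (m : ℕ) [NeZero m] : ∃ f : Fin 2 → alternatingGroup (Fin (m + 2)), PresOn f (m + 2) := by
  obtain ⟨f, hf⟩ := cyc_pres' m 1
  let e : ZMod m ⊕ Bool ≃ Fin (m + 2) := Fintype.equivFinOfCardEq (by simp)
  exact ⟨_, hf.alt.congr e.altCongrHom⟩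

theorem sl_pres_fin (F : Type*) [Field F] [Fintype F] :
    (∃ f : Fin 2 ⊕ Fin 2 → SpecialLinearGroup (Fin 4) F, PresOn f 19) ∧
    (∃ f : Fin 2 ⊕ Fin 2 → SpecialLinearGroup (Fin 5) F, PresOn f 20) ∧
    ∀ n, 4 ≤ n → (∃ f : Fin 3 ⊕ Fin 2 → SpecialLinearGroup (Fin n) F, PresOn f 23) ∧
      ∃ f : Fin 2 ⊕ Fin 2 → SpecialLinearGroup (Fin n) F, PresOn f 23 := by
  have h4 : ∃ f : Fin 2 ⊕ Fin 2 → SpecialLinearGroup (Fin 4) F, PresOn f 19 := by
    obtain ⟨f, hf⟩ := alt_pres_small 2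
    obtain ⟨g, hg⟩ := (alt_gens (α := ({0, 1}ᶜ : Finset (Fin 4)))).1 (by decide)
    obtain ⟨s, hs, hs'⟩ := exists_stab_list _ _ g hg
    have := sl_pres (F := F) hf (by simp) (a := 0) (b := 1) (c := 2) (d := 3) (by decide) (by decide) (by decide)
      (by decide) (by decide) (by decide) s hs' true true (by simp) (by simp)
    rwa [hs] at this
  have h5 : ∃ f : Fin 2 ⊕ Fin 2 → SpecialLinearGroup (Fin 5) F, PresOn f 20 := by
    obtain ⟨f, hf⟩ := alt_pres_small 3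
    obtain ⟨g, hg⟩ := (alt_gens (α := ({0, 1}ᶜ : Finset (Fin 5)))).2.1 (by decide)
    obtain ⟨s, hs, hs'⟩ := exists_stab_list _ _ g hg
    have := sl_pres (F := F) hf (by simp) (a := 0) (b := 1) (c := 2) (d := 3) (by decide) (by decide) (by decide)
      (by decide) (by decide) (by decide) s hs' false true (by simp) (by simp)
    rwa [hs] at this
  have pad : ∀ {n m : ℕ}, m ≤ 22 → (∃ f : Fin 2 ⊕ Fin 2 → SpecialLinearGroup (Fin n) F, PresOn f m) →
      (∃ f : Fin 3 ⊕ Fin 2 → SpecialLinearGroup (Fin n) F, PresOn f 23) ∧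
      ∃ f : Fin 2 ⊕ Fin 2 → SpecialLinearGroup (Fin n) F, PresOn f 23 := by
    rintro n m hm ⟨f, hf⟩
    refine ⟨⟨_, (hf.sup (Sum.elim ![f (.inl 0), f (.inl 1), 1] (f ∘ Sum.inr)) (Sum.map Fin.castSucc id)
      ((Fin.castSucc_injective _).sumMap Function.injective_id) ?_).mono (by simp; omega)⟩, f, hf.mono (by omega)⟩
    rintro (i | i)
    · fin_cases i <;> rfl
    · rfl
  refine ⟨h4, h5, fun n hn => ?_⟩
  by_cases e4 : n = 4
  · subst e4; exact pad (by norm_num) h4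
  by_cases e5 : n = 5
  · subst e5; exact pad (by norm_num) h5
  obtain ⟨n, rfl⟩ : ∃ k, n = k + 6 := ⟨n - 6, by omega⟩
  obtain ⟨g, hg⟩ := (alt_gens (α := ({0, 1}ᶜ : Finset (Fin (n + 6))))).2.2 (by
    rw [Fintype.card_coe, Finset.card_compl, Finset.card_pair (by simp)]; simp)
  obtain ⟨s, hs, hs'⟩ := exists_stab_list _ _ g hg
  have : ∀ {κ : Type} {f : κ → alternatingGroup (Fin (n + 6))}, PresOn f 7 →
      ∃ f : κ ⊕ Fin 2 → SpecialLinearGroup (Fin (n + 6)) F, PresOn f 23 := fun hf => by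
    have := sl_pres (F := F) hf (by simp) (a := 0) (b := 1) (c := ⟨2, by omega⟩) (d := ⟨3, by omega⟩)
      (by simp) (by simp [Fin.ext_iff]) (by simp [Fin.ext_iff]) (by simp [Fin.ext_iff]) (by simp [Fin.ext_iff])
      (by simp) s hs' false false (by simp) (by simp)
    rwa [hs] at this
  obtain ⟨⟨f, hf⟩, f', hf'⟩ := (good_all (n + 6) (by omega)).2
  exact ⟨this hf, this hf'⟩

end Cfsg.Agent.Pres
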