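import Mathlib
import Cfsg.Agent.Pres.FP5
import Cfsg.Agent.Pres.SLn3

/-! The presentation of the orthogonal groups of plus type. -/

set_option autoImplicit false
set_option linter.unusedSectionVars false

namespace Cfsg.Agent.Pres

open Subgroup Equiv Matrix Sum
open scoped commutatorElement MatrixGroups

variable {F G : Type*} [Field F] [Group G]

theorem exists_ne4 {I : Type*} [Fintype I] [DecidableEq I] (h : 5 ≤ Fintype.card I) (a b c d : I) :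
    ∃ e, a ≠ e ∧ b ≠ e ∧ c ≠ e ∧ d ≠ e := by
  obtain ⟨e, he⟩ : ∃ e, e ∉ ({a, b, c, d} : Finset I) := by
    by_contra H
    have := Finset.card_le_card (show Finset.univ ⊆ ({a, b, c, d} : Finset I) from fun x _ => by
      by_contra e; exact H ⟨x, e⟩)
    have := Finset.card_le_four (a := a) (b := b) (c := c) (d := d)
    simp_all; omega
  exact ⟨e, by simpa [eq_comm] using he⟩

theorem exists_ne3 {I : Type*} [Fintype I] [DecidableEq I] (h : 4 ≤ Fintype.card I) (a b c : I) :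
    ∃ e, a ≠ e ∧ b ≠ e ∧ c ≠ e := by
  obtain ⟨e, he⟩ : ∃ e, e ∉ ({a, b, c} : Finset I) := by
    by_contra H
    have := Finset.card_le_card (show Finset.univ ⊆ ({a, b, c} : Finset I) from fun x _ => by
      by_contra e; exact H ⟨x, e⟩)
    have := Finset.card_le_three (a := a) (b := b) (c := c)
    simp_all; omega
  exact ⟨e, by simpa [eq_comm] using he⟩

theorem oD_RY {I : Type*} [DecidableEq I] (i : I ⊕ I) : (oD I F).RY i = ⊥ :=
  eq_bot_iff.mpr (by rintro _ ⟨_, _, ⟨rfl, rfl⟩, rfl⟩; exact (oD I F).Y_zero i)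

theorem SC.norm_U {I : Type*} [DecidableEq I] [Fintype I] {D : UD (I ⊕ I) F} {π : G →* HH (I ⊕ I) F}
    {ψ : SpecialLinearGroup I F →* G} {S : SC D π ψ} {Λ : Lift D π} (hX : Λ.X = S.X) {g : G} {w : Perm (Option (I ⊕ I))}
    (h : (g, w) ∈ S.N) (hY : ∀ i, ∀ y ∈ Λ.Y i, g * y * g⁻¹ ∈ XS Λ.U fun _ => True) {x : G}
    (hx : x ∈ XS Λ.U fun _ => True) : g * x * g⁻¹ ∈ XS Λ.U fun _ => True := by
  refine XS_conj (fun b _ y hy => ?_) hx
  obtain ⟨s, s1, -, s3⟩ := (SC.N_cm h).ex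
  rcases root_cases b with ⟨x, rfl⟩ | ⟨i, j, hd, rfl⟩ | ⟨i, rfl⟩ | ⟨i, rfl⟩ | ⟨i, rfl⟩
  · rw [Λ.U_o, mem_bot] at hy; simp [hy, one_mem]
  · rw [Λ.U_x hd, hX] at hy
    exact le_XS Λ.U (b := (some (s i), some (s j))) trivial
      (by rw [Λ.U_x (s3 _ _ hd), hX]; exact SC.X_conj h (s1 i) (s1 j) hy)
  · exact hY i y (Λ.Z_le i (Λ.U_z i ▸ hy))
  · exact hY i y hy
  · exact hY i y (Λ.U_y' i ▸ hy)

theorem SC.range_le {I : Type*} [DecidableEq I] [Fintype I] {D : UD (I ⊕ I) F} {π : G →* HH (I ⊕ I) F}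
    {ψ : SpecialLinearGroup I F →* G} {S : SC D π ψ} {Λ : Lift D π} (hX : Λ.X = S.X) :
    ψ.range ≤ XS Λ.U fun _ => True := by
  rintro _ ⟨A, rfl⟩
  exact (slSt_top (K := (XS Λ.U fun _ => True).comap ψ) fun a b t hab => le_XS Λ.U
    (b := (some (inl a), some (inl b))) trivial (by rw [Λ.U_x (D2_inl hab), hX]; exact S.tr_X hab t)).ge (mem_top A)

theorem PF.inj [Finite F] {n : ℕ} (hn : 2 ≤ n) {π : G →* HH (Fin (n + 2) ⊕ Fin (n + 2)) F} {ψ : SL(n + 2, F) →* G}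
    {P : Fin (n + 2) → Fin (n + 2) → G} (h : PF π ψ P) {a b c d : Fin (n + 2)} (ab : a ≠ b) (ac : a ≠ c) (ad : a ≠ d)
    (bc : b ≠ c) (bd : b ≠ d) (cd : c ≠ d) (hg : ψ.range ⊔ closure {P a b} = ⊤)
    (c3 : Commute (ψ (tr c a 1)) (P a b * ψ (tr c a 1) * (P a b)⁻¹))
    (hK : 3 ≤ n ∨ Commute (ψ (tr b d 1)) (P a b * ψ (tr c a 1) * (P a b)⁻¹)) : Function.Injective π := by
  have h4 := exists_ne3 (I := Fin (n + 2)) (by simp; omega)
  let S := h.toSC h4 ab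
  have hQ : ∀ i j, (P i j, sc i * sc j) ∈ S.N := fun i j => S.Θ_N (PQ_mem i j)
  have X1 : ∀ {i j k}, i ≠ j → i ≠ k → j ≠ k → ∀ t, P j k * ψ (tr i j t) * (P j k)⁻¹ ∈ S.X (inl i) (inr j) :=
    fun h1 h2 h3 t => SC.X_conj (hQ _ _) (by simp [sc_inl, *]) (by simp [sc_inl, *]) (S.tr_X h1 t)
  have X2 : ∀ {i j}, i ≠ j → (i = c ∧ j = a ∨ i = b ∧ j = d) → Commute (ψ (tr i j 1)) (P a b * ψ (tr c a 1) * (P a b)⁻¹) →
      ∀ u ∈ S.X (inl i) (inl j), ∀ v ∈ S.X (inl c) (inr a), Commute u v := fun h1 h2 h3 u hu v hv => by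
    obtain ⟨s, rfl⟩ := (mem_UA h1).mp (S.X_inl h1 ▸ hu)
    obtain ⟨t, ht⟩ := (mem_UA ac.symm).mp (S.X_inl ac.symm ▸ SC.X_conj' (hQ a b) (x := inl c) (y := inl a)
      (by simp [sc_inl, ac.symm, bc.symm]) (by simp [sc_inl, ab]) hv)
    simpa [ht, mul_assoc] using h.cq ac.symm bc.symm cd ab ad bd h2 h3 s t
  have K0 : ∀ u ∈ S.X (inl b) (inl d), ∀ v ∈ S.X (inl c) (inr a), Commute u v := by
    rcases hK with hK | hK
    · obtain ⟨e, e1, e2, e3, e4⟩ := exists_ne4 (I := Fin (n + 2)) (by simp; omega) a b c d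
      exact S.c4_of (D2_inl bd) (D2_iff.mpr ac.symm) (D2_inl cd) (D2_iff.mpr ab.symm)
        ⟨_, PQ_mem a e, by simp [PQ, sc_inl, *, Ne.symm], by simp [PQ, sc_inl, *, Ne.symm],
          by simp [PQ, sc_inl, *, Ne.symm], by simp [PQ, sc_inl, e1]⟩
    · exact X2 bd (.inr ⟨rfl, rfl⟩) hK
  let Λ : Lift (oD _ F) π := Lift.mk' S.X (fun _ => ⊥) S.X_map (fun i => by simp [oD_RY]) S.X_inj (by simp) S.X_symm
    S.c1 (S.c2 fun x y z w h1 h2 h3 h5 h6 h7 => by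
      obtain ⟨p, hp, e1, e2, e3⟩ := PΘ_real (P := P) (c := Pres.ab w) h1 h5.symm h3.symm (D2_iff.mp h6) (D2_iff.mp h7)
        (D2_iff.mp h2)
      by_cases e4 : p.2 (some (inl (Pres.ab w))) = some w
      · exact S.c4_of h1 h2 h5 h6 ⟨p, hp, e1, e2, e3, e4⟩
      have e5 : p.2 (some (inr (Pres.ab w))) = some w := by
        have := S.sgn p hp (Pres.ab w)
        rcases w with w | w
        · exact (SC.N_cm (S.Θ_N hp)).bar (x := inl w) (y := inr w) (this.resolve_left e4)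
        · exact (SC.N_cm (S.Θ_N hp)).bar (x := inl w) (y := inl w) (this.resolve_right e4)
      rw [D2_iff] at h1 h2 h3 h5 h6 h7
      obtain ⟨σ, hσ⟩ := Perm.exists_extending_pair _ _ (inj4 bd bc ab.symm cd.symm ad.symm ac.symm)
        (inj4 h1 h3.symm h6 h5.symm h7 h2)
      obtain ⟨A, hA⟩ := exists_Sm (F := F) σ
      have hN : (p.1 * ψ A, p.2 * dp σ) ∈ S.N := mul_mem (S.Θ_N hp) (S.Sm_N hA)
      exact fun u hu v hv => commute_of_conj (K0 _ (SC.X_conj' hN (by simpa [← e1] using hσ 0)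
        (by simpa [← e2] using hσ 1) hu) _ (SC.X_conj' hN (by simpa [← e3] using hσ 2) (by simpa [← e5] using hσ 3) hv)))
    (fun hd u hu v hv => by
      obtain ⟨g, w, h1, e1, e2⟩ := S.trans2 hd ac.symm
      exact Commute.cmem (commute_of_conj (X2 ac.symm (.inl ⟨rfl, rfl⟩) c3 _ (SC.X_conj' h1 e1 e2 hu) _
        (SC.X_conj' h1 e1 ((SC.N_cm h1).bar e2) hv))) _)
    (by simp) (by simp) (by simp)
  have hX : Λ.X = S.X := rfl
  have hE : (XS Λ.U fun _ => True) = ⊤ := top_unique (hg ▸ sup_le (SC.range_le hX) ((closure_le _).mpr (by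
    rintro _ rfl
    have key : ∀ A, P a b * ψ A * (P a b)⁻¹ ∈ XS Λ.U fun _ => True := fun A =>
      SC.norm_U hX (hQ a b) (by simp [Λ, Lift.mk']) (SC.range_le hX ⟨A, rfl⟩)
    have h1 := h.conj _ _ (wA_Sm ac) a b
    have h2 := h.conj _ _ (wA_Sm bc) a b
    simp only [swap_apply_left, swap_apply_of_ne_of_ne ab.symm bc, swap_apply_of_ne_of_ne ab ac] at h1 h2
    have h3 := h.mul a b c
    rw [h.symm b, ← h1, ← h2] at h3
    have := mul_mem (mul_mem (mul_mem (SC.range_le hX ⟨wA b c, rfl⟩) (key (wA b c)⁻¹)) (key (wA a c)))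
      (SC.range_le hX ⟨(wA a c)⁻¹, rfl⟩)
    refine (congrArg (· ∈ XS Λ.U fun _ => True) ?_).mpr this
    simp only [map_inv]
    calc P a b = P a b * (ψ (wA a c) * P a b * (ψ (wA a c))⁻¹) * (ψ (wA a c) * (P a b)⁻¹ * (ψ (wA a c))⁻¹) := by group
      _ = _ := by rw [h3]; group)))
  refine (injective_iff_map_eq_one π).mpr fun g e => (Λ.kerD (by omega) (fun u b h => h.2) (hE ▸ mem_top g) e).elim id
    fun e => e.trans ?_
  have h1 := (Fin.castSucc_lt_last (Fin.last n)).ne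
  generalize (Fin.last n).castSucc = i at *
  generalize Fin.last (n + 1) = j at *
  obtain ⟨k, h2, h3, -⟩ := h4 i j i
  have l1 : ∀ {i j}, i ≠ j → ∀ t, Λ.lx (inl i) (inl j) t = ψ (tr i j t) := fun h1 t =>
    (Λ.lx_uniq (D2_inl h1) (S.tr_X h1 t) (h.cp _ _ t h1)).symm
  have l2 : ∀ {x y x' y'}, x ≠ y → (sc j * sc k) (some (inl x)) = some x' → (sc j * sc k) (some (inl y)) = some y' →
      ∀ t, Λ.lx x' y' t = P j k * ψ (tr x y t) * (P j k)⁻¹ := fun h1 e1 e2 t =>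
    (Λ.lx_uniq (((sc_cm j).mul (sc_cm k)).d2 e1 e2 (D2_inl h1)) (SC.X_conj (hQ j k) e1 e2 (S.tr_X h1 t)) (by
      rw [map_mul, map_mul, map_inv, h.hπ, h.cp _ _ _ h1]
      exact pmv_X ((sc_cm j).mul (sc_cm k)) (D2_inl h1) e1 e2 t)).symm
  have e1 : (sc j * sc k) (some (inl i)) = some (inl i) := by simp [sc_inl, *]
  have e2 : (sc j * sc k) (some (inl j)) = some (inr j) := by simp [sc_inl, *]
  have h5 : Λ.wX (inl i) (inr j) = P j k * ψ (wA i j) * (P j k)⁻¹ := by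
    simp [Lift.wX, l2 h1 e1 e2, l2 h1.symm e2 e1, wA, mul_assoc]
  have h6 := mul_inv_eq_iff_eq_mul.mp (h.conj _ _ (dg_Sm h1) j k)
  rw [h5, show Λ.wX (inl i) (inl j) = ψ (wA i j) by simp [Lift.wX, l1 h1, l1 h1.symm, wA], conj_pow, ← map_pow, wA_sq h1]
  simp only [Perm.coe_one, id] at h6
  rw [← h6, mul_inv_cancel_right, ← map_mul, dg_sq h1, map_one]

theorem exists_three {I : Type*} [DecidableEq I] [Fintype I] [Fintype F] {a b : I} (ab : a ≠ b) (h : 4 ≤ Fintype.card I) :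
    ∃ A1 A2 A3 : SpecialLinearGroup I F, ∀ K : Subgroup (SpecialLinearGroup I F),
      (A1 ∈ K ∧ A2 ∈ K ∧ A3 ∈ K) ↔ ∀ i j t, i ≠ j → Nb a b i j → tr i j t ∈ K := by
  obtain ⟨φ, hφ⟩ := sl_emb (F := F) (k := 0) (inj2 ab)
  obtain ⟨k, χ, h1, h2⟩ := exists_block (F := F) ({a, b}ᶜ : Finset I) (by
    rw [Finset.card_compl, Finset.card_pair ab]; omega)
  obtain ⟨a1, a2, h3, h4⟩ := sl2_gen_nc F
  obtain ⟨f, hf⟩ := sl_two_gen F (k + 2) (by omega)
  have h5 : ∀ K : Subgroup (SpecialLinearGroup I F), (∀ t, tr a b t ∈ K) → (∀ t, tr b a t ∈ K) → ∀ A, φ A ∈ K :=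
    fun K e1 e2 A => (slSt_top (K := K.comap φ) fun i j t hij => by
      rw [mem_comap, hφ i j t hij]; fin_cases i <;> fin_cases j <;> simp_all).ge (mem_top A)
  refine ⟨φ a1, φ a2 * χ (f 0), χ (f 1), fun K => ⟨fun ⟨e1, e2, e3⟩ => ?_, fun H => ?_⟩⟩
  · obtain ⟨e4, e5⟩ := three_gen φ χ (fun A B => mem_centralizer_singleton_iff.mp (h2 (centralizer {φ A})
      (fun i hi j hj hij t => by
        simp only [Finset.mem_compl, Finset.mem_insert, Finset.mem_singleton, not_or] at hi hj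
        exact mem_centralizer_singleton_iff.mpr (mem_centralizer_singleton_iff.mp (h5 (centralizer {tr i j t})
          (fun s => mem_centralizer_singleton_iff.mpr ((slSt I F).comm ab hij (Ne.symm hi.2) (Ne.symm hj.1) s t))
          (fun s => mem_centralizer_singleton_iff.mpr ((slSt I F).comm ab.symm hij (Ne.symm hi.1) (Ne.symm hj.2) s t))
          A)).symm) ⟨B, rfl⟩) |>.symm) h3 h4 (b1 := f 0) (b2 := f 1)
      (by rw [← hf]; congr 1; ext x; simp [Fin.exists_fin_two, eq_comm]) e1 e2 e3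
    rintro i j t hij (⟨rfl, rfl⟩ | ⟨rfl, rfl⟩ | h)
    exacts [e4 ⟨_, hφ 0 1 t (by simp)⟩, e4 ⟨_, hφ 1 0 t (by simp)⟩, e5 (h1 i (by simp [h]) j (by simp [h]) hij t)]
  · have e1 := h5 K (fun t => H _ _ t ab (.inl ⟨rfl, rfl⟩)) fun t => H _ _ t ab.symm (.inr (.inl ⟨rfl, rfl⟩))
    have e2 := h2 K fun i hi j hj hij t => H i j t hij (.inr (.inr (by simp_all)))
    exact ⟨e1 _, mul_mem (e1 _) (e2 ⟨_, rfl⟩), e2 ⟨_, rfl⟩⟩

theorem exists_OD {I : Type*} [DecidableEq I] [Fintype I] {ι : SpecialLinearGroup I F →* (oD I F).E}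
    (h : Cp (oD I F) (oD I F).E.subtype ι) {a b c : I} (ab : a ≠ b) (bc : b ≠ c) (ac : a ≠ c) :
    ∃ s, OD (oD I F).E.subtype ι s a b c := by
  have hw := (sc_cm a).mul (sc_cm b)
  have hs : pmv F (sc a * sc b) ∈ (oD I F).E := by
    have d1 : D2 (inl a : I ⊕ I) (inr b) := D2_iff.mpr ab
    have d2 := D2_inl ab
    rw [show pmv F (sc a * sc b) = (oD I F).X (inl a) (inr b) 1 * (oD I F).X (inr b) (inl a) (-1) *
      (oD I F).X (inl a) (inr b) 1 * ((oD I F).X (inl a) (inl b) (-1) * (oD I F).X (inl b) (inl a) 1 *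
      (oD I F).X (inl a) (inl b) (-1)) from basis_ext fun y => ?_]
    · exact mul_mem (mul_mem (mul_mem (UD.X_E _ _ _ _) (UD.X_E _ _ _ _)) (UD.X_E _ _ _ _))
        (mul_mem (mul_mem (UD.X_E _ _ _ _) (UD.X_E _ _ _ _)) (UD.X_E _ _ _ _))
    simp only [pmv_ee, LinearEquiv.mul_apply, UD.X_apply _ d1, UD.X_apply _ d2, UD.X_apply _ d1.symm,
      UD.X_apply _ d2.symm]
    rcases y with _ | y | y
    · simp
    all_goals by_cases e1 : y = a <;> by_cases e2 : y = b <;> simp_all [sc_inl, sc_inr, oD, Ne.symm]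
  have hc : ∀ A σ, (A, σ) ∈ Sm I F → ∀ x : (oD I F).E, x.1 = pmv F (sc a * sc b) →
      (ι A * x * (ι A)⁻¹).1 = pmv F (sc (σ a) * sc (σ b)) := fun A σ hA x hx => by
    simpa [hx] using h.conj_pmv hA a b
  refine ⟨⟨_, hs⟩, h, ab, bc, ac, rfl, fun i j t hij hN => ?_, ⟨dg (-1) a c, Subtype.ext ?_⟩, Subtype.ext ?_⟩
  · have key : ∀ {x y}, (sc a * sc b) (some (inl i)) = some x → (sc a * sc b) (some (inl j)) = some y → ∀ B,
        (ι B).1 = (oD I F).X x y t → ⟨_, hs⟩ * ι (tr i j t) * ⟨_, hs⟩⁻¹ ∈ ι.range := fun e1 e2 B e => ⟨B, Subtype.ext (by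
      rw [e, ← pmv_X hw (D2_inl hij) e1 e2, ← h i j t hij]; rfl)⟩
    have e : (ι (tr j i (-t))).1 = (oD I F).X (inr i) (inr j) t :=
      (h _ _ _ hij.symm).trans (((oD I F).X_symm ..).trans (by simp [oD]))
    rcases hN with ⟨rfl, rfl⟩ | ⟨rfl, rfl⟩ | hN
    · exact key (by simp [sc_inl, *]) (by simp [sc_inl, sc_inr, Ne.symm, *]) _ e
    · exact key (by simp [sc_inl, sc_inr, *]) (by simp [sc_inl, Ne.symm, *]) _ e
    · exact key (by simp [sc_inl, *]) (by simp [sc_inl, *]) _ (h i j t hij)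
  · have := h.conj_pmv (dg_Sm ac) a b
    rw [mul_inv_eq_iff_eq_mul] at this
    exact eq_mul_inv_of_mul_eq this
  · rw [Subgroup.coe_mul, hc _ _ (wA_Sm ac) _ rfl, hc _ _ (wA_Sm bc) _ rfl, ← map_mul]
    simp [swap_apply_of_ne_of_ne ab.symm bc, swap_apply_of_ne_of_ne ab ac, (sc_comm c b).eq, mul_assoc,
      ← mul_assoc (sc b), -map_mul]

/-- the words in the base group -/
def RA (A κ : Type*) : Set (FreeGroup (A ⊕ κ)) := Set.range fun a => FreeGroup.of (inl a)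

theorem closure_RA {A κ : Type*} [Group A] (ψ : A →* G) (g : κ → G) :
    closure (FreeGroup.lift (Sum.elim ψ g) '' RA A κ) = ψ.range := by
  simp [RA, ← Set.range_comp, Function.comp_def, ← MonoidHom.coe_range]

/-- the relations of the orthogonal group -/
noncomputable def oL {I : Type*} [DecidableEq I] [Fintype I] (A1 A2 A3 : SpecialLinearGroup I F) (a b c d : I) (k : Prop)
    [Decidable k] : List (FreeGroup (SpecialLinearGroup I F ⊕ Unit) × Set (FreeGroup (SpecialLinearGroup I F ⊕ Unit))) :=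
  let s : FreeGroup (SpecialLinearGroup I F ⊕ Unit) := .of (inr ())
  let o : SpecialLinearGroup I F → FreeGroup (SpecialLinearGroup I F ⊕ Unit) := fun A => .of (inl A)
  [(s * o A1 * s⁻¹, RA _ _), (s * o A2 * s⁻¹, RA _ _), (s * o A3 * s⁻¹, RA _ _), (s * o (dg (-1) a c) * s⁻¹, RA _ _),
    (s * (o (wA a c) * s * (o (wA a c))⁻¹) * (o (wA b c) * s * (o (wA b c))⁻¹)⁻¹, ∅),
    (⁅o (tr c a 1), s * o (tr c a 1) * s⁻¹⁆, ∅)] ++ if k then [] else [(⁅o (tr b d 1), s * o (tr c a 1) * s⁻¹⁆, ∅)]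

theorem memL_oL {I : Type*} [DecidableEq I] [Fintype I] {A1 A2 A3 : SpecialLinearGroup I F} {a b : I}
    (hA : ∀ K : Subgroup (SpecialLinearGroup I F),
      (A1 ∈ K ∧ A2 ∈ K ∧ A3 ∈ K) ↔ ∀ i j t, i ≠ j → Nb a b i j → tr i j t ∈ K) (c d : I) (k : Prop) [Decidable k]
    (ψ : SpecialLinearGroup I F →* G) (g : Unit → G) : MemL ((oL A1 A2 A3 a b c d k).map
      (Prod.map (FreeGroup.lift (Sum.elim ψ g)) (Set.image (FreeGroup.lift (Sum.elim ψ g))))) ↔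
      (∀ i j t, i ≠ j → Nb a b i j → g () * ψ (tr i j t) * (g ())⁻¹ ∈ ψ.range) ∧
      g () * ψ (dg (-1) a c) * (g ())⁻¹ ∈ ψ.range ∧
      g () * (ψ (wA a c) * g () * (ψ (wA a c))⁻¹) = ψ (wA b c) * g () * (ψ (wA b c))⁻¹ ∧
      Commute (ψ (tr c a 1)) (g () * ψ (tr c a 1) * (g ())⁻¹) ∧
      (k ∨ Commute (ψ (tr b d 1)) (g () * ψ (tr c a 1) * (g ())⁻¹)) := by
  have := hA ((ψ.range.comap (MulAut.conj (g ())).toMonoidHom).comap ψ)
  simp only [mem_comap, MulEquiv.coe_toMonoidHom, MulAut.conj_apply] at this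
  by_cases h : k <;> simp [oL, h, ← this, closure_RA, -MonoidHom.mem_range, map_commutatorElement,
    mul_inv_eq_one, commutatorElement_eq_one_iff_commute, -_root_.mul_inv_rev, and_assoc]

theorem o_pres [Fintype F] {n : ℕ} (hn : 2 ≤ n) {κ : Type} {f : κ → SL(n + 2, F)} {m : ℕ} (hf : PresOn f m) :
    ∃ g : κ ⊕ Unit → (oD (Fin (n + 2)) F).E, PresOn g (m + if 3 ≤ n then 6 else 7) := by
  obtain ⟨ι, hι⟩ := (oD (Fin (n + 2)) F).exists_iota (Lift.rk_of (by omega) _)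
  obtain ⟨a, b, c, d, ab, ac, ad, bc, bd, cd⟩ : ∃ a b c d : Fin (n + 2), a ≠ b ∧ a ≠ c ∧ a ≠ d ∧ b ≠ c ∧ b ≠ d ∧ c ≠ d :=
    ⟨⟨0, by omega⟩, ⟨1, by omega⟩, ⟨2, by omega⟩, ⟨3, by omega⟩, by simp⟩
  obtain ⟨A1, A2, A3, hA⟩ := exists_three (F := F) ab (by simp; omega)
  obtain ⟨s0, h0⟩ := exists_OD hι ab bc ac
  have hπ : ∀ {i j}, i ≠ j → Commute ((oD _ F).X (inl i) (inl j) 1) ((oD _ F).X (inl c) (inr a) 1) →
      Commute (ι (tr i j 1)) (s0 * ι (tr c a 1) * s0⁻¹) := fun {i j} h1 h2 => Subtype.ext (by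
    rw [← pmv_X (F := F) ((sc_cm a).mul (sc_cm b)) (D2_inl ac.symm) (i' := inl c) (j' := inr a)
      (by simp [sc_inl, ac.symm, bc.symm]) (by simp [sc_inl, ab]) 1, ← h0.hs, ← hι _ _ _ ac.symm, ← hι _ _ _ h1] at h2
    exact h2.eq)
  have := hf.extendM ι (fun _ : Unit => s0) (by
      obtain ⟨P, h1, h2⟩ := h0.exists_PF
      refine X_le_top (h1.toSC (exists_ne3 (by simp; omega)) ab) le_sup_left (fun p hp => ?_)
        (by rintro i _ _ ⟨rfl, rfl⟩; rw [UD.Y_zero]; exact one_mem _)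
      refine mem_comap.mp ((closure_le (comap (MonoidHom.fst _ _) _)).mpr ?_ hp)
      rintro _ ⟨⟨i, j⟩, rfl⟩
      show P i j ∈ ι.range ⊔ closure (Set.range fun _ : Unit => s0)
      by_cases e : i = j
      · rw [e, h1.self]; exact one_mem _
      obtain ⟨σ, hσ⟩ := Perm.exists_extending_pair _ _ (inj2 ab) (inj2 e)
      obtain ⟨A, hA⟩ := exists_Sm (F := F) σ
      rw [show i = σ a from (hσ 0).symm, show j = σ b from (hσ 1).symm, ← h1.conj A σ hA, h2]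
      exact mul_mem (mul_mem (mem_sup_left ⟨A, rfl⟩) (mem_sup_right (subset_closure ⟨(), rfl⟩)))
        (inv_mem (mem_sup_left ⟨A, rfl⟩)))
    (oL A1 A2 A3 a b c d (3 ≤ n)) ((memL_oL hA c d _ ι _).mpr ⟨h0.r1, h0.r2, h0.r3, hπ ac.symm (by
        rw [← commutatorElement_eq_one_iff_commute, UD.X_symm _ (inl c) (inr a)]
        exact ((oD _ F).XX_long (D2_inl ac.symm) _ _).trans (by simp [oD, UD.Y_zero])),
      .inr (hπ bd ((oD _ F).XX_comm (by simpa) (by simp) (by simp) (by simpa) 1 1))⟩)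
    fun G _ ψ g hg hr π h1 h2 => by
      obtain ⟨r1, r2, r3, r4, r5⟩ := (memL_oL hA c d _ ψ g).mp hr
      obtain ⟨P, h3, h4⟩ := OD.exists_PF (π := (oD _ F).E.subtype.comp π) ⟨fun i j t hij => by
        simpa [h1] using hι i j t hij, ab, bc, ac, by simpa [h2] using h0.hs, r1, r2, r3⟩
      exact Function.Injective.of_comp (f := Subtype.val) (h3.inj hn ab ac ad bc bd cd
        (by rw [h4, ← hg]; congr 2; ext; simp [eq_comm, Unique.exists_iff]) (h4 ▸ r4) (h4 ▸ r5))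
  exact ⟨_, this.mono (by by_cases h : 3 ≤ n <;> simp [oL, h])⟩

theorem PresOn.both {H K : Type*} [Group H] [Group K] {κ : Type} [Fintype κ] {f : κ → H} {m : ℕ} (h : PresOn f m)
    [IsCyclic (center H)] (e : Nonempty (H ≃* K)) (k r : ℕ) (hk : Fintype.card κ ≤ k) (hr : m + (k - Fintype.card κ) ≤ r) :
    (∃ rels : Finset (FreeGroup (Fin k)), rels.card ≤ r ∧ Nonempty (PresentedGroup (rels : Set (FreeGroup (Fin k))) ≃* K)) ∧
    ∃ rels : Finset (FreeGroup (Fin k)), rels.card ≤ r + 1 ∧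
      Nonempty (PresentedGroup (rels : Set (FreeGroup (Fin k))) ≃* K ⧸ center K) := by
  obtain ⟨e⟩ := e
  have : IsCyclic (center K) := isCyclic_of_surjective (Subgroup.centerCongr e) (Subgroup.centerCongr e).surjective
  obtain ⟨g, hg⟩ := (h.congr e).pad k hk
  exact ⟨(hg.mono hr).iso', (hg.mono hr).quot_center.iso'⟩

end Cfsg.Agent.Pres
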