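import Mathlib
import Cfsg.Agent.Pres.SLn3

/-! Short presentations of `SL₃(q)`. -/

set_option autoImplicit false
set_option linter.unusedSectionVars false

namespace Cfsg.Agent.Pres

open Matrix Equiv Polynomial Subgroup

variable {G : Type*} [Group G] {p : ℕ} [Fact p.Prime]

theorem sym_three_pres : PresOn ![swap (0 : Fin 3) 1, swap 1 2] 2 := by
  refine presOn_of_list _ ?_ [(.of 0 * .of 0, 1), (.of 0 * (.of 1 * .of 0), .of 1 * (.of 0 * .of 1))] ?_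
    fun G _ g hg hr π hπ => ?_
  · rw [eq_top_iff]
    intro x _
    have h0 : swap (0 : Fin 3) 1 ∈ closure (Set.range ![swap (0 : Fin 3) 1, swap 1 2]) := subset_closure ⟨0, rfl⟩
    have h1 : swap (1 : Fin 3) 2 ∈ closure (Set.range ![swap (0 : Fin 3) 1, swap 1 2]) := subset_closure ⟨1, rfl⟩
    have : ∀ x : Perm (Fin 3), x = 1 ∨ x = swap 0 1 ∨ x = swap 1 2 ∨ x = swap 0 1 * swap 1 2 ∨
      x = swap 1 2 * swap 0 1 ∨ x = swap 0 1 * (swap 1 2 * swap 0 1) := by decide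
    rcases this x with rfl | rfl | rfl | rfl | rfl | rfl
    exacts [one_mem _, h0, h1, mul_mem h0 h1, mul_mem h1 h0, mul_mem h0 (mul_mem h1 h0)]
  · simp only [List.map_cons, Prod.map, map_mul, FreeGroup.lift_apply_of, map_one, holds_cons]
    exact ⟨by decide, by decide, holds_nil⟩
  simp only [List.map_cons, Prod.map, map_mul, FreeGroup.lift_apply_of, map_one, holds_cons] at hr
  obtain ⟨aa, br, -⟩ := hr
  have bb : g 1 * g 1 = 1 := by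
    have : g 1 = g 0 * g 1 * g 0 * (g 0 * g 1)⁻¹ := by rw [mul_assoc (g 0), br]; group
    rw [this, conj_mul, aa]; group
  have aa' : ∀ y, g 0 * (g 0 * y) = y := fun y => by rw [← mul_assoc, aa, one_mul]
  have bb' : ∀ y, g 1 * (g 1 * y) = y := fun y => by rw [← mul_assoc, bb, one_mul]
  have key : ∀ i y, (y = 1 ∨ y = g 0 ∨ y = g 1 ∨ y = g 0 * g 1 ∨ y = g 1 * g 0 ∨ y = g 0 * (g 1 * g 0)) →
      let x := g i * y
      x = 1 ∨ x = g 0 ∨ x = g 1 ∨ x = g 0 * g 1 ∨ x = g 1 * g 0 ∨ x = g 0 * (g 1 * g 0) := by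
    intro i y h
    fin_cases i <;> rcases h with rfl | rfl | rfl | rfl | rfl | rfl <;> simp [aa, bb, aa', bb', br]
    rw [← br, aa']; simp
  have all : ∀ x : G, x = 1 ∨ x = g 0 ∨ x = g 1 ∨ x = g 0 * g 1 ∨ x = g 1 * g 0 ∨ x = g 0 * (g 1 * g 0) := by
    intro x
    induction (hg.ge trivial : x ∈ closure (Set.range g)) using closure_induction_left with
    | one => simp
    | mul_left x hx y _ h => obtain ⟨i, rfl⟩ := hx; exact key i y h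
    | inv_mul_cancel x hx y _ h =>
      obtain ⟨i, rfl⟩ := hx
      have : (g i)⁻¹ = g i := by
        fin_cases i
        exacts [inv_eq_of_mul_eq_one_right aa, inv_eq_of_mul_eq_one_right bb]
      rw [this]; exact key i y h
  rw [injective_iff_map_eq_one]
  intro x hx
  rcases all x with rfl | rfl | rfl | rfl | rfl | rfl
  · rfl
  all_goals simp only [map_mul, hπ] at hx; exact absurd hx (by decide)

theorem add_ind {F : Type*} [Field F] [Algebra (ZMod p) F] {θ : F} (hθ : ∀ t, ∃ f : (ZMod p)[X], aeval θ f = t)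
    {P : F → Prop} (h0 : P 0) (ha : ∀ s t, P s → P t → P (s + t)) (hp : ∀ n : ℕ, P (θ ^ n)) (t : F) : P t := by
  obtain ⟨f, rfl⟩ := hθ t
  induction f using Polynomial.induction_on' with
  | add f g h1 h2 => rw [map_add]; exact ha _ _ h1 h2
  | monomial n a =>
    rw [aeval_monomial, ← ZMod.natCast_zmod_val a, map_natCast]
    induction a.val with
    | zero => simpa using h0
    | succ k ih => rw [Nat.cast_succ, add_mul, one_mul]; exact ha _ _ ih (hp n)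

section core
variable {ι F : Type*} [Field F] {U H : ι → ι → G}
  (h3 : ∀ {i j k l : ι}, i ≠ j → j ≠ k → i ≠ k → l = i ∨ l = j ∨ l = k) (h3' : ∀ i j : ι, ∃ k, i ≠ k ∧ j ≠ k)
  (T3 : ∀ {i j k}, i ≠ j → j ≠ k → i ≠ k → H i j * H j k = H i k)
  (T1 : ∀ {i j k}, i ≠ j → j ≠ k → i ≠ k → Commute (H i j) (H i k))
  (A2 : ∀ {i j k}, i ≠ j → j ≠ k → i ≠ k → Commute (H i k * H j k) (U i j))
include h3 h3' T3 T1 A2

theorem sl3_inv {i j : ι} (h : i ≠ j) : H j i = (H i j)⁻¹ := by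
  obtain ⟨k, h1, h2⟩ := h3' i j
  have := T3 h h2 h1
  rw [← T3 h.symm h1 h2, ← mul_assoc, mul_eq_right] at this
  exact eq_inv_of_mul_eq_one_right this

theorem sl3_comm {i j k l : ι} (h1 : i ≠ j) (h2 : k ≠ l) : Commute (H i j) (H k l) := by
  have Hi := @sl3_inv _ _ _ U H @h3 h3' @T3 @T1 @A2
  have c1 : ∀ {i j k}, i ≠ j → i ≠ k → Commute (H i j) (H i k) := fun {i j k} h1 h2 => by
    by_cases e : j = k
    · rw [e]
    · exact T1 h1 e h2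
  by_cases e : i = k
  · subst e; exact c1 h1 h2
  by_cases e' : i = l
  · subst e'; rw [Hi e]; exact (c1 h1 e).inv_right
  rw [← T3 (Ne.symm e) e' h2, Hi e]
  exact (c1 h1 e).inv_right.mul_right (c1 h1 e')

theorem sl3_shift {i j k : ι} (h1 : i ≠ j) (h2 : j ≠ k) (h4 : i ≠ k) : Shift (H k j) (cu (H i k) (U i j)) := by
  rw [sl3_inv @h3 h3' @T3 @T1 @A2 h2, show (H j k)⁻¹ = (H i k * H j k)⁻¹ * H i k by group]
  exact (shift_cu _ _).mul' fun n => (commute_cu ((Commute.refl _).mul_left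
    (sl3_comm @h3 h3' @T3 @T1 @A2 h2 h4)) (A2 h1 h2 h4) n).inv_left

theorem sl3_final {ζ : F} (h0 : ζ ≠ 0) (hζ : ∀ t, t ≠ 0 → ∃ k : ℕ, ζ ^ k = t) {x : ι → ι → F → G}
    (xa : ∀ {i j}, i ≠ j → ∀ s t, x i j (s + t) = x i j s * x i j t) (x1 : ∀ {i j}, i ≠ j → x i j 1 = U i j)
    (xh : ∀ {i j k}, i ≠ j → j ≠ k → i ≠ k → ∀ t, H i k * x i j t * (H i k)⁻¹ = x i j (ζ * t))
    {Θ : F → Prop} (hΘ : ∀ P : F → Prop, P 0 → (∀ s t, P s → P t → P (s + t)) → (∀ t, Θ t → P t) → ∀ t, P t)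
    (S1 : ∀ {i j k}, i ≠ j → j ≠ k → i ≠ k → ∀ t, Θ t → x i j t * U j k * (x i j t)⁻¹ * (U j k)⁻¹ = x i k t)
    (S2 : ∀ {i j k}, i ≠ j → j ≠ k → i ≠ k → ∀ t, Θ t → Commute (x i j t) (U i k))
    (S3 : ∀ {i j k}, i ≠ j → j ≠ k → i ≠ k → ∀ t, Θ t → Commute (x i j t) (U k j)) :
    ∃ S : StA ι F G, S.x = x ∧ ∀ i j, i ≠ j → ∀ g ∈ S.grp, H i j * g * (H i j)⁻¹ ∈ S.grp := by
  have Hi := @sl3_inv _ _ _ U H @h3 h3' @T3 @T1 @A2
  have x0 : ∀ {i j}, i ≠ j → x i j 0 = 1 := fun h => add_zero_eq (xa h)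
  have xh' : ∀ {i j k}, i ≠ j → j ≠ k → i ≠ k → ∀ t, H k j * x i j t * (H k j)⁻¹ = x i j (ζ * t) :=
    fun h1 h2 h4 t => by
    by_cases ht : t = 0
    · simp [ht, x0 h1]
    · obtain ⟨n, rfl⟩ := hζ t ht
      have := cu_eq (xh h1 h2 h4) 1
      rw [← pow_succ', ← mul_one (ζ ^ n), ← mul_one (ζ ^ (n + 1)), ← this, ← this, x1 h1,
        sl3_shift @h3 h3' @T3 @T1 @A2 h1 h2 h4]
  have xh2 : ∀ {i j}, i ≠ j → ∀ t, H i j * x i j t * (H i j)⁻¹ = x i j (ζ ^ 2 * t) := fun {i j} h1 t => by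
    obtain ⟨k, h4, h2⟩ := h3' i j
    rw [← T3 h4 h2.symm h1, pow_two, mul_assoc ζ, ← xh h1 h2 h4, ← xh' h1 h2 h4]; group
  have tr : ∀ {a : G} {y z : F → G} {θ : F}, θ ≠ 0 → (∀ t, a * y t * a⁻¹ = y (θ * t)) →
      (∀ t, a * z t * a⁻¹ = z (ζ * t)) → z 0 = 1 → (∀ t, Commute (y t) (z 1)) → ∀ t s, Commute (y t) (z s) := by
    intro a y z θ e0 e1 e2 e3 e4 t s
    by_cases hs : s = 0
    · simp [hs, e3]
    obtain ⟨m, rfl⟩ := hζ s hs
    rw [← mul_inv_cancel_left₀ (pow_ne_zero m e0) t, ← mul_one (ζ ^ m), ← cu_eq e1, ← cu_eq e2]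
    exact commute_conj (e4 _) _
  have c2 : ∀ {i j k}, i ≠ j → j ≠ k → i ≠ k → ∀ t s, Commute (x i j t) (x i k s) := fun h1 h2 h4 =>
    tr (pow_ne_zero 2 h0) (xh2 h1) (xh h4 h2.symm h1) (x0 h4) (hΘ _ (by simp [x0 h1])
      (fun s t e1 e2 => by rw [xa h1]; exact e1.mul_left e2) fun t ht => by rw [x1 h4]; exact S2 h1 h2 h4 t ht)
  have c3 : ∀ {i j k}, i ≠ j → j ≠ k → i ≠ k → ∀ t s, Commute (x i j t) (x k j s) := fun h1 h2 h4 =>
    tr (pow_ne_zero 2 h0) (xh2 h1) (xh' h2.symm h1.symm h4.symm) (x0 h2.symm) (hΘ _ (by simp [x0 h1])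
      (fun s t e1 e2 => by rw [xa h1]; exact e1.mul_left e2) fun t ht => by
        rw [x1 h2.symm]; exact S3 h1 h2 h4 t ht)
  refine ⟨⟨x, xa, fun {i j k l} h1 h2 h4 h5 t s => ?_, fun {i j k} h1 h2 h4 t s => ?_⟩, rfl, fun i j h g hg => ?_⟩
  · by_cases e : i = k
    · subst e
      by_cases e' : j = l
      · subst e'; rw [Commute, SemiconjBy, ← xa h1, ← xa h1, add_comm]
      · exact c2 h1 e' h2 t s
    rcases h3 (l := l) h1 h4 e with rfl | rfl | rfl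
    · exact absurd rfl h5
    · exact c3 h1 h4 e t s
    · exact absurd rfl h2
  · have e : ∀ t, x i j t * x j k 1 * (x i j t)⁻¹ * (x j k 1)⁻¹ = x i k t := hΘ _ (by simp [x0 h1, x0 h4])
      (fun s t e1 e2 => by
        rw [xa h1, add_comm, xa h4, ← mul_inv_cancel_right (x i k t) (x i j s), ← (c2 h1 h2 h4 s t).eq, ← e1, ← e2]
        group) fun t ht => by rw [x1 h2]; exact S1 h1 h2 h4 t ht
    by_cases hs : s = 0
    · simp [hs, x0 h2, x0 h4]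
    obtain ⟨m, rfl⟩ := hζ s hs
    have e1 := cu_eq (xh h1 h2 h4) ((ζ ^ m)⁻¹ * t) m
    have e2 := cu_eq (xh' h2 h4.symm h1.symm) 1 m
    have e3 := cu_eq (xh2 h4) ((ζ ^ m)⁻¹ * t) m
    rw [mul_inv_cancel_left₀ hs] at e1
    rw [mul_one] at e2
    rw [show (ζ ^ 2) ^ m * ((ζ ^ m)⁻¹ * t) = t * ζ ^ m by rw [← pow_mul, mul_comm 2, pow_mul]; field_simp] at e3
    rw [← e3, ← e, ← e2]
    conv_lhs => rw [← e1]
    simp only [cu]; group
  · refine StA.conj_mem _ (fun k l t e _ => ?_) hg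
    have iv : ∀ {a : G} {θ : F}, θ ≠ 0 → (∀ t, a * x k l t * a⁻¹ = x k l (θ * t)) →
        a⁻¹ * x k l t * a⁻¹⁻¹ = x k l (θ⁻¹ * t) := fun {a θ} e0 e1 => by
      rw [← mul_inv_cancel_left₀ e0 t, ← e1, inv_mul_cancel_left₀ e0]; group
    obtain ⟨m, m1, m2⟩ := h3' k l
    change H i j * x k l t * (H i j)⁻¹ ∈ _
    suffices ∃ s, H i j * x k l t * (H i j)⁻¹ = x k l s from this.choose_spec ▸ StA.x_mem _ e trivial _
    rcases h3 (l := i) e m2 m1 with rfl | rfl | rfl <;> rcases h3 (l := j) e m2 m1 with rfl | rfl | rfl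
    · exact absurd rfl h
    · exact ⟨_, xh2 h t⟩
    · exact ⟨_, xh e m2 m1 t⟩
    · exact ⟨_, by rw [Hi e]; exact iv (pow_ne_zero 2 h0) (xh2 e)⟩
    · exact absurd rfl h
    · exact ⟨_, by rw [Hi m2.symm]; exact iv h0 (xh' e m2 m1)⟩
    · exact ⟨_, by rw [Hi m1]; exact iv h0 (xh e m2 m1)⟩
    · exact ⟨_, xh' e m2 m1 t⟩
    · exact absurd rfl h

theorem sl3_big [Algebra (ZMod p) F] {ζ : F} (h0 : ζ ≠ 0) (hζ : ∀ t, t ≠ 0 → ∃ k : ℕ, ζ ^ k = t)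
    (hθ : ∀ t, ∃ f : (ZMod p)[X], aeval (ζ ^ 3) f = t) {f : (ZMod p)[X]} (hf : aeval (ζ ^ 3) f = ζ)
    (U3 : ∀ {i j}, i ≠ j → U i j ^ p = 1)
    (U4 : ∀ {i j k}, i ≠ j → j ≠ k → i ≠ k → PW (H i k ^ 3) (U i j) (minpoly (ZMod p) (ζ ^ 3)) = 1)
    (U5 : ∀ {i j k}, i ≠ j → j ≠ k → i ≠ k → H i k * U i j * (H i k)⁻¹ = PW (H i k ^ 3) (U i j) f)
    (S1 : ∀ {i j k}, i ≠ j → j ≠ k → i ≠ k → U i j * U j k * (U i j)⁻¹ * (U j k)⁻¹ = U i k)
    (S2 : ∀ {i j k}, i ≠ j → j ≠ k → i ≠ k → Commute (U i j) (U i k))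
    (S3 : ∀ {i j k}, i ≠ j → j ≠ k → i ≠ k → Commute (U i j) (U k j)) :
    ∃ S : StA ι F G, (∀ i j, i ≠ j → ∀ g ∈ S.grp, H i j * g * (H i j)⁻¹ ∈ S.grp) ∧
      (∀ i j, i ≠ j → S.x i j 1 = U i j) ∧
      ∀ i j k, i ≠ j → j ≠ k → i ≠ k → ∀ t, H i k * S.x i j t * (H i k)⁻¹ = S.x i j (ζ * t) := by
  have Hi := @sl3_inv _ _ _ U H @h3 h3' @T3 @T1 @A2
  have Hc := @sl3_comm _ _ _ U H @h3 h3' @T3 @T1 @A2
  have s2 := @sl3_shift _ _ _ U H @h3 h3' @T3 @T1 @A2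
  choose κ k1 k2 using h3'
  have hκ : ∀ {i j k}, i ≠ j → j ≠ k → i ≠ k → κ i j = k := fun {i j k} e1 e2 e3 => by
    rcases h3 (l := κ i j) e1 e2 e3 with e | e | e
    exacts [absurd e.symm (k1 i j), absurd e.symm (k2 i j), e]
  let W : ι → ι → ℕ → G := fun i j => cu (H i (κ i j) ^ 3) (U i j)
  have W0 : ∀ i j, W i j 0 = U i j := fun i j => cu_zero _ _
  have WV : ∀ {i j k}, i ≠ j → j ≠ k → i ≠ k → ∀ n, W i j n = cu (H i k) (U i j) (n * 3) := fun e1 e2 e3 n => by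
    simp only [W, hκ e1 e2 e3, cu, ← pow_mul, mul_comm 3]
  have sh : ∀ {a b c : G} {i j k}, i ≠ j → j ≠ k → i ≠ k → Shift a (cu (H i k) (U i j)) →
      Shift b (cu (H i k) (U i j)) → Shift c (cu (H i k) (U i j)) → Shift (a * b * c) (W i j) :=
    fun e1 e2 e3 ha hb hc n => by
      rw [WV e1 e2 e3, WV e1 e2 e3, add_mul, one_mul, ← ha, ← hb, ← hc]; group
  have cn : ∀ {a b : G} {i j k}, i ≠ j → j ≠ k → i ≠ k → Shift a (cu (H i k) (U i j)) →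
      Shift b (cu (H i k) (U i j)) → ∀ n, Commute (b⁻¹ * a) (W i j n) := fun e1 e2 e3 ha hb n => by
    rw [WV e1 e2 e3]
    exact commute_of_conj_eq ((ha _).trans (hb _).symm)
  have a2 : ∀ {i j k}, i ≠ j → j ≠ k → i ≠ k → Shift (H i j * H k j) (W i j) := fun e1 e2 e3 => by
    rw [← T3 e3 e2.symm e1]; exact sh e1 e2 e3 (shift_cu _ _) (s2 e1 e2 e3) (s2 e1 e2 e3)
  have b2 : ∀ {i j k}, i ≠ j → j ≠ k → i ≠ k → ∀ n, Commute (H i j * H k j) (W i k n) := fun e1 e2 e3 => by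
    rw [(Hc e1 e2.symm).eq, Hi e2]; exact cn e3 e2.symm e1 (shift_cu _ _) (s2 e3 e2.symm e1)
  have a3 : ∀ {i j k}, i ≠ j → j ≠ k → i ≠ k → Shift (H i j * H i k) (W i j) := fun e1 e2 e3 => by
    rw [← T3 e3 e2.symm e1]; exact sh e1 e2 e3 (shift_cu _ _) (s2 e1 e2 e3) (shift_cu _ _)
  have b3 : ∀ {i j k}, i ≠ j → j ≠ k → i ≠ k → ∀ n, Commute (H i j * H i k) (W k j n) := fun e1 e2 e3 => by
    rw [(Hc e1 e3).eq, Hi e3.symm]; exact cn e2.symm e1.symm e3.symm (s2 e2.symm e1.symm e3.symm) (shift_cu _ _)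
  have v2 : ∀ {i j k}, i ≠ j → j ≠ k → i ≠ k → ∀ n m, Commute (W i j n) (W i k m) := fun e1 e2 e3 n m => by
    rw [← (a2 e1 e2 e3).conj (b2 e3 e2.symm e1) n m, ← (a2 e3 e2.symm e1).conj' (b2 e1 e2 e3) n m, W0, W0]
    exact commute_conj (S2 e1 e2 e3) _
  have v3 : ∀ {i j k}, i ≠ j → j ≠ k → i ≠ k → ∀ n, Commute (W i j n) (U k j) := fun {i j k} e1 e2 e3 n => by
    have := commute_conj (S3 e1 e2 e3) ((H i j * H i k) ^ n)
    rwa [← W0, ← W0, (a3 e1 e2 e3).pow, ((b3 e1 e2 e3 0).pow_left n).eq, mul_inv_cancel_right, zero_add,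
      W0] at this
  have v1 : ∀ {i j k}, i ≠ j → j ≠ k → i ≠ k → ∀ n, W i j n * U j k * (W i j n)⁻¹ * (U j k)⁻¹ = W i k n :=
    fun {i j k} e1 e2 e3 n => by
    have c1 : Commute (H i j * H i k) (W j k 0) := by
      rw [Hi (i := j) e1.symm]; exact cn e2 e3.symm e1.symm (s2 e2 e3.symm e1.symm) (shift_cu _ _) 0
    have c2 : Shift (H i j * H i k) (W i k) := by
      rw [← T3 e1 e2 e3, ← mul_assoc]; exact sh e3 e2.symm e1 (shift_cu _ _) (shift_cu _ _) (s2 e3 e2.symm e1)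
    have c3 : (H i j * H i k) ^ n * U j k * ((H i j * H i k) ^ n)⁻¹ = U j k := by
      rw [← W0, (c1.pow_left n).eq, mul_inv_cancel_right]
    rw [← zero_add n, ← (a3 e1 e2 e3).pow, ← c2.pow, W0, W0, ← S1 e1 e2 e3]
    conv_lhs => rw [← c3]
    group
  have v0 : ∀ {i j}, i ≠ j → ∀ n m, Commute (W i j n) (W i j m) := fun {i j} h n m => by
    rw [← v1 (k1 i j) (k2 i j).symm h m]
    exact commute_comm (v2 h (k2 i j) (k1 i j) _ _) (v3 h (k2 i j) (k1 i j) _)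
  choose! x xa xh xf using fun i j (h : i ≠ j) => exists_mod (v0 h) (U3 h) hθ (U4 h (k2 i j) (k1 i j))
  have x1 : ∀ {i j}, i ≠ j → x i j 1 = U i j := fun h => by simpa [PW_one] using xf _ _ h 1
  have xw : ∀ {i j}, i ≠ j → ∀ n, x i j ((ζ ^ 3) ^ n) = W i j n := fun {i j} h n => by
    rw [← mul_one (_ ^ n), ← cu_eq (xh i j h), x1 h]
  have xh' : ∀ {i j k}, i ≠ j → j ≠ k → i ≠ k → ∀ t, H i k * x i j t * (H i k)⁻¹ = x i j (ζ * t) :=
    fun {i j k} e1 e2 e3 t => by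
    obtain ⟨g, rfl⟩ := hθ t
    have := xf i j e1 f
    rw [hf] at this
    rw [mul_comm ζ, ← PW_eq (xa i j e1) (xh i j e1), this, xf i j e1, hκ e1 e2 e3, ← U5 e1 e2 e3,
      PW_conj, ← conj_pow, mul_inv_cancel_right]
  obtain ⟨S, rfl, hS⟩ := sl3_final @h3 (fun i j => ⟨κ i j, k1 i j, k2 i j⟩) @T3 @T1 @A2 h0 hζ (x := x)
    (fun h => xa _ _ h) x1 xh' (Θ := fun t => ∃ n, t = (ζ ^ 3) ^ n)
    (fun P p0 pa pt => add_ind hθ p0 pa fun n => pt _ ⟨n, rfl⟩)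
    (by rintro i j k e1 e2 e3 _ ⟨n, rfl⟩; rw [xw e1, xw e3, v1 e1 e2 e3])
    (by rintro i j k e1 e2 e3 _ ⟨n, rfl⟩; rw [xw e1, ← W0]; exact v2 e1 e2 e3 _ _)
    (by rintro i j k e1 e2 e3 _ ⟨n, rfl⟩; rw [xw e1]; exact v3 e1 e2 e3 _)
  exact ⟨S, hS, fun _ _ => x1, fun _ _ _ => xh'⟩

theorem sl3_four [Algebra (ZMod 2) F] {ζ : F} (h0 : ζ ≠ 0) (hζ : ∀ t, t ≠ 0 → ∃ k : ℕ, ζ ^ k = t)
    (h1 : ζ ≠ 1) (h2 : ζ ^ 2 = 1 + ζ) (U3 : ∀ {i j}, i ≠ j → U i j ^ 2 = 1)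
    (U4 : ∀ {i j k}, i ≠ j → j ≠ k → i ≠ k → cu (H i k) (U i j) 2 = U i j * cu (H i k) (U i j) 1)
    (S1 : ∀ {i j k}, i ≠ j → j ≠ k → i ≠ k → U i j * U j k * (U i j)⁻¹ * (U j k)⁻¹ = U i k)
    (S2 : ∀ {i j k}, i ≠ j → j ≠ k → i ≠ k → Commute (U i j) (U i k))
    (S3 : ∀ {i j k}, i ≠ j → j ≠ k → i ≠ k → Commute (U i j) (U k j))
    (S1' : ∀ {i j k}, i ≠ j → j ≠ k → i ≠ k →
      cu (H i k) (U i j) 1 * U j k * (cu (H i k) (U i j) 1)⁻¹ * (U j k)⁻¹ = cu (H i j) (U i k) 1)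
    (S2' : ∀ {i j k}, i ≠ j → j ≠ k → i ≠ k → Commute (cu (H i k) (U i j) 1) (U i k))
    (S3' : ∀ {i j k}, i ≠ j → j ≠ k → i ≠ k → Commute (cu (H i k) (U i j) 1) (U k j)) :
    ∃ S : StA ι F G, (∀ i j, i ≠ j → ∀ g ∈ S.grp, H i j * g * (H i j)⁻¹ ∈ S.grp) ∧
      (∀ i j, i ≠ j → S.x i j 1 = U i j) ∧
      ∀ i j k, i ≠ j → j ≠ k → i ≠ k → ∀ t, H i k * S.x i j t * (H i k)⁻¹ = S.x i j (ζ * t) := by
  choose κ k1 k2 using h3'
  have hκ : ∀ {i j k}, i ≠ j → j ≠ k → i ≠ k → κ i j = k := fun {i j k} e1 e2 e3 => by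
    rcases h3 (l := κ i j) e1 e2 e3 with e | e | e
    exacts [absurd e.symm (k1 i j), absurd e.symm (k2 i j), e]
  have hm : minpoly (ZMod 2) ζ = Polynomial.X ^ 2 * 1 + (1 + Polynomial.X * 1) := by
    refine (minpoly.eq_of_irreducible_of_monic ?_ ?_ (by monicity!)).symm
    · refine (Monic.irreducible_iff_roots_eq_zero_of_degree_le_three (by monicity!) ?_ ?_).mpr ?_
      · rw [show (Polynomial.X ^ 2 * 1 + (1 + Polynomial.X * 1) : (ZMod 2)[X]).natDegree = 2 by compute_degree!]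
      · rw [show (Polynomial.X ^ 2 * 1 + (1 + Polynomial.X * 1) : (ZMod 2)[X]).natDegree = 2 by compute_degree!]; norm_num
      · refine Multiset.eq_zero_of_forall_notMem fun a ha => ?_
        have := (mem_roots'.mp ha).2
        simp only [IsRoot.def, eval_add, eval_mul, eval_pow, eval_X, eval_one] at this
        clear ha
        revert a
        decide
    · have : CharP F 2 := charP_of_injective_algebraMap (algebraMap (ZMod 2) F).injective 2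
      simp [h2, CharTwo.add_self_eq_zero]
  have v0 : ∀ {i j k}, i ≠ j → j ≠ k → i ≠ k → ∀ n m, Commute (cu (H i k) (U i j) n) (cu (H i k) (U i j) m) :=
    fun e1 e2 e3 => baum_one (by
      rw [← S1 e3 e2.symm e1]
      conv_rhs => rw [S1 e3 e2.symm e1]
      exact (commute_comm (S2' e1 e2 e3) (S3' e1 e2 e3)).symm) (U4 e1 e2 e3)
  have hθ : ∀ t, ∃ f : (ZMod 2)[X], aeval ζ f = t := fun t => by
    by_cases ht : t = 0
    · exact ⟨0, by simp [ht]⟩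
    · obtain ⟨n, rfl⟩ := hζ t ht
      exact ⟨Polynomial.X ^ n, by simp⟩
  choose! x xa xh xf using fun i j (h : i ≠ j) => exists_mod (v0 h (k2 i j) (k1 i j)) (U3 h) hθ (by
    have e := PW_add (v0 h (k2 i j) (k1 i j)) (U3 h)
    rw [hm, e, e, pow_two, mul_assoc Polynomial.X, PW_X_mul, PW_X_mul, PW_one, ← cu_one _ (U i j), ← cu_succ,
      ← U4 h (k2 i j) (k1 i j), ← pow_two, cu, conj_pow, U3 h]
    simp)
  have x1 : ∀ {i j}, i ≠ j → x i j 1 = U i j := fun h => by simpa [PW_one] using xf _ _ h 1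
  have xh' : ∀ {i j k}, i ≠ j → j ≠ k → i ≠ k → ∀ t, H i k * x i j t * (H i k)⁻¹ = x i j (ζ * t) :=
    fun {i j k} e1 e2 e3 t => hκ e1 e2 e3 ▸ xh i j e1 t
  have xz : ∀ {i j k}, i ≠ j → j ≠ k → i ≠ k → x i j ζ = cu (H i k) (U i j) 1 := fun e1 e2 e3 => by
    rw [← x1 e1, cu_eq (xh' e1 e2 e3)]; simp
  obtain ⟨S, rfl, hS⟩ := sl3_final @h3 (fun i j => ⟨κ i j, k1 i j, k2 i j⟩) @T3 @T1 @A2 h0 hζ (x := x)
    (fun h => xa _ _ h) x1 xh' (Θ := fun t => t = 1 ∨ t = ζ)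
    (fun P p0 pa pt => add_ind hθ p0 pa fun n => by
      induction n using Nat.twoStepInduction with
      | zero => exact pt _ (by simp)
      | one => exact pt _ (by simp)
      | more n a b => rw [pow_add, h2, mul_add, mul_one, ← pow_succ]; exact pa _ _ a b)
    (by
      rintro i j k e1 e2 e3 _ (rfl | rfl)
      · rw [x1 e1, x1 e3, S1 e1 e2 e3]
      · rw [xz e1 e2 e3, xz e3 e2.symm e1, S1' e1 e2 e3])
    (by
      rintro i j k e1 e2 e3 _ (rfl | rfl)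
      · rw [x1 e1]; exact S2 e1 e2 e3
      · rw [xz e1 e2 e3]; exact S2' e1 e2 e3)
    (by
      rintro i j k e1 e2 e3 _ (rfl | rfl)
      · rw [x1 e1]; exact S3 e1 e2 e3
      · rw [xz e1 e2 e3]; exact S3' e1 e2 e3)
  exact ⟨S, hS, fun _ _ => x1, fun _ _ _ => xh'⟩

end core

variable {F : Type*} [Field F]

/-- signed permutation matrices -/
def spm : Perm (Fin 3) →* SpecialLinearGroup (Fin 3) F where
  toFun τ := ⟨((Perm.sign τ : ℤ) : F) • permMatrixHom τ, by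
    rw [det_smul]
    rcases Int.units_eq_one_or (Perm.sign τ) with h | h <;> simp [h] <;> norm_num⟩
  map_one' := Subtype.ext (by simp)
  map_mul' a b := Subtype.ext (by
    change _ = (((Perm.sign a : ℤ) : F) • permMatrixHom a) * (((Perm.sign b : ℤ) : F) • permMatrixHom b)
    simp [smul_smul, mul_comm])

theorem slρ_spm (τ : Perm (Fin 3)) (v : Fin 3 → F) (i : Fin 3) :
    slρ (spm τ) v i = ((Perm.sign τ : ℤ) : F) * v (τ.symm i) := by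
  rw [slρ_apply]
  change ((((Perm.sign τ : ℤ) : F) • permMatrixHom τ) *ᵥ v) i = _
  rw [smul_mulVec, permMatrixHom_apply, permMatrix_mulVec]; rfl

theorem spm_tr (τ : Perm (Fin 3)) {i j : Fin 3} (h : i ≠ j) (t : F) :
    spm τ * tr i j t * (spm τ)⁻¹ = tr (τ i) (τ j) t := by
  rw [mul_inv_eq_iff_eq_mul]
  refine sl_ext' fun v k => ?_
  simp only [map_mul, Module.End.mul_apply, slρ_spm, slρ_tr _ _ h, slρ_tr _ _ (τ.injective.ne h), Pi.add_apply,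
    Pi.smul_apply, Pi.single_apply, Equiv.symm_apply_eq, symm_apply_apply, smul_eq_mul]
  ring

theorem spm_dg (τ : Perm (Fin 3)) {a : F} (ha : a ≠ 0) {i j : Fin 3} (h : i ≠ j) :
    spm τ * dg a i j * (spm τ)⁻¹ = dg a (τ i) (τ j) := by
  rw [mul_inv_eq_iff_eq_mul]
  refine sl_ext' fun v k => ?_
  simp only [map_mul, Module.End.mul_apply, slρ_spm, slρ_dg ha h, slρ_dg ha (τ.injective.ne h), dv,
    Equiv.symm_apply_eq]
  ring

theorem spm_swap : spm (swap 0 1) = tr (0 : Fin 3) 1 (1 : F) * (tr 1 0 1)⁻¹ * tr 0 1 1 *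
    (tr 1 2 1 * (tr 2 1 1)⁻¹ * tr 1 2 1) ^ 2 := by
  have ng : ∀ {i j : Fin 3}, i ≠ j → (tr i j (1 : F))⁻¹ = tr i j (-1) := fun h => ((slSt _ F).x_neg h 1).symm
  rw [ng (by decide), ng (by decide), pow_two]
  refine sl_ext' fun v k => ?_
  simp only [map_mul, Module.End.mul_apply, slρ_spm, slρ_tr (0 : Fin 3) 1 (by decide),
    slρ_tr (1 : Fin 3) 0 (by decide), slρ_tr (1 : Fin 3) 2 (by decide), slρ_tr (2 : Fin 3) 1 (by decide)]
  fin_cases k <;> simp [swap_apply_def]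

/-- relators for `SL₃` -/
noncomputable def sl3Rel (m f : (ZMod p)[X]) (e : Bool) (U H : Fin 3 → Fin 3 → G) (z : G) : List (G × G) :=
  [(H 0 1 * H 1 2, H 0 2), (H 0 1 * H 0 2, H 0 2 * H 0 1), (H 0 2 * H 1 2 * U 0 1, U 0 1 * (H 0 2 * H 1 2)),
   (U 0 1 ^ p, 1), (U 0 1 * U 1 2 * (U 0 1)⁻¹ * (U 1 2)⁻¹, U 0 2), (U 0 1 * U 0 2, U 0 2 * U 0 1),
   (U 0 1 * U 2 1, U 2 1 * U 0 1), (z, U 0 1 * (U 1 0)⁻¹ * U 0 1 * (U 1 2 * (U 2 1)⁻¹ * U 1 2) ^ 2)] ++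
  if e then [(cu (H 0 2) (U 0 1) 2, U 0 1 * cu (H 0 2) (U 0 1) 1),
    (cu (H 0 2) (U 0 1) 1 * U 1 2 * (cu (H 0 2) (U 0 1) 1)⁻¹ * (U 1 2)⁻¹, cu (H 0 1) (U 0 2) 1),
    (cu (H 0 2) (U 0 1) 1 * U 0 2, U 0 2 * cu (H 0 2) (U 0 1) 1),
    (cu (H 0 2) (U 0 1) 1 * U 2 1, U 2 1 * cu (H 0 2) (U 0 1) 1)]
  else [(PW (H 0 2 ^ 3) (U 0 1) m, 1), (H 0 2 * U 0 1 * (H 0 2)⁻¹, PW (H 0 2 ^ 3) (U 0 1) f)]

theorem map_sl3Rel {K : Type*} [Group K] (φ : G →* K) (m f : (ZMod p)[X]) (e : Bool)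
    (U H : Fin 3 → Fin 3 → G) (z : G) : (sl3Rel m f e U H z).map (Prod.map φ φ) =
      sl3Rel m f e (fun i j => φ (U i j)) (fun i j => φ (H i j)) (φ z) := by
  cases e <;> simp [sl3Rel, map_PW, map_cu]

theorem cu_conj (g h u : G) (n : ℕ) : cu (g * h * g⁻¹) (g * u * g⁻¹) n = g * cu h u n * g⁻¹ :=
  (map_cu (MulAut.conj g).toMonoidHom h u n).symm

theorem sl3_of_rel [Algebra (ZMod p) F] {ζ : F} (z0 : ζ ≠ 0) (z2 : ∀ t, t ≠ 0 → ∃ k : ℕ, ζ ^ k = t)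
    {f : (ZMod p)[X]} {e : Bool} (he : if e then p = 2 ∧ ζ ≠ 1 ∧ ζ ^ 2 = 1 + ζ else
      (∀ t, ∃ f : (ZMod p)[X], aeval (ζ ^ 3) f = t) ∧ aeval (ζ ^ 3) f = ζ)
    (ψ : Perm (Fin 3) →* G) {U H : Fin 3 → Fin 3 → G}
    (hU : ∀ τ i j, i ≠ j → ψ τ * U i j * (ψ τ)⁻¹ = U (τ i) (τ j))
    (hH : ∀ τ i j, i ≠ j → ψ τ * H i j * (ψ τ)⁻¹ = H (τ i) (τ j))
    (hg : ψ.range ⊔ closure {U 0 1, H 0 1} = ⊤)
    (hr : Holds (sl3Rel (minpoly (ZMod p) (ζ ^ 3)) f e U H (ψ (swap 0 1)))) :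
    ∃ S : StA (Fin 3) F G, S.grp = ⊤ ∧ ∀ i j k, i ≠ j → j ≠ k → i ≠ k →
      ∀ n, S.x i j (ζ ^ n) = cu (H i k) (U i j) n := by
  simp only [sl3Rel, holds_append, holds_cons, holds_nil, and_true] at hr
  obtain ⟨⟨T3, T1, A2, U3, S1, S2, S3, K1⟩, E⟩ := hr
  have all : ∀ {i j k : Fin 3}, i ≠ j → j ≠ k → i ≠ k → ∃ τ : Perm (Fin 3), τ 0 = i ∧ τ 1 = j ∧ τ 2 = k :=
    fun e1 e2 e3 => by
    obtain ⟨τ, hτ⟩ := Perm.exists_extending_pair id _ Function.injective_id (inj3 e1 e2 e3)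
    exact ⟨τ, hτ 0, hτ 1, hτ 2⟩
  have u01 := fun τ => (hU τ 0 1 (by decide)).symm
  have u02 := fun τ => (hU τ 0 2 (by decide)).symm
  have u12 := fun τ => (hU τ 1 2 (by decide)).symm
  have u21 := fun τ => (hU τ 2 1 (by decide)).symm
  have h01 := fun τ => (hH τ 0 1 (by decide)).symm
  have h02 := fun τ => (hH τ 0 2 (by decide)).symm
  have h12 := fun τ => (hH τ 1 2 (by decide)).symm
  have h3 : ∀ {i j k l : Fin 3}, i ≠ j → j ≠ k → i ≠ k → l = i ∨ l = j ∨ l = k := by decide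
  have h3' : ∀ i j : Fin 3, ∃ k, i ≠ k ∧ j ≠ k := by decide
  have t3 : ∀ {i j k}, i ≠ j → j ≠ k → i ≠ k → H i j * H j k = H i k :=
    fun e1 e2 e3 => by
      obtain ⟨τ, rfl, rfl, rfl⟩ := all e1 e2 e3
      rw [h01, h02, h12, ← T3]; group
  have t1 : ∀ {i j k}, i ≠ j → j ≠ k → i ≠ k → Commute (H i j) (H i k) :=
    fun e1 e2 e3 => by
      obtain ⟨τ, rfl, rfl, rfl⟩ := all e1 e2 e3
      rw [h01, h02]; exact commute_conj T1 _
  have a2 : ∀ {i j k}, i ≠ j → j ≠ k → i ≠ k → Commute (H i k * H j k) (U i j) :=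
    fun e1 e2 e3 => by
      obtain ⟨τ, rfl, rfl, rfl⟩ := all e1 e2 e3
      rw [h02, h12, u01, conj_mul]; exact commute_conj A2 _
  have u3 : ∀ {i j}, i ≠ j → U i j ^ p = 1 := fun {i j} h => by
    obtain ⟨k, k1, k2⟩ := h3' i j
    obtain ⟨τ, rfl, rfl, rfl⟩ := all h k2 k1
    rw [u01, conj_pow, U3]; simp
  have s1 : ∀ {i j k}, i ≠ j → j ≠ k → i ≠ k → U i j * U j k * (U i j)⁻¹ * (U j k)⁻¹ = U i k :=
    fun e1 e2 e3 => by
      obtain ⟨τ, rfl, rfl, rfl⟩ := all e1 e2 e3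
      rw [u01, u02, u12, ← S1]; group
  have s2 : ∀ {i j k}, i ≠ j → j ≠ k → i ≠ k → Commute (U i j) (U i k) :=
    fun e1 e2 e3 => by
      obtain ⟨τ, rfl, rfl, rfl⟩ := all e1 e2 e3
      rw [u01, u02]; exact commute_conj S2 _
  have s3 : ∀ {i j k}, i ≠ j → j ≠ k → i ≠ k → Commute (U i j) (U k j) :=
    fun e1 e2 e3 => by
      obtain ⟨τ, rfl, rfl, rfl⟩ := all e1 e2 e3
      rw [u01, u21]; exact commute_conj S3 _
  obtain ⟨S, hS, x1, xh⟩ : ∃ S : StA (Fin 3) F G, (∀ i j, i ≠ j → ∀ g ∈ S.grp, H i j * g * (H i j)⁻¹ ∈ S.grp) ∧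
      (∀ i j, i ≠ j → S.x i j 1 = U i j) ∧
      ∀ i j k, i ≠ j → j ≠ k → i ≠ k → ∀ t, H i k * S.x i j t * (H i k)⁻¹ = S.x i j (ζ * t) := by
    cases e
    · simp only [Bool.false_eq_true, if_false, holds_cons, holds_nil, and_true] at E he
      exact sl3_big @h3 h3' @t3 @t1 @a2 z0 z2 he.1 he.2 u3
        (fun e1 e2 e3 => by
          obtain ⟨τ, rfl, rfl, rfl⟩ := all e1 e2 e3
          rw [h02, u01, conj_pow, ← PW_conj, E.1]; simp)
        (fun e1 e2 e3 => by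
          obtain ⟨τ, rfl, rfl, rfl⟩ := all e1 e2 e3
          rw [h02, u01, conj_pow, ← PW_conj, ← E.2]; group) s1 s2 s3
    · simp only [if_true, holds_cons, holds_nil, and_true] at E he
      obtain ⟨rfl, e1, e2⟩ := he
      exact sl3_four @h3 h3' @t3 @t1 @a2 z0 z2 e1 e2 u3
        (fun e1 e2 e3 => by
          obtain ⟨τ, rfl, rfl, rfl⟩ := all e1 e2 e3
          rw [h02, u01, cu_conj, cu_conj, E.1]; group) s1 s2 s3
        (fun e1 e2 e3 => by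
          obtain ⟨τ, rfl, rfl, rfl⟩ := all e1 e2 e3
          rw [h02, u01, h01, u02, u12, cu_conj, cu_conj, ← E.2.1]; group)
        (fun e1 e2 e3 => by
          obtain ⟨τ, rfl, rfl, rfl⟩ := all e1 e2 e3
          rw [h02, u01, u02, cu_conj]; exact commute_conj E.2.2.1 _)
        (fun e1 e2 e3 => by
          obtain ⟨τ, rfl, rfl, rfl⟩ := all e1 e2 e3
          rw [h02, u01, u21, cu_conj]; exact commute_conj E.2.2.2 _)
  have xc : ∀ i j k, i ≠ j → j ≠ k → i ≠ k → ∀ n, S.x i j (ζ ^ n) = cu (H i k) (U i j) n :=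
    fun i j k e1 e2 e3 n => by rw [← x1 i j e1, cu_eq (xh i j k e1 e2 e3), mul_one]
  refine ⟨S, ?_, xc⟩
  have xm : ∀ {i j}, i ≠ j → ∀ t, S.x i j t ∈ S.grp := fun h t => S.x_mem h trivial t
  have um : ∀ {i j}, i ≠ j → U i j ∈ S.grp := fun h => x1 _ _ h ▸ xm h 1
  have nψ : ∀ τ, ∀ g ∈ S.grp, ψ τ * g * (ψ τ)⁻¹ ∈ S.grp := fun τ g hg => by
    refine S.conj_mem (fun i j t e _ => ?_) hg
    by_cases ht : t = 0
    · simp [ht, S.x_zero e]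
    obtain ⟨n, rfl⟩ := z2 t ht
    obtain ⟨k, k1, k2⟩ := h3' i j
    rw [xc i j k e k2 k1, ← cu_conj, hU _ _ _ e, hH _ _ _ k1,
      ← xc _ _ _ (τ.injective.ne e) (τ.injective.ne k2) (τ.injective.ne k1)]
    exact xm (τ.injective.ne e) _
  have nm : ∀ a : G, (∀ g ∈ S.grp, a * g * a⁻¹ ∈ S.grp) → (∀ g ∈ S.grp, a⁻¹ * g * a⁻¹⁻¹ ∈ S.grp) →
      a ∈ normalizer (S.grp : Set G) := fun a h1 h2 => mem_normalizer_iff.mpr fun g =>
    ⟨h1 g, fun h => by simpa [mul_assoc] using h2 _ h⟩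
  have : S.grp.Normal := normalizer_eq_top_iff.mp (by
    rw [eq_top_iff, ← hg, sup_le_iff, closure_le, Set.pair_subset_iff]
    refine ⟨?_, le_normalizer (um (by decide)), nm _ (hS _ _ (by decide)) ?_⟩
    · rintro _ ⟨τ, rfl⟩
      exact nm _ (nψ τ) (map_inv ψ τ ▸ nψ τ⁻¹)
    · rw [← sl3_inv @h3 h3' @t3 @t1 @a2 (by decide)]; exact hS _ _ (by decide))
  have hψ : ∀ τ, ψ τ ∈ S.grp := fun τ => by
    have h0 : ψ (swap 0 1) ∈ S.grp := K1 ▸ mul_mem (mul_mem (mul_mem (um (by decide)) (inv_mem (um (by decide))))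
      (um (by decide))) (pow_mem (mul_mem (mul_mem (um (by decide)) (inv_mem (um (by decide)))) (um (by decide))) _)
    have : closure (Set.range ![swap (0 : Fin 3) 1, swap 1 2]) ≤ S.grp.comap ψ := by
      rw [closure_le]
      rintro _ ⟨i, rfl⟩
      fin_cases i
      · exact h0
      · have := nψ (swap 0 2) _ h0
        rw [← map_inv, ← map_mul, ← map_mul, show swap (0 : Fin 3) 2 * swap 0 1 * (swap 0 2)⁻¹ = swap 1 2 by
          decide] at this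
        exact this
    exact this (sym_three_pres.1.ge trivial)
  rw [eq_top_iff, ← hg, sup_le_iff, closure_le, Set.pair_subset_iff]
  refine ⟨by rintro _ ⟨τ, rfl⟩; exact hψ τ, um (by decide), ?_⟩
  have q1 : ∀ τ : Perm (Fin 3), QuotientGroup.mk' S.grp (H (τ 0) (τ 1)) = QuotientGroup.mk' S.grp (H 0 1) := fun τ => by
    rw [h01, map_mul, map_mul, map_inv, show QuotientGroup.mk' S.grp (ψ τ) = 1 from
      (QuotientGroup.eq_one_iff _).mpr (hψ τ)]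
    simp
  have q2 := congrArg (QuotientGroup.mk' S.grp) T3
  rw [map_mul, show H 0 2 = H (swap 1 2 0) (swap 1 2 1) from rfl, q1, mul_eq_left,
    show H 1 2 = H ((swap 0 1 * swap 1 2 : Perm (Fin 3)) 0) ((swap 0 1 * swap 1 2 : Perm (Fin 3)) 1) from rfl,
    q1] at q2
  exact (QuotientGroup.eq_one_iff _).mp q2

theorem sl3_rel [Algebra (ZMod p) F] {ζ : F} (z0 : ζ ≠ 0) {f : (ZMod p)[X]} {e : Bool}
    (he : if e then p = 2 ∧ ζ ≠ 1 ∧ ζ ^ 2 = 1 + ζ else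
      (∀ t, ∃ f : (ZMod p)[X], aeval (ζ ^ 3) f = t) ∧ aeval (ζ ^ 3) f = ζ)
    {U H : Fin 3 → Fin 3 → SpecialLinearGroup (Fin 3) F} (hU : ∀ {i j}, i ≠ j → U i j = tr i j 1)
    (hH : ∀ {i j}, i ≠ j → H i j = dg ζ i j) :
    Holds (sl3Rel (minpoly (ZMod p) (ζ ^ 3)) f e U H (spm (swap 0 1))) := by
  have : CharP F p := charP_of_injective_algebraMap (algebraMap (ZMod p) F).injective p
  have h1 : (0 : Fin 3) ≠ 1 := by decide
  have h2 : (0 : Fin 3) ≠ 2 := by decide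
  have h4 : (1 : Fin 3) ≠ 2 := by decide
  have ad : ∀ s t : F, tr (0 : Fin 3) 1 (s + t) = tr 0 1 s * tr 0 1 t := (slSt _ F).add h1
  have rl : ∀ t, tr (0 : Fin 3) 1 (t : F) * tr 1 2 1 * (tr 0 1 t)⁻¹ * (tr 1 2 1)⁻¹ = tr 0 2 t := fun t =>
    ((slSt _ F).rel h1 h4 h2 t 1).trans (by rw [mul_one]; rfl)
  have cm := @StA.comm _ _ _ _ _ (slSt (Fin 3) F)
  have d1 : ∀ t, dg ζ 0 2 * tr (0 : Fin 3) 1 t * (dg ζ 0 2)⁻¹ = tr 0 1 (ζ * t) := fun t => by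
    rw [dg_tr z0 h2 h1]; simp [dv]
  have d2 : ∀ t, dg ζ 0 1 * tr (0 : Fin 3) 2 t * (dg ζ 0 1)⁻¹ = tr 0 2 (ζ * t) := fun t => by
    rw [dg_tr z0 h1 h2]; simp [dv]
  have d3 : ∀ t, dg ζ 0 2 ^ 3 * tr (0 : Fin 3) 1 t * (dg ζ 0 2 ^ 3)⁻¹ = tr 0 1 (ζ ^ 3 * t) := fun t =>
    cu_eq d1 t 3
  simp only [sl3Rel, holds_append, holds_cons, holds_nil, and_true, hU h1, hU h1.symm, hU h2, hU h4,
    hU h4.symm, hH h1, hH h2, hH h4]
  refine ⟨⟨dg_mul z0 h1 h4 h2, dg_comm z0 z0 h1 h2, ?_, ?_, rl 1,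
    cm h1 h2 h1.symm h2 1 1, cm h1 h4.symm h4 h1 1 1, spm_swap⟩, ?_⟩
  · rw [← mul_inv_eq_iff_eq_mul, _root_.mul_inv_rev, ← mul_assoc, mul_assoc (dg ζ 0 2), mul_assoc (dg ζ 0 2),
      dg_tr z0 h4 h1, d1]
    simp [dv, z0]
  · rw [← add_nsmul_eq ad, nsmul_one, CharP.cast_eq_zero]; exact (slSt _ F).x_zero h1
  · cases e
    · simp only [Bool.false_eq_true, if_false, holds_cons, holds_nil, and_true, PW_eq ad d3] at he ⊢
      rw [minpoly.aeval, zero_mul, he.2, d1]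
      exact ⟨(slSt _ F).x_zero h1, rfl⟩
    · simp only [if_true, holds_cons, holds_nil, and_true, cu_eq d1, cu_eq d2, rl] at he ⊢
      refine ⟨by rw [← ad, he.2.2]; simp, trivial, cm h1 h2 h1.symm h2 _ _, cm h1 h4.symm h4 h1 _ _⟩

theorem sl3_pres (F : Type*) [Field F] [Fintype F] :
    ∃ f : Fin 2 ⊕ Fin 2 → SpecialLinearGroup (Fin 3) F, PresOn f 14 := by
  obtain ⟨p, hp⟩ := CharP.exists F
  have : Fact p.Prime := ⟨CharP.char_is_prime F p⟩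
  let _ := ZMod.algebra F p
  obtain ⟨ζ, z0, z1, z2⟩ := exists_prim F
  obtain ⟨f, e, he⟩ : ∃ (f : (ZMod p)[X]) (e : Bool), if e then p = 2 ∧ ζ ≠ 1 ∧ ζ ^ 2 = 1 + ζ else
      (∀ t, ∃ f : (ZMod p)[X], aeval (ζ ^ 3) f = t) ∧ aeval (ζ ^ 3) f = ζ := by
    by_cases h : orderOf ζ = 3
    · have h1 : ζ ≠ 1 := fun e => by simp [e] at h
      obtain rfl : p = 2 := (Nat.prime_dvd_prime_iff_eq Fact.out Nat.prime_two).mp
        ((Fact.out : p.Prime).dvd_of_dvd_pow (n := 2) ((CharP.cast_eq_zero_iff F p _).mp (by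
          rw [show 2 ^ 2 = Fintype.card F by omega]; exact FiniteField.cast_card_eq_zero F)))
      refine ⟨0, true, rfl, h1, mul_left_cancel₀ (sub_ne_zero.mpr h1) ?_⟩
      have h2 := pow_orderOf_eq_one ζ
      have h3 : (2 : F) = 0 := CharTwo.two_eq_zero
      rw [h] at h2
      linear_combination h2 - (ζ ^ 2 - 1) * h3
    · have := aeval_surj_pow (p := p) z0 z1 (k := 3) (by norm_num) fun m hm => by
        have h2 : 0 < orderOf ζ := by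
          have := Fintype.one_lt_card (α := F); omega
        rcases (Nat.dvd_prime Nat.prime_three).mp (Nat.gcd_dvd_right (orderOf ζ) 3) with e | e <;> rw [e] at hm
        · nlinarith
        · have : 2 ≤ m := by omega
          nlinarith
      obtain ⟨f, hf⟩ := this ζ
      exact ⟨f, false, this, hf⟩
  have h3' : ∀ i j : Fin 3, ∃ k, i ≠ k ∧ j ≠ k := by decide
  choose! σ σa σb using show ∀ i j : Fin 3, i ≠ j → ∃ σ : Perm (Fin 3), σ 0 = i ∧ σ 1 = j by decide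
  have h1 : (0 : Fin 3) ≠ 1 := by decide
  have eU : ∀ {i j}, i ≠ j → cj σ spm (tr 0 1 (1 : F)) i j = tr i j 1 := fun h => by
    rw [cj, spm_tr _ h1, σa _ _ h, σb _ _ h]
  have eH : ∀ {i j}, i ≠ j → cj σ spm (dg ζ 0 1) i j = dg ζ i j := fun h => by
    rw [cj, spm_dg _ z0 h1, σa _ _ h, σb _ _ h]
  have triv : ∀ τ : Perm (Fin 3), τ 0 = 0 → τ 1 = 1 → τ = 1 := by decide
  have eq : ∀ {K : Type} [Group K] (ψ : Perm (Fin 3) →* K) (u : K), cj σ ψ u 0 1 = u ∧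
      ∀ τ i j, i ≠ j → ψ τ * cj σ ψ u i j * (ψ τ)⁻¹ = cj σ ψ u (τ i) (τ j) := fun ψ u => by
    refine ⟨by rw [cj, triv _ (σa _ _ h1) (σb _ _ h1)]; simp, fun τ i j e => ?_⟩
    have e' := τ.injective.ne e
    refine conj_family ψ ?_
    rw [triv (_ * _ * _) (by simp [σa _ _ e, Equiv.symm_apply_eq, σa _ _ e'])
      (by simp [σb _ _ e, Equiv.symm_apply_eq, σb _ _ e']), map_one]
    exact Commute.one_left _
  let w := FreeGroup.of (α := Perm (Fin 3) ⊕ Fin 2) ∘ Sum.inl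
  let u := FreeGroup.of (α := Perm (Fin 3) ⊕ Fin 2) (Sum.inr 0)
  let h := FreeGroup.of (α := Perm (Fin 3) ⊕ Fin 2) (Sum.inr 1)
  have d1 : ∀ {i j k : Fin 3}, i ≠ j → j ≠ k → i ≠ k → ∀ t, dg ζ i k * tr i j t * (dg ζ i k)⁻¹ = tr i j (ζ * t) :=
    fun e k2 k1 t => by rw [dg_tr z0 k1 e]; simp [dv, e.symm, k2]
  have := sym_three_pres.extend spm ![tr 0 1 (1 : F), dg ζ 0 1] ?_
    (sl3Rel (minpoly (ZMod p) (ζ ^ 3)) f e (cj σ w u) (cj σ w h) (w (swap 0 1))) ?_ ?_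
  · refine ⟨_, this.mono ?_⟩
    cases e <;> simp [sl3Rel]
  · refine slSt_top fun i j t e => ?_
    by_cases ht : t = 0
    · rw [ht, show tr i j (0 : F) = 1 from (slSt _ F).x_zero e]; exact one_mem _
    obtain ⟨n, rfl⟩ := z2 t ht
    obtain ⟨k, k1, k2⟩ := h3' i j
    have hm : ∀ (l : Fin 2) i j, cj σ spm (![tr 0 1 (1 : F), dg ζ 0 1] l) i j ∈
        spm.range ⊔ closure (Set.range ![tr 0 1 (1 : F), dg ζ 0 1]) := fun l i j =>
      mul_mem (mul_mem (mem_sup_left ⟨_, rfl⟩) (mem_sup_right (subset_closure ⟨l, rfl⟩)))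
        (inv_mem (mem_sup_left ⟨_, rfl⟩))
    rw [← mul_one (ζ ^ n), ← cu_eq (d1 e k2 k1), ← eU e, ← eH k1]
    exact cu_mem (hm 1 _ _) (hm 0 _ _) n
  · simp only [map_sl3Rel, cj, w, u, h, map_mul, map_inv,
      Function.comp, FreeGroup.lift_apply_of, Sum.elim_inl, Sum.elim_inr]
    exact sl3_rel z0 he eU eH
  · intro G _ ψ g hg hr π p1 p2
    simp only [map_sl3Rel, cj, w, u, h, map_mul, map_inv,
      Function.comp, FreeGroup.lift_apply_of, Sum.elim_inl, Sum.elim_inr] at hr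
    obtain ⟨u0, u1⟩ := eq ψ (g 0)
    obtain ⟨v0, v1⟩ := eq ψ (g 1)
    obtain ⟨S, top, s4⟩ := sl3_of_rel z0 z2 he ψ u1 v1 (by
      rw [u0, v0, ← hg]; congr 2; ext x; simp [Fin.exists_fin_two, eq_comm]) hr
    refine (injective_iff_map_eq_one π).mpr fun x => S.inj (by simp) π (fun i j t e => ?_) (top.ge trivial)
    by_cases ht : t = 0
    · rw [ht, S.x_zero e, map_one]; exact ((slSt _ F).x_zero e).symm
    obtain ⟨n, rfl⟩ := z2 t ht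
    obtain ⟨k, k1, k2⟩ := h3' i j
    rw [s4 i j k e k2 k1, ← mul_one (ζ ^ n), ← cu_eq (d1 e k2 k1), ← eU e, ← eH k1, map_cu]
    simp [cj, p1, p2]

end Cfsg.Agent.Pres
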