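import Mathlib
import Cfsg.Agent.Pres.FP6

/-! Single sign changes for symplectic and unitary groups. -/

set_option autoImplicit false
set_option linter.unusedSectionVars false

namespace Cfsg.Agent.Pres

open Subgroup Equiv Matrix Sum
open scoped commutatorElement MatrixGroups

variable {F G I : Type*} [Field F] [Group G] [DecidableEq I] [Fintype I]

namespace UD

variable {J : Type*} [Bar J] [DecidableEq J] [Fintype J] (D : UD J F)

/-- long reflections -/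
def nY (i : J) (θ : F) : HH J F := D.Y (bar i) 0 (-θ⁻¹) * D.Y i 0 θ * D.Y (bar i) 0 (-θ⁻¹)

theorem nY_ee (i : J) {θ : F} (h : θ ≠ 0) (y : Option J) : D.nY i θ (ee y) =
    (if y = some i then -θ⁻¹ else if y = some (bar i) then θ else 1) • ee (swap (some i) (some (bar i)) y) := by
  simp only [nY, LinearEquiv.mul_apply, Y_apply, bar_bar, map_zero, zero_mul, zero_smul, add_zero, sub_zero,
    Pi.add_apply, Pi.smul_apply, ee_apply, Option.some.injEq, bar_ne, ne_bar, if_true, if_false]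
  by_cases e1 : y = some i
  · subst e1; simp; match_scalars <;> field_simp <;> ring
  by_cases e2 : y = some (bar i)
  · subst e2; simp; match_scalars <;> field_simp <;> ring
  simp [e1, e2, Ne.symm e1, Ne.symm e2, swap_apply_of_ne_of_ne e1 e2]

variable {D}

theorem σ_θ (i : J) {θ : F} (h : D.L 0 θ) : D.σ θ = -(D.ε * θ) := by linear_combination (norm := simp) D.L_iso h

theorem L_ninv (i : J) {θ : F} (h : D.L 0 θ) (h0 : θ ≠ 0) : D.L 0 (-θ⁻¹) := by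
  have := (L_aux h h0 i).1
  rw [σ_θ i h] at this
  convert this using 1
  · simp
  · have := left_ne_zero_of_mul_eq_one (D.ε_sq i); field_simp

theorem nY_mem (i : J) {θ : F} (h : D.L 0 θ) (h0 : θ ≠ 0) : D.nY i θ ∈ D.RY i ⊔ D.RY (bar i) :=
  mul_mem (mul_mem (mem_sup_right (Y_mem _ (L_ninv i h h0))) (mem_sup_left (Y_mem _ h)))
    (mem_sup_right (Y_mem _ (L_ninv i h h0)))

theorem nY_E (i : J) {θ : F} (h : D.L 0 θ) (h0 : θ ≠ 0) : D.nY i θ ∈ D.E :=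
  mul_mem (mul_mem (Y_E _ (L_ninv i h h0)) (Y_E _ h)) (Y_E _ (L_ninv i h h0))

theorem nY_mon (i : J) {θ : F} (h : D.L 0 θ) (h0 : θ ≠ 0) : (D.nY i θ, swap (some i) (some (bar i))) ∈ D.Mon :=
  ⟨D.E_iso (nY_E i h h0), (Mon_Y i h h0).2.1, fun y => ⟨_, D.nY_ee i h0 y⟩⟩

end UD

variable {D : UD (I ⊕ I) F} {π : G →* HH (I ⊕ I) F} {ψ : SpecialLinearGroup I F →* G}

theorem Cp.conj_nY (h : Cp D π ψ) (hη : ∀ a b, D.η (inl a) = D.η (inl b)) {A : SpecialLinearGroup I F} {σ : Perm I}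
    (hA : (A, σ) ∈ Sm I F) (i : I) {θ : F} (h0 : θ ≠ 0) :
    π (ψ A) * D.nY (inl i) θ * (π (ψ A))⁻¹ = D.nY (inl (σ i)) θ := by
  obtain ⟨d, h1, h2, -⟩ := h.Sm_apply hη hA
  have h3 : ∀ y, d (sc i y) = d y := fun y => by rcases sc_or i y with e | e <;> simp [e, h2]
  rw [mul_inv_eq_iff_eq_mul]
  refine basis_ext fun y => ?_
  simp only [LinearEquiv.mul_apply, D.nY_ee _ h0, map_smul, h1, bar_inl]
  rw [show swap (some (inl i)) (some (inr i)) = sc i from rfl, show swap (some (inl (σ i))) (some (inr (σ i))) = sc (σ i)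
    from rfl, h3, smul_comm, ← dp_sc, Perm.mul_apply, Perm.mul_apply, show (dp σ)⁻¹ (dp σ y) = y from
      Equiv.symm_apply_apply _ _]
  rcases y with _ | y | y <;> simp

theorem Cp.norm_UA (h : Cp D π ψ) {g : G} {w : Perm (Option (I ⊕ I))} (h1 : (π g, w) ∈ D.Mon) {a b : I} (hab : a ≠ b)
    (e1 : w (some (inl a)) = some (inl a)) (e2 : w (some (inl b)) = some (inl b))
    (h2 : ∀ t, g * ψ (tr a b t) * g⁻¹ ∈ ψ.range) : g ∈ normalizer (UA ψ a b : Set G) := by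
  obtain ⟨d, h3, -⟩ := UD.Mon_ex h1
  have h4 : ∀ t, g * ψ (tr a b t) * g⁻¹ = ψ (tr a b (d (some (inl a)) / d (some (inl b)) * t)) := fun t =>
    h.of_range (h2 t) (by simp [h a b _ hab, UD.Mon_conjX h1 h3 (D2_inl hab) e1 e2])
  have h5 := UD.ne_of_apply (h3 (some (inl a)))
  have h6 := UD.ne_of_apply (h3 (some (inl b)))
  refine mem_normalizer_iff.mpr fun u => ⟨fun hu => ?_, fun hu => ?_⟩
  · obtain ⟨t, rfl⟩ := (mem_UA hab).mp hu
    exact h4 t ▸ tr_UA _ _ _ _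
  · obtain ⟨t, e⟩ := (mem_UA hab).mp hu
    have := h4 (d (some (inl b)) / d (some (inl a)) * t)
    rw [show d (some (inl a)) / d (some (inl b)) * (d (some (inl b)) / d (some (inl a)) * t) = t by field_simp, e,
      mul_left_inj, mul_right_inj] at this
    exact this ▸ tr_UA _ _ _ _

/-- relations for the single sign change -/
structure CB (D : UD (I ⊕ I) F) (π : G →* HH (I ⊕ I) F) (ψ : SpecialLinearGroup I F →* G) (w : G) (a b : I) (θ : F) :
    Prop where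
  cp : Cp D π ψ
  hη : ∀ i j, D.η (inl i) = D.η (inl j)
  ab : a ≠ b
  θ0 : θ ≠ 0
  hθ : D.L 0 θ
  hw : π w = D.nY (inl a) θ
  r1 : ∀ i j t, i ≠ j → i ≠ a → j ≠ a → Commute w (ψ (tr i j t))
  r2 : Commute w (ψ (wA a b) * w * (ψ (wA a b))⁻¹)
  r3 : w ^ 2 * ((ψ (wA a b) * w * (ψ (wA a b))⁻¹) ^ 2)⁻¹ = ψ (dg (-1) a b)
  r4 : ∀ i j t, i = a ∧ j = b ∨ i = b ∧ j = a → w * (ψ (wA a b) * w * (ψ (wA a b))⁻¹) * ψ (tr i j t) *
    (w * (ψ (wA a b) * w * (ψ (wA a b))⁻¹))⁻¹ ∈ ψ.range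
  r5 : ∀ A, w ^ 2 * ψ A * (w ^ 2)⁻¹ ∈ ψ.range

/-- the family of single sign changes -/
structure WF (D : UD (I ⊕ I) F) (π : G →* HH (I ⊕ I) F) (ψ : SpecialLinearGroup I F →* G) (W : I → G) (θ : F) :
    Prop where
  cp : Cp D π ψ
  hη : ∀ i j, D.η (inl i) = D.η (inl j)
  θ0 : θ ≠ 0
  hθ : D.L 0 θ
  hπ : ∀ i, π (W i) = D.nY (inl i) θ
  conj : ∀ A σ, (A, σ) ∈ Sm I F → ∀ i, ψ A * W i * (ψ A)⁻¹ = W (σ i)
  comm : ∀ i j, Commute (W i) (W j)
  r1 : ∀ k i j t, i ≠ j → i ≠ k → j ≠ k → Commute (W k) (ψ (tr i j t))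
  r4 : ∀ i j t, i ≠ j → W i * W j * ψ (tr i j t) * (W i * W j)⁻¹ ∈ ψ.range
  r5 : ∀ i A, W i * W i * ψ A * (W i * W i)⁻¹ ∈ ψ.range

theorem exists_Sm2 {a b i j : I} (h : a ≠ b) (h' : i ≠ j) : ∃ A σ, (A, σ) ∈ Sm I F ∧ σ a = i ∧ σ b = j := by
  obtain ⟨σ, hσ⟩ := Perm.exists_extending_pair _ _ (inj2 h) (inj2 h')
  obtain ⟨A, hA⟩ := exists_Sm (F := F) σ
  exact ⟨A, σ, hA, hσ 0, hσ 1⟩

theorem conj_range (A : SpecialLinearGroup I F) {x : G} (h : x ∈ ψ.range) : ψ A * x * (ψ A)⁻¹ ∈ ψ.range :=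
  mul_mem (mul_mem ⟨A, rfl⟩ h) (inv_mem ⟨A, rfl⟩)

theorem CB.exists_WF {w : G} {a b : I} {θ : F} (h : CB D π ψ w a b θ) : ∃ W, WF D π ψ W θ ∧ W a = w := by
  let K := (centralizer {w}).comap ψ
  have hK : ∀ i j, i ≠ j → i ≠ a → j ≠ a → ∀ t, tr i j t ∈ K := fun i j h1 h2 h3 t =>
    mem_centralizer_singleton_iff.mpr (h.r1 i j t h1 h2 h3).symm
  obtain ⟨W, f1, f2⟩ := exists_famE ψ (Sm I F) a w fun A σ h1 h2 => by
    refine mem_centralizer_singleton_iff.mp (Sm_stab (C := K) (P := (· = a)) (dg_all a fun k hk => ?_)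
      (fun i j h1 h2 h3 => mul_mem (mul_mem (hK i j h1 h2 h3 _) (hK j i h1.symm h3 h2 _)) (hK i j h1 h2 h3 _)) h1
      (by rintro _ rfl; exact h2))
    have h3 : dg (-1) a b ∈ K := mem_centralizer_singleton_iff.mpr (by
      rw [← h.r3]; exact (((Commute.refl w).pow_right 2).mul_right (h.r2.pow_right 2).inv_right).symm)
    by_cases e : b = k
    · exact e ▸ h3
    rw [← dg_mul (by simp) h.ab e hk]
    exact mul_mem h3 (dg_mem e (hK _ _ e h.ab.symm hk.symm) (hK _ _ (Ne.symm e) hk.symm h.ab.symm) (by simp))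
  have f3 : ∀ A σ, (A, σ) ∈ Sm I F → ∀ i, ψ A * W i * (ψ A)⁻¹ = W (σ i) := f2
  have f4 : ψ (wA a b) * w * (ψ (wA a b))⁻¹ = W b := by simpa [f1] using f3 _ _ (wA_Sm h.ab) a
  have tr1 : ∀ i, ∃ A σ, (A, σ) ∈ Sm I F ∧ σ a = i := fun i =>
    (exists_Sm (F := F) (swap a i)).elim fun A hA => ⟨A, _, hA, by simp⟩
  refine ⟨W, ⟨h.cp, h.hη, h.θ0, h.hθ, fun i => ?_, f3, fun i j => ?_, fun k i j t h1 h2 h3 => ?_, fun i j t h1 => ?_,
    fun i B => ?_⟩, f1⟩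
  · obtain ⟨A, σ, h1, rfl⟩ := tr1 i
    rw [← f3 A σ h1, f1, ← h.cp.conj_nY h.hη h1 a h.θ0, ← h.hw]; simp
  · by_cases e : i = j
    · rw [e]
    obtain ⟨A, σ, h1, rfl, rfl⟩ := exists_Sm2 (F := F) h.ab e
    rw [← f3 A σ h1, ← f3 A σ h1, f1, ← f4]
    exact h.r2.map (MulAut.conj (ψ A))
  · obtain ⟨A, σ, h4, rfl⟩ := tr1 k
    obtain ⟨i, rfl⟩ := σ.surjective i
    obtain ⟨j, rfl⟩ := σ.surjective j
    rw [σ.injective.ne_iff] at h1 h2 h3
    obtain ⟨d, h5, h6⟩ := Sm_tr h4 h1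
    rw [← f3 A σ h4, f1, ← one_mul t, ← h5, mul_assoc d, ← h6, map_mul, map_mul, map_inv]
    exact (h.r1 i j _ h1 h2 h3).map (MulAut.conj (ψ A))
  · obtain ⟨A, σ, h4, rfl, rfl⟩ := exists_Sm2 (F := F) h.ab h1
    obtain ⟨d, h5, h6⟩ := Sm_tr h4 h.ab
    rw [← f3 A σ h4, ← f3 A σ h4, f1, ← f4, ← one_mul t, ← h5, mul_assoc d, ← h6]
    simpa [mul_assoc] using conj_range A (h.r4 a b (d * t) (.inl ⟨rfl, rfl⟩))
  · obtain ⟨A, σ, h4, rfl⟩ := tr1 i
    rw [← f3 A σ h4, f1]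
    simpa [mul_assoc, sq] using conj_range A (h.r5 (A⁻¹ * B * A))

variable (W : I → G) in
/-- the group of sign changes -/
def WΘ : Subgroup (G × Perm (Option (I ⊕ I))) := closure (Set.range fun i => (W i, sc i))

theorem W_mem {W : I → G} (i : I) : (W i, sc i) ∈ WΘ W := subset_closure ⟨i, rfl⟩

theorem WΘ_real {W : I → G} (l : List (I ⊕ I)) (h : l.Pairwise D2) :
    ∃ p ∈ WΘ W, (∀ x ∈ l, p.2 (some (inl (ab x))) = some x) ∧ ∀ y, (∀ x ∈ l, D2 x y) → p.2 (some y) = some y := by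
  induction l with
  | nil => exact ⟨1, one_mem _, by simp⟩
  | cons x l ih =>
    obtain ⟨h1, h2⟩ := List.pairwise_cons.mp h
    obtain ⟨p, hp, e1, e2⟩ := ih h2
    have e3 := e2 (inl (ab x)) fun z hz => D2_iff.mpr (D2_iff.mp (h1 z hz)).symm
    rcases x with x | x
    · exact ⟨p, hp, List.forall_mem_cons.mpr ⟨e3, e1⟩, fun y hy => e2 y fun z hz => hy z (by simp [hz])⟩
    · refine ⟨_, mul_mem (W_mem x) hp, ?_, fun y hy => ?_⟩
      · simp only [List.forall_mem_cons, Prod.snd_mul, Perm.mul_apply, e3]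
        exact ⟨by simp [sc_inl], fun z hz => by rw [e1 z hz]; exact sc_fix (D2_iff.mp (h1 z hz)).symm⟩
      · rw [Prod.snd_mul, Perm.mul_apply, e2 y fun z hz => hy z (by simp [hz])]
        exact sc_fix (D2_iff.mp (hy (inr x) (by simp))).symm

namespace WF

variable {W : I → G} {θ : F} (h : WF D π ψ W θ)
include h

theorem mon (i : I) : (π (W i), sc i) ∈ D.Mon := h.hπ i ▸ UD.nY_mon (inl i) h.hθ h.θ0

theorem stab {K : Subgroup G} {a b : I} (h1 : ∀ i, i ≠ a → i ≠ b → W i ∈ K) (h2 : W a * W a ∈ K) (h3 : W b * W b ∈ K)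
    {p : G × Perm (Option (I ⊕ I))} (hp : p ∈ WΘ W) (e1 : p.2 (some (inl a)) = some (inl a))
    (e2 : p.2 (some (inl b)) = some (inl b)) : p.1 ∈ K :=
  comm_stab (W := fun i => (W i, sc i)) (fun i j => Prod.ext (h.comm i j) (sc_comm i j)) h1 h2 h3 sc_sq
    (fun i => by simp [sc_inl, eq_comm (a := i)]) (fun i => by simp [sc_inl, eq_comm (a := i)]) hp e1 e2

/-- the sign change data -/
def toSC {o1 o2 : I} (o12 : o1 ≠ o2) : SC D π ψ where
  cp := h.cp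
  o1 := o1
  o2 := o2
  o12 := o12
  Θ := WΘ W
  mon p hp := by
    induction hp using closure_induction with
    | mem x hx => obtain ⟨i, rfl⟩ := hx; exact h.mon i
    | one => rw [Prod.fst_one, map_one]; exact one_mem _
    | mul x y _ _ hx hy => simpa using mul_mem hx hy
    | inv x _ hx => simpa using inv_mem hx
  sgn p hp a := (closure_le ((Sgn _).comap (MonoidHom.snd _ _))).mpr (by rintro _ ⟨i, rfl⟩; exact sc_or i) hp _
  stab p hp a b hab e1 e2 t := by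
    have key : ∀ i, W i * W i ∈ normalizer (UA ψ a b : Set G) := fun i =>
      h.cp.norm_UA (w := 1) (by simpa using mul_mem (h.mon i) (h.mon i)) hab rfl rfl fun t => h.r5 i _
    have := conj_mem_of_norm (h.stab (K := normalizer (UA ψ a b : Set G)) (fun i h1 h2 =>
      centralizer_le_normalizer _ (by
        intro u hu
        obtain ⟨t, rfl⟩ := (mem_UA hab).mp hu
        exact (h.r1 i a b t hab h1.symm h2.symm).symm)) (key a) (key b) hp e1 e2) (tr_UA ψ a b t)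
    obtain ⟨t, e⟩ := (mem_UA hab).mp this
    exact ⟨_, e⟩
  flip a b hab := ⟨_, mul_mem (W_mem a) (W_mem b), by simp [sc_inl, hab], by simp [sc_inl, sc_inr, hab.symm],
    fun t => h.r4 a b t hab⟩
  real2 x y hd := by
    obtain ⟨p, hp, e, -⟩ := WΘ_real (W := W) [x, y] (by simp [hd])
    exact ⟨p, hp, by simpa using e⟩
  real3 x y z h1 h2 h3 := by
    obtain ⟨p, hp, e, -⟩ := WΘ_real (W := W) [x, y, z] (by simp [*])
    exact ⟨p, hp, by simpa using e⟩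
  norm A σ hA p hp := (closure_le ((WΘ W).comap (MulAut.conj (ψ A, dp σ)).toMonoidHom)).mpr (by
    rintro _ ⟨i, rfl⟩
    show (ψ A, dp σ) * (W i, sc i) * (ψ A, dp σ)⁻¹ ∈ WΘ W
    rw [show (ψ A, dp σ) * (W i, sc i) * (ψ A, dp σ)⁻¹ = (W (σ i), sc (σ i)) from
      Prod.ext (h.conj A σ hA i) (dp_sc σ i)]
    exact W_mem _) hp

end WF

end Cfsg.Agent.Pres
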