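import Mathlib
import Cfsg.Agent.Pres.TC1

/-! The family of long root subgroups. -/

set_option autoImplicit false
set_option linter.unusedSectionVars false

namespace Cfsg.Agent.Pres

open Subgroup Equiv Matrix Sum
open scoped commutatorElement MatrixGroups

variable {F G I : Type*} [Field F] [Group G] [DecidableEq I] [Fintype I]
  {D : UD (I ⊕ I) F} {π : G →* HH (I ⊕ I) F} {ψ : SpecialLinearGroup I F →* G}

theorem UD.Mon_RY {J : Type*} [Bar J] [DecidableEq J] [Fintype J] {D : UD J F} {g : HH J F} {w : Perm (Option J)}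
    (h : (g, w) ∈ D.Mon) {i i' : J} (e : w (some i) = some i') {x : HH J F} (hx : x ∈ D.RY i) : g * x * g⁻¹ ∈ D.RY i' := by
  have := UD.Mon_conj h (some i, none) hx
  rwa [show w • ((some i, none) : Rt J) = (some i', none) from Prod.ext e h.2.1.non] at this

namespace SC

variable (S : SC D π ψ) (Y0 : Subgroup G)

/-- the long root subgroups -/
def Y (i : I ⊕ I) : Subgroup G := famN S.N (some (inl S.o1)) Y0 (some i)

/-- invariance under the stabiliser -/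
def Nrm : Prop := ∀ g w, (g, w) ∈ S.N → w (some (inl S.o1)) = some (inl S.o1) → ∀ y ∈ Y0, g * y * g⁻¹ ∈ Y0

variable {S Y0}

theorem Y_conj {g : G} {w : Perm (Option (I ⊕ I))} (h : (g, w) ∈ S.N) {x x' : I ⊕ I} (e : w (some x) = some x') {u : G}
    (hu : u ∈ S.Y Y0 x) : g * u * g⁻¹ ∈ S.Y Y0 x' := by
  have := famN_conj h hu
  rwa [Perm.smul_def, e] at this

theorem Y_conj' {g : G} {w : Perm (Option (I ⊕ I))} (h : (g, w) ∈ S.N) {x x' : I ⊕ I} (e : w (some x) = some x') {u : G}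
    (hu : u ∈ S.Y Y0 x') : g⁻¹ * u * g ∈ S.Y Y0 x := by
  simpa using Y_conj (g := g⁻¹) (w := w⁻¹) (inv_mem h) (Perm.inv_eq_iff_eq.mpr e.symm) hu

theorem Y_self (h : S.Nrm Y0) : S.Y Y0 (inl S.o1) = Y0 := famN_self fun p hp => h p.1 p.2 hp

variable (S) in
theorem trans1 (x : I ⊕ I) : ∃ g w, (g, w) ∈ S.N ∧ w (some (inl S.o1)) = some x := by
  obtain ⟨g, w, h, e, -⟩ := S.trans2 (x := x) (y := inl (if ab x = S.o1 then S.o2 else S.o1)) (D2_iff.mpr (by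
    split_ifs with e
    exacts [e ▸ S.o12, e])) S.o12
  exact ⟨g, w, h, e⟩

theorem Y_map (h : S.Nrm Y0) (hm : Y0.map π = D.RY (inl S.o1)) (x : I ⊕ I) : (S.Y Y0 x).map π = D.RY x := by
  obtain ⟨g, w, h1, e⟩ := S.trans1 x
  refine le_antisymm ?_ fun u hu => ?_
  · rintro _ ⟨y, hy, rfl⟩
    exact mem_cc (g := π g) (UD.Mon_RY (N_mon h1) e (by
      rw [← hm, ← map_inv, ← map_mul, ← map_mul]; exact mem_map_of_mem π ((Y_self h).le (Y_conj' h1 e hy))))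
  · obtain ⟨y, hy, e'⟩ := hm ▸ UD.Mon_RY (g := (π g)⁻¹) (w := w⁻¹) (inv_mem (N_mon h1)) (Perm.inv_eq_iff_eq.mpr e.symm) hu
    exact ⟨_, Y_conj h1 e (Y_self h ▸ hy :), by simp [e', mul_assoc]⟩

theorem Y_inj (h : S.Nrm Y0) (hi : ∀ y ∈ Y0, π y = 1 → y = 1) (x : I ⊕ I) : ∀ y ∈ S.Y Y0 x, π y = 1 → y = 1 := by
  obtain ⟨g, w, h1, e⟩ := S.trans1 x
  intro y hy e'
  simpa [mul_assoc, inv_mul_eq_one] using hi _ ((Y_self h).le (Y_conj' h1 e hy)) (by simp [e'])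

theorem Y_le {K : Subgroup G} (h1 : ψ.range ≤ K) (h2 : ∀ p ∈ S.Θ, p.1 ∈ K) (h3 : Y0 ≤ K) (x : I ⊕ I) : S.Y Y0 x ≤ K :=
  famN_le (fun p hp u hu => by
    have : p.1 ∈ K := mem_comap.mp (sup_le (c := K.comap (MonoidHom.fst _ _)) h2
      (by rintro _ ⟨q, -, rfl⟩; exact h1 ⟨_, rfl⟩) hp)
    exact mul_mem (mul_mem this (h3 hu)) (inv_mem this)) _

theorem c5 (h : S.Nrm Y0) (h1 : ∀ y ∈ Y0, ∀ t, Commute y (ψ (tr S.o1 S.o2 t)))
    (h2 : ∀ i j, i ≠ j → i ≠ S.o1 → j ≠ S.o1 → ∀ y ∈ Y0, ∀ t, Commute y (ψ (tr i j t))) {i j k : I ⊕ I} (hd : D2 j k)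
    (e1 : j ≠ bar i) (e2 : k ≠ i) : ∀ x ∈ S.Y Y0 i, ∀ y ∈ S.X j k, Commute x y := by
  have key : ∀ {i k : I ⊕ I}, D2 i k → ∀ x ∈ S.Y Y0 i, ∀ y ∈ S.X i k, Commute x y := fun hd x hx y hy => by
    obtain ⟨g, w, h3, f1, f2⟩ := S.trans2 hd S.o12
    obtain ⟨t, ht⟩ := (mem_UA S.o12).mp (S.X_inl S.o12 ▸ X_conj' h3 f1 f2 hy)
    exact commute_of_conj (g := g) (ht ▸ h1 _ (Y_self h ▸ Y_conj' h3 f1 hx) t)
  by_cases e3 : j = i
  · subst e3; exact key hd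
  by_cases e4 : k = bar i
  · subst e4; rw [← S.X_symm hd, bar_bar]; exact key (by simpa using hd.dual)
  intro x hx y hy
  have d1 : D2 i j := D2.symm ⟨e3, e1⟩
  have d2 : D2 i k := D2.symm ⟨e2, e4⟩
  obtain ⟨p, hp, f1, f2, f3⟩ := S.real3 i j k d1 hd d2
  obtain ⟨A, hA⟩ := exists_Sm (F := F) (swap S.o1 (ab i))
  have hN : (p.1 * ψ A, p.2 * dp (swap S.o1 (ab i))) ∈ S.N := mul_mem (S.Θ_N hp) (S.Sm_N hA)
  rw [D2_iff] at d1 d2 hd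
  have d3 := (swap S.o1 (ab i)).injective.ne hd
  obtain ⟨t, ht⟩ := (mem_UA d3).mp (S.X_inl d3 ▸ X_conj' hN (by simpa using f2) (by simpa using f3) hy)
  exact commute_of_conj (ht ▸ h2 _ _ d3 (by simpa [swap_apply_eq_iff] using d1.symm)
    (by simpa [swap_apply_eq_iff] using d2.symm) _ (Y_self h ▸ Y_conj' hN (by simpa using f1) hx) t)

end SC

/-- the properties of a long root subgroup -/
structure YD (S : SC D π ψ) (Y0 : Subgroup G) : Prop where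
  H : ∀ x y z w, D2 x y → D2 z w → D2 z x → D2 z y → D2 x w → D2 y w → ∀ u ∈ S.X x y, ∀ v ∈ S.X z w, Commute u v
  nrm : S.Nrm Y0
  map : Y0.map π = D.RY (inl S.o1)
  inj : ∀ y ∈ Y0, π y = 1 → y = 1
  c3 : ∀ u ∈ S.X (inl S.o1) (inl S.o2), ∀ v ∈ S.X (inl S.o1) (inr S.o2), ⁅u, v⁆ ∈ Y0
  c4 : ∀ u ∈ S.X (inl S.o1) (inl S.o2), ∀ y ∈ S.Y Y0 (inl S.o2), ⁅u, y⁆ ∈ S.X (inl S.o1) (inr S.o2) ⊔ Y0
  c5 : ∀ y ∈ Y0, ∀ t, Commute y (ψ (tr S.o1 S.o2 t))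
  c5' : ∀ i j, i ≠ j → i ≠ S.o1 → j ≠ S.o1 → ∀ y ∈ Y0, ∀ t, Commute y (ψ (tr i j t))
  c6 : ∀ y ∈ Y0, ∀ y' ∈ S.Y Y0 (inl S.o2), ⁅y, y'⁆ ∈ S.X (inl S.o1) (inr S.o2)

/-- the lift of all root subgroups -/
def YD.lift {S : SC D π ψ} {Y0 : Subgroup G} (h : YD S Y0) : Lift D π :=
  Lift.mk' S.X (S.Y Y0) S.X_map (SC.Y_map h.nrm h.map) S.X_inj (SC.Y_inj h.nrm h.inj) S.X_symm S.c1 (S.c2 h.H)
    (fun hd u hu v hv => by
      obtain ⟨g, w, h1, e1, e2⟩ := S.trans2 hd S.o12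
      exact comm_conj (h.c3 _ (SC.X_conj' h1 e1 e2 hu) _ (SC.X_conj' h1 e1 ((SC.N_cm h1).bar e2) hv))
        fun k hk => SC.Y_conj h1 e1 ((SC.Y_self h.nrm).ge hk))
    (fun hd u hu v hv => by
      obtain ⟨g, w, h1, e1, e2⟩ := S.trans2 hd S.o12
      exact comm_conj (h.c4 _ (SC.X_conj' h1 e1 e2 hu) _ (SC.Y_conj' h1 e2 hv))
        fun k hk => mem_comap.mp (sup_le (c := comap (MulAut.conj g).toMonoidHom _)
          (fun k hk => mem_sup_left (SC.X_conj h1 e1 ((SC.N_cm h1).bar e2) hk))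
          (fun k hk => mem_sup_right (SC.Y_conj h1 e1 ((SC.Y_self h.nrm).ge hk))) hk))
    (SC.c5 h.nrm h.c5 h.c5')
    (fun hd u hu v hv => by
      obtain ⟨g, w, h1, e1, e2⟩ := S.trans2 hd S.o12
      exact comm_conj (h.c6 _ ((SC.Y_self h.nrm).le (SC.Y_conj' h1 e1 hu)) _ (SC.Y_conj' h1 e2 hv))
        fun k hk => SC.X_conj h1 e1 ((SC.N_cm h1).bar e2) hk)

theorem YD.inj_C [Finite F] {n : ℕ} {D : UD (Fin (n + 2) ⊕ Fin (n + 2)) F} {π : G →* HH (Fin (n + 2) ⊕ Fin (n + 2)) F}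
    {ψ : SL(n + 2, F) →* G} {S : SC D π ψ} {Y0 : Subgroup G} (h : YD S Y0) {K : Type*} [Field K] [Finite K]
    (ι : K →+* F) {θ : F} (hθ : θ ≠ 0) (hι : ∀ s, D.σ (ι s) = ι s) (hL : ∀ b, D.L 0 b ↔ ∃ s, b = θ * ι s) {g : G}
    (hg : g ∈ ψ.range ⊔ ⨆ i, S.Y Y0 i) (e : π g = 1) : g = 1 :=
  h.lift.inj_C ι hθ hι hL (sup_le (SC.range_le (Λ := h.lift) rfl)
    (iSup_le fun i => le_XS h.lift.U (b := (some i, none)) trivial) hg) e

/-- commutator maps -/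
structure FB (σ : F →+* F) (K0 : Subfield F) (f : F → F → G) (Y : Subgroup G) : Prop where
  z1 : ∀ t, f 0 t = 1
  z2 : ∀ s, f s 0 = 1
  a1 : ∀ s s' t, f s t ∈ Y → f (s' + s) t = f s t * f s' t
  a2 : ∀ s t t', f s t' ∈ Y → f s (t + t') = f s t * f s t'
  a3 : ∀ r ∈ K0, r ≠ 0 → ∀ s t, f s t ∈ Y → f (s / r) (r * t) = f s t
  a4 : ∀ r ∈ K0, r ≠ 0 → ∀ s t, (f s t ∈ Y → f (r * s) (σ r * t) ∈ Y) ∧ (f s t = 1 → f (r * s) (σ r * t) = 1)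

/-- good commutator maps -/
structure FC (σ : F →+* F) (f : F → F → G) (Y : Subgroup G) : Prop where
  all : ∀ s t, f s t ∈ Y
  bal : ∀ s t, ∃ c, f s t = f 1 c
  ker : ∀ c, c + σ c = 0 → f 1 c = 1

namespace FB

variable {σ : F →+* F} {K0 : Subfield F} {f : F → F → G} {Y : Subgroup G} (h : FB σ K0 f Y)
  {K : Type*} [Field K] [Finite K] {ι : K →+* F} (hι : ∀ s, σ (ι s) = ι s) (hK : ∀ s, ι s ∈ K0)
include h hι hK

theorem scale {s t : F} (k : K) : (f s t ∈ Y → f s (ι k * t) ∈ Y) ∧ (f s t = 1 → f s (ι k * t) = 1) := by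
  have key : ∀ m, (f s t ∈ Y → f s (ι m ^ 2 * t) ∈ Y) ∧ (f s t = 1 → f s (ι m ^ 2 * t) = 1) := fun m => by
    by_cases e : ι m = 0
    · simp [e, h.z2]
    have h1 := h.a4 _ (hK m) e s t
    have h2 := h.a3 _ (hK m) e (ι m * s) (σ (ι m) * t)
    rw [mul_div_cancel_left₀ _ e, hι, ← mul_assoc, ← sq] at h2
    rw [hι] at h1
    exact ⟨fun e => h2 (h1.1 e) ▸ h1.1 e, fun e => (h2 (h1.2 e ▸ one_mem _)).trans (h1.2 e)⟩
  obtain ⟨a, b, rfl⟩ := sq_sq k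
  rw [map_add, map_pow, map_pow, add_mul]
  exact ⟨fun e => h.a2 _ _ _ ((key b).1 e) ▸ mul_mem ((key a).1 e) ((key b).1 e),
    fun e => by rw [h.a2 _ _ _ ((key b).1 (e ▸ one_mem _)), (key a).2 e, (key b).2 e, one_mul]⟩

theorem top (hT : K0 = ⊤) {c0 β : F} (h1 : f 1 c0 = 1) (h2 : f 1 β ∈ Y) (h3 : ∀ c, c + σ c = 0 → ∃ s, c = ι s * c0)
    (h4 : ∀ c, ∃ s s', c = ι s * c0 + ι s' * β) : FC σ f Y := by
  have h5 : ∀ c, f 1 c ∈ Y := fun c => by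
    obtain ⟨s, s', rfl⟩ := h4 c
    exact h.a2 _ _ _ ((h.scale hι hK s').1 h2) ▸ mul_mem ((h.scale hι hK s).1 (h1 ▸ one_mem _)) ((h.scale hι hK s').1 h2)
  have h6 : ∀ s t, ∃ c, f s t = f 1 c := fun s t => by
    by_cases e : s = 0
    · exact ⟨0, by rw [e, h.z1, h.z2]⟩
    · exact ⟨s * t, by simpa [e] using h.a3 s⁻¹ (hT ▸ Subfield.mem_top _) (inv_ne_zero e) 1 _ (h5 (s * t))⟩
  refine ⟨fun s t => (h6 s t).elim fun c e => e ▸ h5 c, h6, fun c e => ?_⟩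
  obtain ⟨s, rfl⟩ := h3 c e
  exact (h.scale hι hK s).2 h1

theorem fix {θ γ δ : F} (h1 : f 1 θ = 1) (h2 : f γ δ = 1) (h3 : f (γ + 1) (θ + δ) = 1) (h4 : f 1 δ ∈ Y)
    (h5 : ∀ c, c + σ c = 0 → ∃ s, c = ι s * θ) (h6 : ∀ c, ∃ s s', c = ι s * θ + ι s' * δ)
    (h7 : ∀ c, ∃ s s', c = ι s * γ + ι s') : FC σ f Y := by
  have g1 : ∀ c, f 1 c ∈ Y := fun c => by
    obtain ⟨s, s', rfl⟩ := h6 c
    exact h.a2 _ _ _ ((h.scale hι hK s').1 h4) ▸ mul_mem ((h.scale hι hK s).1 (h1 ▸ one_mem _)) ((h.scale hι hK s').1 h4)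
  have g2 : ∀ c, ∃ c', f γ c = f 1 c' := fun c => by
    obtain ⟨s, s', rfl⟩ := h6 c
    have e1 := fun s => (h.scale hι hK s).2 h2
    have e2 := (h.scale hι hK s).2 h3
    rw [h.a1 _ _ _ (g1 _), mul_add, h.a2 γ _ _ (e1 s ▸ one_mem _), e1, mul_one] at e2
    have e3 := h.a2 1 (ι s * θ + ι s * δ) (-(ι s * θ + ι s * δ)) (g1 _)
    rw [add_neg_cancel, h.z2, ← e2, mul_right_inj] at e3
    exact ⟨_, by rw [h.a2 γ _ _ (e1 s' ▸ one_mem _), e1, mul_one, e3]⟩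
  have g3 : ∀ s (k : K) t, (∀ c, ∃ c', f s c = f 1 c') → ∃ c, f (ι k * s) t = f 1 c := fun s k t e => by
    by_cases e' : ι k = 0
    · exact ⟨0, by rw [e', zero_mul, h.z1, h.z2]⟩
    obtain ⟨c, hc⟩ := e (ι k * t)
    have := h.a3 _ (inv_mem (hK k)) (inv_ne_zero e') s _ (hc ▸ g1 c)
    rw [inv_mul_cancel_left₀ e', div_inv_eq_mul, mul_comm s] at this
    exact ⟨c, this.trans hc⟩
  have g4 : ∀ s t, ∃ c, f s t = f 1 c := fun s t => by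
    obtain ⟨k, k', rfl⟩ := h7 s
    obtain ⟨c, e⟩ := g3 γ k t g2
    obtain ⟨c', e'⟩ := g3 1 k' t fun c => ⟨c, rfl⟩
    rw [mul_one] at e'
    exact ⟨c' + c, by rw [h.a1 _ _ _ (e' ▸ g1 _), e, e', h.a2 _ _ _ (g1 _)]⟩
  refine ⟨fun s t => (g4 s t).elim fun c e => e ▸ g1 c, g4, fun c e => ?_⟩
  obtain ⟨s, rfl⟩ := h5 c e
  exact (h.scale hι hK s).2 h1

end FB

end Cfsg.Agent.Pres
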