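import Mathlib
import Cfsg.Agent.Pres.TC2

/-! The long root subgroup generated by torus conjugates. -/

set_option autoImplicit false
set_option linter.unusedSectionVars false

namespace Cfsg.Agent.Pres

open Subgroup Equiv Matrix Sum
open scoped commutatorElement MatrixGroups

variable {F G I : Type*} [Field F] [Group G] [DecidableEq I] [Fintype I]
  {D : UD (I ⊕ I) F} {π : G →* HH (I ⊕ I) F} {ψ : SpecialLinearGroup I F →* G}

theorem w_mul_w {a b : I} (h : a ≠ b) {s t : F} (hs : s ≠ 0) (ht : t ≠ 0) :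
    (slSt I F).w a b s * (slSt I F).w a b (-t) = dg (s / t) a b := sl_ext' fun v i => by
  simp only [StA.w, slSt, map_mul, Module.End.mul_apply, slρ_tr _ _ h, slρ_tr _ _ h.symm, Pi.add_apply, Pi.smul_apply,
    Pi.single_apply, h, h.symm, if_true, if_false, smul_eq_mul, slρ_dg (div_ne_zero hs ht) h, dv]
  split_ifs <;> simp_all <;> field_simp <;> ring

theorem dg_mul' {a b : I} (h : a ≠ b) {s t : F} (hs : s ≠ 0) (ht : t ≠ 0) : dg s a b * dg t a b = dg (s * t) a b :=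
  sl_ext' fun v i => by
    simp only [map_mul, Module.End.mul_apply, slρ_dg hs h, slρ_dg ht h, slρ_dg (mul_ne_zero hs ht) h, dv]
    split_ifs <;> ring

theorem dg_one {a b : I} (h : a ≠ b) : dg (1 : F) a b = 1 := sl_ext' fun v i => by
  simp only [slρ_dg one_ne_zero h, dv]; split_ifs <;> simp

theorem mem_norm_closure {s : Set G} {g : G} (h : ∀ x ∈ s, g * x * g⁻¹ ∈ closure s) (h' : ∀ x ∈ s, g⁻¹ * x * g ∈ closure s) :
    g ∈ normalizer (closure s : Set G) := mem_normalizer_iff.mpr fun x =>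
  ⟨fun hx => (closure_le (comap (MulAut.conj g).toMonoidHom (closure s))).mpr h hx, fun hx => by
    simpa [mul_assoc] using (closure_le (comap (MulAut.conj g⁻¹).toMonoidHom (closure s))).mpr
      (fun x hx => by simpa using h' x hx) hx⟩

theorem comm_closure {P : Subgroup G} {s : Set G} {x : G} (h : closure s ≤ normalizer (P : Set G))
    (h1 : ∀ y ∈ s, ⁅x, y⁆ ∈ P) {y : G} (hy : y ∈ closure s) : ⁅x, y⁆ ∈ P := by
  induction hy using closure_induction with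
  | mem y hy => exact h1 y hy
  | one => simp
  | mul y z hy _ h2 h3 =>
    convert mul_mem h2 (conj_mem_of_norm (h hy) h3) using 1; simp only [commutatorElement_def]; group
  | inv y hy h2 => convert conj_mem_of_norm' (h hy) (inv_mem h2) using 1; simp only [commutatorElement_def]; group

theorem conj_comm (g x y : G) : g * ⁅x, y⁆ * g⁻¹ = ⁅g * x * g⁻¹, g * y * g⁻¹⁆ := by
  simp only [commutatorElement_def]; group

variable (ψ) in
/-- torus conjugates -/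
noncomputable def yt (a b : I) (y : G) (t : F) : G := ψ (dg t a b) * y * (ψ (dg t a b))⁻¹

variable (ψ) in
/-- elements of the twisted short root group -/
noncomputable def vt (a b : I) (w : G) (t : F) : G := w * ψ (tr b a t) * w⁻¹

variable (ψ) in
/-- conjugation by the reflection -/
noncomputable def cw (a b : I) (g : G) : G := ψ (wA a b) * g * (ψ (wA a b))⁻¹

variable (ψ) in
/-- generators of the long root group -/
def YG (a b : I) (y : G) (K0 : Subfield F) (C : Set F) : Set G := {g | ∃ r ∈ K0, r ≠ 0 ∧ ∃ γ ∈ C, g = yt ψ a b y (r * γ)}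

/-- generation of the long root group -/
def UD.GenY (D : UD (I ⊕ I) F) (i : I ⊕ I) (u0 b0 : F) (K0 : Subfield F) (C : Set F) : Prop :=
  D.RY i ≤ closure {g | ∃ r ∈ K0, r ≠ 0 ∧ ∃ γ ∈ C, g = D.Y i (D.σ (r * γ) * u0) (r * γ * D.σ (r * γ) * b0)}

/-- the relations for the long root elements -/
structure ML (D : UD (I ⊕ I) F) (π : G →* HH (I ⊕ I) F) (ψ : SpecialLinearGroup I F →* G) (W : I → G) (θ : F) (a b : I)
    (y : G) (u0 b0 : F) (K0 : Subfield F) (B C : Set F) : Prop where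
  wf : WF D π ψ W θ
  ab : a ≠ b
  hL0 : D.L u0 b0
  hy : π y = D.Y (inl a) u0 b0
  C0 : ∀ γ ∈ C, γ ≠ 0
  span : ∀ P : AddSubgroup F, (∀ r ∈ K0, r ≠ 0 → ∀ β ∈ B, r * β ∈ P) → ∀ s, s ∈ P
  tor : ∀ r ∈ K0, r ≠ 0 → ∃ τ, Commute τ (W a) ∧ Commute τ y ∧ (∀ s, τ * ψ (tr b a s) * τ⁻¹ = ψ (tr b a (r * s))) ∧
    ∀ s, τ * ψ (tr a b s) * τ⁻¹ = ψ (tr a b (s / r))
  r3 : W a * W a * (W b * W b)⁻¹ = ψ (dg (-1) a b)
  yL : ∀ i j t, i ≠ j → i ≠ a → j ≠ a → Commute y (ψ (tr i j t))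
  yw : ∀ γ ∈ C, Commute (W b) (yt ψ a b y γ)
  c5 : ∀ β ∈ B, Commute y (ψ (tr a b β))
  c4a : ∀ γ ∈ C, ⁅ψ (tr a b (-γ)), cw ψ a b y⁆ * (yt ψ a b y γ)⁻¹ ∈ closure (Set.range (vt ψ a b (W a)))
  c4b : ∀ β ∈ B, ∀ γ ∈ C, γ = 1 ∧ β ∈ C ∨
    ⁅ψ (tr a b (-β)), cw ψ a b (yt ψ a b y γ)⁆ ∈ closure (Set.range (vt ψ a b (W a)) ∪ YG ψ a b y K0 C)
  c6 : ∀ β ∈ C, ∀ γ ∈ C, ⁅yt ψ a b y β, cw ψ a b (yt ψ a b y γ)⁆ ∈ closure (Set.range (vt ψ a b (W a)))
  gen : D.GenY (inl a) u0 b0 K0 C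

theorem yt_mul {a b : I} (h : a ≠ b) (y : G) {r t : F} (hr : r ≠ 0) (ht : t ≠ 0) :
    ψ (dg r a b) * yt ψ a b y t * (ψ (dg r a b))⁻¹ = yt ψ a b y (r * t) := by
  simp [yt, ← dg_mul' h hr ht, mul_assoc]

theorem yt_one {a b : I} (h : a ≠ b) (y : G) : yt ψ a b y 1 = y := by simp [yt, dg_one h]

theorem Cp.π_yt (h : Cp D π ψ) {a b : I} (ab : a ≠ b) {y : G} {u0 b0 : F} (hL : D.L u0 b0)
    (hy : π y = D.Y (inl a) u0 b0) {t : F} (ht : t ≠ 0) :
    π (yt ψ a b y t) = D.Y (inl a) (D.σ t * u0) (t * D.σ t * b0) := by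
  simpa [yt, hy, ab, ab.symm] using UD.Mon_conjY (h.dg_mon ab ht) (h.dg_apply ab ht) (i := inl a) rfl hL

theorem Cp.map_YG (h : Cp D π ψ) {a b : I} (ab : a ≠ b) {y : G} {u0 b0 : F} (hL : D.L u0 b0)
    (hy : π y = D.Y (inl a) u0 b0) {K0 : Subfield F} {C : Set F} (C0 : ∀ γ ∈ C, γ ≠ 0) (gen : D.GenY (inl a) u0 b0 K0 C) :
    (closure (YG ψ a b y K0 C)).map π = D.RY (inl a) := by
  refine le_antisymm (map_le_iff_le_comap.mpr ((closure_le _).mpr ?_)) (gen.trans ((closure_le _).mpr ?_)) <;>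
    rintro _ ⟨r, hr, r0, γ, hγ, rfl⟩ <;> have := h.π_yt ab hL hy (mul_ne_zero r0 (C0 γ hγ))
  · exact ⟨_, _, D.L_smul hL (D.σ (r * γ)), by rw [this, D.σσ, mul_comm (D.σ _) (r * γ)]⟩
  · exact ⟨_, subset_closure ⟨r, hr, r0, γ, hγ, rfl⟩, this⟩

namespace WF

variable {W : I → G} {θ : F} (h : WF D π ψ W θ) {a b : I} (ab : a ≠ b)
include h ab

theorem W_N (i : I) : (W i, sc i) ∈ (h.toSC ab).N := (h.toSC ab).Θ_N (W_mem i)

theorem π_conj {i j : I} (ij : i ≠ j) (t : F) : π (W j * ψ (tr i j t) * (W j)⁻¹) = D.X (inl i) (inr j) (-(θ * t)) := by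
  rw [map_mul, map_mul, map_inv, h.cp _ _ _ ij, UD.Mon_conjX (h.mon j) (h.hπ j ▸ D.nY_ee (inl j) h.θ0) (D2_inl ij)
    (i' := inl i) (j' := inr j) (by simp [sc_inl, ij]) (by simp [sc_inl])]
  simp [ij, div_neg]

theorem conj_X {i j : I} (ij : i ≠ j) (t : F) : W j * ψ (tr i j t) * (W j)⁻¹ ∈ (h.toSC ab).X (inl i) (inr j) :=
  SC.X_conj (h.W_N ab j) (by simp [sc_inl, ij]) (by simp [sc_inl]) ((h.toSC ab).tr_X ij t)

theorem X_eq : (h.toSC ab).X (inl a) (inr b) = closure (Set.range (vt ψ a b (W a))) := by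
  rw [← (h.toSC ab).X_symm (x := inl a) (y := inr b) (D2_iff.mpr ab)]
  refine le_antisymm (fun u hu => ?_) ((closure_le _).mpr (by rintro _ ⟨t, rfl⟩; exact h.conj_X ab ab.symm t))
  obtain ⟨t, ht⟩ := (mem_UA ab.symm).mp ((h.toSC ab).X_inl ab.symm ▸ SC.X_conj' (h.W_N ab a) (x := inl b) (y := inl a)
    (by simp [sc_inl, ab.symm]) (by simp [sc_inl]) hu)
  exact subset_closure ⟨t, by simp [vt, ht, mul_assoc]⟩

theorem vt_eq (t : F) : vt ψ a b (W a) t = W b * ψ (tr a b (D.σ t)) * (W b)⁻¹ :=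
  (h.toSC ab).X_uniq (x := inl a) (y := inr b) (D2_iff.mpr ab) (h.X_eq ab ▸ subset_closure ⟨t, rfl⟩) (h.conj_X ab ab _) (by
    rw [vt, h.π_conj ab ab.symm, h.π_conj ab ab, D.X_symm, ← bar_inl a, D.η_bar, h.hη b a]
    simp only [map_neg, map_mul, UD.σ_θ (inl a) h.hθ, bar_bar, bar_inl]
    congr 1
    linear_combination (-θ * D.σ t * D.ε * D.ε) * D.η_sq (inl a) - θ * D.σ t * D.ε_sq (inl a))

theorem mem_V {u : G} : u ∈ closure (Set.range (vt ψ a b (W a))) ↔ ∃ t, vt ψ a b (W a) t = u := by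
  refine ⟨fun hu => ?_, fun hu => subset_closure hu⟩
  obtain ⟨t, ht⟩ := (mem_UA ab.symm).mp ((closure_le ((UA ψ b a).comap (MulAut.conj (W a)⁻¹).toMonoidHom)).mpr (by
    rintro _ ⟨t, rfl⟩; simpa [vt, mul_assoc] using tr_UA ψ b a t) hu)
  exact ⟨t, by simp [vt, ht, mul_assoc]⟩

end WF

namespace ML

variable {W : I → G} {θ : F} {a b : I} {y : G} {u0 b0 : F} {K0 : Subfield F} {B C : Set F}
  (h : ML D π ψ W θ a b y u0 b0 K0 B C)
include h

theorem tor' {r : F} (hr : r ∈ K0) (r0 : r ≠ 0) : ∃ τ τ' : G, (∀ t, t ≠ 0 → Commute τ (yt ψ a b y t)) ∧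
    (∀ t, t ≠ 0 → τ' * yt ψ a b y t * τ'⁻¹ = yt ψ a b y (r * t)) ∧
    (∀ t, t ≠ 0 → Commute τ' (cw ψ a b (yt ψ a b y t))) ∧
    (∀ t, t ≠ 0 → τ * cw ψ a b (yt ψ a b y t) * τ⁻¹ = cw ψ a b (yt ψ a b y (r * t))) ∧
    (∀ s, τ * ψ (tr a b s) * τ⁻¹ = ψ (tr a b (s / r))) ∧ (∀ s, τ' * ψ (tr a b s) * τ'⁻¹ = ψ (tr a b (r * s))) ∧
    (∀ s, τ * vt ψ a b (W a) s * τ⁻¹ = vt ψ a b (W a) (r * s)) ∧
    (∀ s, τ' * vt ψ a b (W a) s * τ'⁻¹ = vt ψ a b (W a) (D.σ r * s)) ∧ Commute τ' (W b) := by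
  obtain ⟨τ, h1, h2, h3, h4⟩ := h.tor r hr r0
  have ab := h.ab
  have h5 : ∀ t, τ * ψ ((slSt I F).w a b t) * τ⁻¹ = ψ ((slSt I F).w a b (t / r)) := fun t => by
    simp only [StA.w, slSt, map_mul, ← h4, show -(t / r)⁻¹ = r * -t⁻¹ by rw [inv_div]; ring, ← h3]; group
  have h6 : ∀ t, t ≠ 0 → Commute τ (ψ (dg t a b)) := fun t ht => mul_inv_eq_iff_eq_mul.mp (by
    have := w_mul_w ab (div_ne_zero ht r0) (div_ne_zero one_ne_zero r0)
    rw [div_div_div_cancel_right₀ r0, div_one, ← neg_div] at this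
    conv_rhs => rw [← this, map_mul, ← h5, ← h5]
    rw [dg_eq_w ht ab, map_mul]; group)
  have h7 : cw ψ a b τ = ψ (dg r a b) * τ := by
    have := w_mul_w ab one_ne_zero (div_ne_zero one_ne_zero r0)
    rw [one_div_one_div, (slSt I F).w_neg ab] at this
    rw [← this, map_mul, map_inv, ← h5, cw, wA_eq]; group
  have h8 : cw ψ a b (cw ψ a b τ) = τ := by
    have := (h6 (-1) (by simp)).eq
    rw [← wA_sq ab, sq, map_mul] at this
    calc _ = ψ (wA a b) * ψ (wA a b) * τ * (ψ (wA a b) * ψ (wA a b))⁻¹ := by simp only [cw]; group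
      _ = τ := by rw [← this, mul_inv_cancel_right]
  have g1 : ∀ t, t ≠ 0 → Commute τ (yt ψ a b y t) := fun t ht => ((h6 t ht).mul_right h2).mul_right (h6 t ht).inv_right
  have g2 : ∀ t, t ≠ 0 → cw ψ a b τ * yt ψ a b y t * (cw ψ a b τ)⁻¹ = yt ψ a b y (r * t) := fun t ht => by
    rw [h7, ← yt_mul ab y r0 ht, mul_assoc _ τ, (g1 t ht).eq]; group
  have g6 : ∀ s, cw ψ a b τ * ψ (tr a b s) * (cw ψ a b τ)⁻¹ = ψ (tr a b (r * s)) := fun s => by
    have := dg_tr r0 ab ab (s / r)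
    simp only [dv, if_true, ab.symm, if_false, inv_inv] at this
    rw [h7, show r * s = r * r * (s / r) by field_simp, ← this, map_mul, map_mul, ← h4, map_inv]; group
  have g9 : Commute (cw ψ a b τ) (W b) := by
    simpa [h.wf.conj _ _ (wA_Sm ab) a, cw] using h1.map (MulAut.conj (ψ (wA a b)))
  refine ⟨τ, cw ψ a b τ, g1, g2, fun t ht => (g1 t ht).map (MulAut.conj (ψ (wA a b))), fun t ht => ?_, h4, g6,
    fun s => ?_, fun s => ?_, g9⟩
  · conv_lhs => rw [← h8]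
    rw [← g2 t ht]; simp only [cw]; group
  · rw [vt, vt, ← h3, ← mul_assoc, ← mul_assoc, ← mul_assoc, h1.eq, mul_assoc, mul_assoc _ τ⁻¹, h1.inv_inv.eq]; group
  · rw [h.wf.vt_eq ab, h.wf.vt_eq ab, map_mul D.σ, D.σσ, ← g6, ← mul_assoc, ← mul_assoc, ← mul_assoc, g9.eq, mul_assoc,
      mul_assoc _ (cw ψ a b τ)⁻¹, g9.inv_inv.eq]; group

theorem yL' {i j : I} (ij : i ≠ j) (ia : i ≠ a) (ja : j ≠ a) {t : F} (ht : t ≠ 0) (s : F) :
    Commute (yt ψ a b y t) (ψ (tr i j s)) := by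
  have := dg_tr ht h.ab ij ((dv t a b i * (dv t a b j)⁻¹)⁻¹ * s)
  rw [mul_inv_cancel_left₀ (mul_ne_zero (dv_ne ht _ _ _) (inv_ne_zero (dv_ne ht _ _ _)))] at this
  rw [← this, map_mul, map_mul, map_inv]
  exact (h.yL i j _ ij ia ja).map (MulAut.conj (ψ (dg t a b)))

theorem comm_Y {g : G} (H : ∀ r ∈ K0, r ≠ 0 → ∀ γ ∈ C, Commute (yt ψ a b y (r * γ)) g) {x : G}
    (hx : x ∈ closure (YG ψ a b y K0 C)) : Commute x g :=
  mem_centralizer_singleton_iff.mp ((closure_le (centralizer {g})).mpr (by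
    rintro _ ⟨r, hr, r0, γ, hγ, rfl⟩; exact mem_centralizer_singleton_iff.mpr (H r hr r0 γ hγ)) hx)

theorem c5' (i j : I) (ij : i ≠ j) (ia : i ≠ a) (ja : j ≠ a) : ∀ x ∈ closure (YG ψ a b y K0 C), ∀ t,
    Commute x (ψ (tr i j t)) := fun _ hx t =>
  h.comm_Y (fun _ _ r0 γ hγ => h.yL' ij ia ja (mul_ne_zero r0 (h.C0 γ hγ)) t) hx

theorem c5a : ∀ x ∈ closure (YG ψ a b y K0 C), ∀ t, Commute x (ψ (tr a b t)) := fun _ hx t => by
  have key : ∀ s, Commute y (ψ (tr a b s)) := h.span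
    { carrier := {s | Commute y (ψ (tr a b s))}
      zero_mem' := by simp [show tr a b (0 : F) = 1 from (slSt I F).x_zero h.ab]
      add_mem' := fun {s t} h1 h2 => by
        simpa [show tr a b (s + t) = tr a b s * tr a b t from (slSt I F).add h.ab s t] using h1.mul_right h2
      neg_mem' := fun {s} h1 => by
        simpa [show tr a b (-s) = (tr a b s)⁻¹ from (slSt I F).x_neg h.ab s] using h1.inv_right } fun r hr r0 β hβ => by
    obtain ⟨τ, -, h2, -, h4⟩ := h.tor _ (inv_mem hr) (inv_ne_zero r0)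
    simpa [h4, mul_inv_eq_iff_eq_mul.mpr h2.eq, mul_comm β] using (h.c5 β hβ).map (MulAut.conj τ)
  refine h.comm_Y (fun r _ r0 γ hγ => ?_) hx
  have ht := mul_ne_zero r0 (h.C0 γ hγ)
  have := dg_tr ht h.ab h.ab ((dv (r * γ) a b a * (dv (r * γ) a b b)⁻¹)⁻¹ * t)
  rw [mul_inv_cancel_left₀ (mul_ne_zero (dv_ne ht _ _ _) (inv_ne_zero (dv_ne ht _ _ _)))] at this
  rw [← this, map_mul, map_mul, map_inv]
  exact (key _).map (MulAut.conj (ψ (dg _ a b)))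

theorem norm_of {r : F} (hr : r ∈ K0) (r0 : r ≠ 0) {g : G} (H : ∀ t, t ≠ 0 → g * yt ψ a b y t * g⁻¹ = yt ψ a b y (r * t)) :
    g ∈ normalizer (closure (YG ψ a b y K0 C) : Set G) := mem_norm_closure (by
  rintro _ ⟨s, hs, s0, γ, hγ, rfl⟩
  exact subset_closure ⟨r * s, mul_mem hr hs, mul_ne_zero r0 s0, γ, hγ, by
    rw [H _ (mul_ne_zero s0 (h.C0 γ hγ)), mul_assoc]⟩) (by
  rintro _ ⟨s, hs, s0, γ, hγ, rfl⟩
  refine subset_closure ⟨s / r, div_mem hs hr, div_ne_zero s0 r0, γ, hγ, ?_⟩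
  rw [show s * γ = r * (s / r * γ) by field_simp, ← H _ (mul_ne_zero (div_ne_zero s0 r0) (h.C0 γ hγ))]; group)

theorem nrm : (h.wf.toSC h.ab).Nrm (closure (YG ψ a b y K0 C)) := by
  have ab := h.ab
  let Z := centralizer (closure (YG ψ a b y K0 C) : Set G)
  have h1 : ∀ i j, i ≠ j → i ≠ a → j ≠ a → ∀ t, tr i j t ∈ Z.comap ψ := fun i j h1 h2 h3 t x hx =>
    h.c5' i j h1 h2 h3 x hx t
  have h2 : ∀ i j, i ≠ j → i ≠ a → j ≠ a → wA i j ∈ Z.comap ψ := fun i j e1 e2 e3 =>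
    mul_mem (mul_mem (h1 i j e1 e2 e3 _) (h1 j i e1.symm e3 e2 _)) (h1 i j e1 e2 e3 _)
  have h3 := h.norm_of (neg_mem (one_mem _)) (by simp) fun t ht => yt_mul (ψ := ψ) ab y (by simp) ht
  have h4 : W b ∈ Z := fun x hx => h.comm_Y (fun r hr r0 γ hγ => by
    obtain ⟨-, τ, -, e1, -, -, -, -, -, -, e2⟩ := h.tor' hr r0
    rw [← e1 γ (h.C0 γ hγ)]
    exact (e2.mul_left (h.yw γ hγ).symm).mul_left e2.inv_left) hx
  intro g w hN e
  obtain ⟨p, hp, A, σ, hA, e0⟩ := SC.N_ex _ hN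
  obtain ⟨rfl, rfl⟩ := Prod.ext_iff.mp e0
  obtain ⟨e1, e2⟩ := SC.N_fix hp e
  have h5 : W a * W a ∈ normalizer (closure (YG ψ a b y K0 C) : Set G) := by
    rw [mul_inv_eq_iff_eq_mul.mp h.r3]; exact mul_mem h3 (centralizer_le_normalizer _ (mul_mem h4 h4))
  refine fun x => conj_mem_of_norm (mul_mem (h.wf.stab (fun i hi _ => centralizer_le_normalizer _ ?_) h5 h5 hp e2 e2)
    (Sm_stab (C := comap ψ (normalizer (closure (YG ψ a b y K0 C) : Set G))) (P := (· = a)) (dg_all a fun k hk => ?_)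
      (fun i j e1 e2 e3 => centralizer_le_normalizer _ (h2 i j e1 e2 e3)) hA (by rintro _ rfl; exact e1)))
  · by_cases e : b = i
    · exact e ▸ h4
    have := h.wf.conj _ _ (wA_Sm e) b
    rw [swap_apply_left] at this
    exact this ▸ mul_mem (mul_mem (h2 _ _ e ab.symm hi) h4) (inv_mem (h2 _ _ e ab.symm hi))
  · by_cases e : b = k
    · exact e ▸ h3
    rw [← dg_mul (by simp) ab e hk]
    exact mul_mem (s := comap ψ _) h3 (centralizer_le_normalizer _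
      (dg_mem e (h1 _ _ e ab.symm hk.symm) (h1 _ _ (Ne.symm e) hk.symm ab.symm) (by simp)))

theorem map_Y : (closure (YG ψ a b y K0 C)).map π = D.RY (inl a) := h.wf.cp.map_YG h.ab h.hL0 h.hy h.C0 h.gen

theorem Y_b : (h.wf.toSC h.ab).Y (closure (YG ψ a b y K0 C)) (inl b) = closure (cw ψ a b '' YG ψ a b y K0 C) := by
  have hN := (h.wf.toSC h.ab).Sm_N (wA_Sm h.ab)
  have he : dp (swap a b) (some (inl a)) = some (inl b) := by simp
  refine le_antisymm (fun x hx => ?_) ((closure_le _).mpr ?_)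
  · have := mem_map_of_mem (MulAut.conj (ψ (wA a b))).toMonoidHom ((SC.Y_self h.nrm).le (SC.Y_conj' hN he hx))
    rw [MonoidHom.map_closure] at this
    exact mem_cc this
  · rintro _ ⟨x, hx, rfl⟩
    exact SC.Y_conj hN he ((SC.Y_self h.nrm).ge (subset_closure hx))

theorem c5g {i j k : I ⊕ I} (hd : D2 j k) (e1 : j ≠ bar i) (e2 : k ≠ i) :
    ∀ x ∈ (h.wf.toSC h.ab).Y (closure (YG ψ a b y K0 C)) i, ∀ u ∈ (h.wf.toSC h.ab).X j k, Commute x u :=
  SC.c5 h.nrm h.c5a h.c5' hd e1 e2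

theorem YV : ∀ x ∈ closure (YG ψ a b y K0 C), ∀ u ∈ closure (Set.range (vt ψ a b (W a))), Commute x u := fun x hx u hu =>
  h.c5g (i := inl a) (j := inl a) (k := inr b) (D2_iff.mpr h.ab) (by simp) (by simp) x ((SC.Y_self h.nrm).ge hx) u (h.wf.X_eq h.ab ▸ hu)

theorem YV' : ∀ x ∈ closure (cw ψ a b '' YG ψ a b y K0 C), ∀ u ∈ closure (Set.range (vt ψ a b (W a))), Commute x u :=
  fun x hx u hu => h.c5g (i := inl b) (j := inl b) (k := inr a) (D2_iff.mpr h.ab.symm) (by simp) (by simp) x (h.Y_b ▸ hx) u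
    (by rw [← SC.X_symm _ (x := inl b) (y := inr a) (D2_iff.mpr h.ab.symm)]; exact h.wf.X_eq h.ab ▸ hu)

theorem fb : FB D.σ K0 (fun s t => ⁅ψ (tr a b s), vt ψ a b (W a) t⁆) (closure (YG ψ a b y K0 C)) where
  z1 t := by simp [show tr a b (0 : F) = 1 from (slSt I F).x_zero h.ab]
  z2 t := by simp [vt, show tr b a (0 : F) = 1 from (slSt I F).x_zero h.ab.symm]
  a1 s s' t e := by
    rw [show tr a b (s' + s) = tr a b s' * tr a b s from (slSt I F).add h.ab _ _, map_mul,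
      ← mul_inv_eq_iff_eq_mul.mpr (h.c5a _ e s').symm.eq]
    simp only [commutatorElement_def]; group
  a2 s t t' e := by
    rw [show vt ψ a b (W a) (t + t') = vt ψ a b (W a) t * vt ψ a b (W a) t' by
      simp [vt, show tr b a (t + t') = tr b a t * tr b a t' from (slSt I F).add h.ab.symm _ _, mul_assoc],
      ← mul_inv_eq_iff_eq_mul.mpr (h.YV _ e _ (subset_closure ⟨t, rfl⟩)).symm.eq]
    simp only [commutatorElement_def]; group
  a3 r hr r0 s t e := by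
    obtain ⟨τ, -, e1, -, -, -, e2, -, e3, -⟩ := h.tor' hr r0
    rw [← e2, ← e3, ← conj_comm, ← (h.comm_Y (fun r hr r0 γ hγ => (e1 _ (mul_ne_zero r0 (h.C0 γ hγ))).symm) e).eq,
      mul_inv_cancel_right]
  a4 r hr r0 s t := by
    obtain ⟨-, τ, -, e1, -, -, -, e2, -, e3, -⟩ := h.tor' hr r0
    rw [← e2, ← e3, ← conj_comm]
    exact ⟨conj_mem_of_norm (h.norm_of hr r0 e1), fun e => by simp [e]⟩

end ML

end Cfsg.Agent.Pres
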