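import Mathlib
import Cfsg.Agent.Pres.TC3

/-! Injectivity for the symplectic and unitary relations. -/

set_option autoImplicit false
set_option linter.unusedSectionVars false

namespace Cfsg.Agent.Pres

open Subgroup Equiv Matrix Sum
open scoped commutatorElement MatrixGroups

variable {F G I : Type*} [Field F] [Group G] [DecidableEq I] [Fintype I]
  {D : UD (I ⊕ I) F} {π : G →* HH (I ⊕ I) F} {ψ : SpecialLinearGroup I F →* G}

theorem UD.tri {J : Type*} [Bar J] [DecidableEq J] [Fintype J] {D : UD J F} {i j : J} (h : D2 i j) {s t u c : F}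
    (e : D.Y i u c * D.X j (bar i) t * D.X i j s = 1) : s = 0 ∧ t = 0 ∧ u = 0 ∧ c = 0 := by
  have := fun x => congrArg (fun g : HH J F => g (ee (some (bar i))) x) e
  have h1 := this none
  have h2 := this (some j)
  have h3 := this (some (bar j))
  have h4 := this (some i)
  simp [D.X_apply h, D.X_apply h.symm.barr, UD.Y_apply, h.all, D.η_ne] at h1 h2 h3 h4
  simp_all

theorem comm_mul_left (x x' z : G) : ⁅x * x', z⁆ = x * ⁅x', z⁆ * x⁻¹ * ⁅x, z⁆ := by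
  simp only [commutatorElement_def]; group

theorem comm_inv_left (x z : G) : ⁅x⁻¹, z⁆ = x⁻¹ * ⁅x, z⁆⁻¹ * x := by simp only [commutatorElement_def]; group

theorem WF.π_f {W : I → G} {θ : F} (h : WF D π ψ W θ) {a b : I} (ab : a ≠ b) (s t : F) :
    π ⁅ψ (tr a b s), vt ψ a b (W a) t⁆ = D.Y (inl a) 0 (-(θ * (s * t + D.σ (s * t)))) := by
  rw [map_commutatorElement, vt, h.π_conj ab ab.symm, h.cp _ _ _ ab, ← bar_inl a, D.XX_long (D2_inl ab)]
  simp only [map_neg, map_mul, UD.σ_θ (inl a) h.hθ]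
  congr 1
  linear_combination (-θ * D.σ s * D.σ t) * D.ε_sq (inl a)

theorem Cp.π_cw (h : Cp D π ψ) (hη : ∀ a b, D.η (inl a) = D.η (inl b)) {a b : I} (ab : a ≠ b) {y : G} {u0 b0 : F}
    (hL : D.L u0 b0) (hy : π y = D.Y (inl a) u0 b0) : π (cw ψ a b y) = D.Y (inl b) (-u0) b0 := by
  obtain ⟨d, h1, h2, -, h3⟩ := h.Sm_apply hη (wA_Sm ab)
  have h4 : d (some (inl a)) = -1 := by
    have := congrFun (h1 (some (inl a))) (some (inl b))
    simpa [wA, h _ _ _ ab, h _ _ _ ab.symm, D.X_apply (D2_inl ab), D.X_apply (D2_inl ab.symm), ab, ab.symm, eq_comm]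
      using this
  have h5 : d (some (inr a)) = -1 := (h2 (some (inl a))).trans h4
  simpa [cw, hy, h3, h4, h5, div_neg] using UD.Mon_conjY (h.Sm_mon (wA_Sm ab)) h1 (i := inl a) (i' := inl b) (by simp) hL

namespace ML

variable {W : I → G} {θ : F} {a b : I} {y : G} {u0 b0 : F} {K0 : Subfield F} {B C : Set F}
  (h : ML D π ψ W θ a b y u0 b0 K0 B C)
include h

theorem norm_V {r : F} (r0 : r ≠ 0) {g : G} (H : ∀ s, g * vt ψ a b (W a) s * g⁻¹ = vt ψ a b (W a) (r * s)) :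
    g ∈ normalizer (closure (Set.range (vt ψ a b (W a))) : Set G) := mem_norm_closure
  (by rintro _ ⟨s, rfl⟩; exact subset_closure ⟨_, (H s).symm⟩) (by
  rintro _ ⟨s, rfl⟩
  exact subset_closure ⟨s / r, by rw [show s = r * (s / r) by field_simp, ← H, mul_div_cancel_left₀ _ r0]; group⟩)

theorem c6' : ∀ x ∈ closure (YG ψ a b y K0 C), ∀ x' ∈ closure (cw ψ a b '' YG ψ a b y K0 C),
    ⁅x, x'⁆ ∈ closure (Set.range (vt ψ a b (W a))) := fun x hx x' hx' => by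
  refine comm_closure (fun z hz => centralizer_le_normalizer _ fun u hu => (h.YV' z hz u hu).symm) ?_ hx'
  rintro _ ⟨_, ⟨r', hr', r0', γ', hγ', rfl⟩, rfl⟩
  refine comm_swap (comm_closure (fun z hz => centralizer_le_normalizer _ fun u hu => (h.YV z hz u hu).symm) ?_ hx)
  rintro _ ⟨r, hr, r0, γ, hγ, rfl⟩
  obtain ⟨τ, -, e1, -, -, e2, -, -, e3, -⟩ := h.tor' hr' r0'
  obtain ⟨-, τ', -, f1, f2, -, -, -, -, f3, -⟩ := h.tor' hr r0
  have := conj_mem_of_norm (h.norm_V (by simpa) f3) (conj_mem_of_norm (h.norm_V r0' e3) (h.c6 γ hγ γ' hγ'))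
  rw [conj_comm, conj_comm, e2 _ (h.C0 _ hγ'), mul_inv_eq_iff_eq_mul.mpr (e1 _ (h.C0 _ hγ)).eq, f1 _ (h.C0 _ hγ),
    mul_inv_eq_iff_eq_mul.mpr (f2 _ (mul_ne_zero r0' (h.C0 _ hγ'))).eq] at this
  exact comm_swap this

variable (hF : FC D.σ (fun s t => ⁅ψ (tr a b s), vt ψ a b (W a) t⁆) (closure (YG ψ a b y K0 C)))
include hF

theorem c4' (s : F) : ∀ x ∈ closure (cw ψ a b '' YG ψ a b y K0 C),
    ⁅ψ (tr a b s), x⁆ ∈ closure (Set.range (vt ψ a b (W a))) ⊔ closure (YG ψ a b y K0 C) := fun x hx => by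
  have key : ∀ {g}, (∀ u ∈ closure (Set.range (vt ψ a b (W a))), g * u * g⁻¹ ∈ closure (Set.range (vt ψ a b (W a))) ⊔
      closure (YG ψ a b y K0 C)) → (∀ u ∈ closure (YG ψ a b y K0 C), g * u * g⁻¹ ∈ closure (Set.range (vt ψ a b (W a))) ⊔
      closure (YG ψ a b y K0 C)) → ∀ u ∈ closure (Set.range (vt ψ a b (W a))) ⊔ closure (YG ψ a b y K0 C),
      g * u * g⁻¹ ∈ closure (Set.range (vt ψ a b (W a))) ⊔ closure (YG ψ a b y K0 C) := fun {g} h1 h2 u hu =>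
    mem_comap.mp (sup_le (c := comap (MulAut.conj g).toMonoidHom _) h1 h2 hu)
  have k1 := fun s => key (g := ψ (tr a b s)) (fun u hu => by
    obtain ⟨t, rfl⟩ := (h.wf.mem_V h.ab).mp hu
    simpa [commutatorElement_def] using mul_mem (mem_sup_right (hF.all s t)) (mem_sup_left hu)) fun u hu => by
    rw [← (h.c5a u hu s).eq, mul_inv_cancel_right]; exact mem_sup_right hu
  refine comm_closure (le_norm_of fun z hz => key (fun u hu => by
    rw [(h.YV' z hz u hu).eq, mul_inv_cancel_right]; exact mem_sup_left hu) fun u hu => by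
    simpa [commutatorElement_def] using mul_mem (mem_sup_left (comm_swap (h.c6' u hu z hz))) (mem_sup_right hu)) ?_ hx
  rintro _ ⟨_, ⟨r, hr, r0, γ, hγ, rfl⟩, rfl⟩
  obtain ⟨τ, -, e1, -, -, e2, e3, -, e4, -⟩ := h.tor' hr r0
  rw [← e2 _ (h.C0 _ hγ), show s = s * r / r by field_simp, ← e3, ← conj_comm]
  refine key (fun u hu => mem_sup_left (conj_mem_of_norm (h.norm_V r0 e4) hu)) (fun u hu => by
    rw [← (h.comm_Y (fun r hr r0 γ hγ => (e1 _ (mul_ne_zero r0 (h.C0 γ hγ))).symm) hu).eq, mul_inv_cancel_right]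
    exact mem_sup_right hu) _ (neg_neg (s * r) ▸ h.span
    { carrier := {s | ⁅ψ (tr a b (-s)), cw ψ a b (yt ψ a b y γ)⁆ ∈
        closure (Set.range (vt ψ a b (W a))) ⊔ closure (YG ψ a b y K0 C)}
      zero_mem' := by simp [show tr a b (0 : F) = 1 from (slSt I F).x_zero h.ab]
      add_mem' := fun {s t} h1 h2 => by
        rw [Set.mem_setOf, neg_add, show tr a b (-s + -t) = tr a b (-s) * tr a b (-t) from (slSt I F).add h.ab _ _,
          map_mul, comm_mul_left]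
        exact mul_mem (k1 _ _ h2) h1
      neg_mem' := fun {s} h1 => by
        have := k1 (- -s) _ (inv_mem h1)
        rw [show tr a b (- -s) = (tr a b (-s))⁻¹ from (slSt I F).x_neg h.ab _, map_inv, inv_inv] at this
        rwa [Set.mem_setOf, show tr a b (- -s) = (tr a b (-s))⁻¹ from (slSt I F).x_neg h.ab _, map_inv, comm_inv_left] }
    (fun r hr r0 β hβ => ?_) _)
  obtain ⟨-, τ, -, e1, e2, -, -, e3, -, e4, -⟩ := h.tor' hr r0
  show ⁅ψ (tr a b (-(r * β))), cw ψ a b (yt ψ a b y γ)⁆ ∈ closure (Set.range (vt ψ a b (W a))) ⊔ closure (YG ψ a b y K0 C)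
  rw [← mul_neg, ← e3, ← mul_inv_eq_iff_eq_mul.mpr (e2 _ (h.C0 _ hγ)).eq, ← conj_comm]
  refine key (fun u hu => mem_sup_left (conj_mem_of_norm (h.norm_V (by simpa) e4) hu))
    (fun u hu => mem_sup_right (conj_mem_of_norm (h.norm_of hr r0 e1) hu)) _ ?_
  rcases h.c4b β hβ γ hγ with ⟨rfl, e⟩ | e
  · rw [yt_one h.ab]
    simpa using mul_mem (mem_sup_left (h.c4a β e)) (mem_sup_right (show yt ψ a b y β ∈ closure (YG ψ a b y K0 C) from
      subset_closure ⟨1, one_mem _, one_ne_zero, β, e, by rw [one_mul]⟩))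
  · rwa [← Subgroup.closure_union]

theorem normal_form {g : G} (hg : g ∈ closure (Set.range (vt ψ a b (W a))) ⊔ UA ψ a b) :
    ∃ s t c, g = ⁅ψ (tr a b 1), vt ψ a b (W a) c⁆ * vt ψ a b (W a) t * ψ (tr a b s) := by
  let Z : Subgroup G :=
    { carrier := Set.range fun c => ⁅ψ (tr a b 1), vt ψ a b (W a) c⁆
      one_mem' := ⟨0, h.fb.z2 1⟩
      mul_mem' := by rintro _ _ ⟨c, rfl⟩ ⟨c', rfl⟩; exact ⟨_, h.fb.a2 _ _ _ (hF.all _ _)⟩
      inv_mem' := by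
        rintro _ ⟨c, rfl⟩
        exact ⟨-c, eq_inv_of_mul_eq_one_left ((h.fb.a2 1 (-c) c (hF.all _ _)).symm.trans (by simpa using h.fb.z2 1))⟩ }
  have hZ : Z ≤ closure (YG ψ a b y K0 C) := by rintro _ ⟨c, rfl⟩; exact hF.all _ _
  obtain ⟨k, hk, u, hu, rfl⟩ := mem_sup_norm (K := Z ⊔ closure (Set.range (vt ψ a b (W a)))) (L := UA ψ a b)
    (le_norm_of fun u hu x hx => by
      obtain ⟨s, rfl⟩ := (mem_UA h.ab).mp hu
      refine mem_comap.mp (sup_le (c := comap (MulAut.conj (ψ (tr a b s))).toMonoidHom _) (fun z hz => ?_)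
        (fun v hv => ?_) hx)
      · simpa [← (h.c5a z (hZ hz) s).eq] using mem_sup_left hz
      · obtain ⟨t, rfl⟩ := (h.wf.mem_V h.ab).mp hv
        obtain ⟨c, hc⟩ := hF.bal s t
        simpa [commutatorElement_def] using mul_mem (mem_sup_left (show _ ∈ Z from ⟨c, hc.symm⟩)) (mem_sup_right hv))
    (a := g) (SetLike.le_def.mp (sup_le_sup_right le_sup_right _) hg)
  obtain ⟨_, ⟨c, rfl⟩, v, hv, rfl⟩ := mem_sup_norm (le_norm_of fun v hv z hz => by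
    rwa [← (h.YV z (hZ hz) v hv).eq, mul_inv_cancel_right]) hk
  obtain ⟨t, rfl⟩ := (h.wf.mem_V h.ab).mp hv
  obtain ⟨s, rfl⟩ := (mem_UA h.ab).mp hu
  exact ⟨s, t, c, rfl⟩

theorem inj_H {g : G} (hg : g ∈ closure (Set.range (vt ψ a b (W a))) ⊔ UA ψ a b) (e : π g = 1) : g = 1 := by
  obtain ⟨s, t, c, rfl⟩ := h.normal_form hF hg
  rw [map_mul, map_mul, h.wf.π_f h.ab, vt, h.wf.π_conj h.ab h.ab.symm, h.wf.cp _ _ _ h.ab] at e
  obtain ⟨rfl, e1, -, e2⟩ := UD.tri (D2_inl h.ab) e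
  obtain rfl : t = 0 := by simpa [h.wf.θ0] using e1
  have := hF.ker c (by simpa [h.wf.θ0] using e2)
  rw [this]; simp [vt, show tr a b (0 : F) = 1 from (slSt I F).x_zero h.ab,
    show tr b a (0 : F) = 1 from (slSt I F).x_zero h.ab.symm]

theorem inj_Y (h1 : 1 ∈ C) (hz : (∀ γ ∈ C, yt ψ a b y γ ∈ closure (Set.range (vt ψ a b (W a))) ⊔ UA ψ a b) ∨
    ∀ t c, D.σ t * u0 = 0 → D.σ t * t * b0 = θ * (c + D.σ c) → t = 0) :
    ∀ g ∈ closure (YG ψ a b y K0 C), π g = 1 → g = 1 := fun g hg e => h.inj_H hF (by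
  have n1 : ∀ {g}, g ∈ normalizer (closure (Set.range (vt ψ a b (W a))) : Set G) →
      (∀ s, g * ψ (tr a b s) * g⁻¹ ∈ UA ψ a b) → ∀ u ∈ closure (Set.range (vt ψ a b (W a))) ⊔ UA ψ a b,
      g * u * g⁻¹ ∈ closure (Set.range (vt ψ a b (W a))) ⊔ UA ψ a b := fun {g} h1 h2 u hu =>
    mem_comap.mp (sup_le (c := comap (MulAut.conj g).toMonoidHom _) (fun v hv => mem_sup_left (conj_mem_of_norm h1 hv))
      (fun v hv => by obtain ⟨s, rfl⟩ := (mem_UA h.ab).mp hv; exact mem_sup_right (h2 s)) hu)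
  rcases hz with hz | hz
  · refine (closure_le _).mpr ?_ hg
    rintro _ ⟨r, hr, r0, γ, hγ, rfl⟩
    obtain ⟨-, τ, -, e1, -, -, -, e3, -, e4, -⟩ := h.tor' hr r0
    exact e1 _ (h.C0 _ hγ) ▸ n1 (h.norm_V (by simpa) e4) (fun s => e3 s ▸ tr_UA _ _ _ _) _ (hz γ hγ)
  have hy : cw ψ a b y ∈ closure (cw ψ a b '' YG ψ a b y K0 C) :=
    subset_closure ⟨_, ⟨1, one_mem _, one_ne_zero, 1, h1, by rw [one_mul, yt_one h.ab]⟩, rfl⟩
  have n2 : ∀ t, ⁅ψ (tr a b t), cw ψ a b y⁆ ∈ normalizer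
      (↑(closure (Set.range (vt ψ a b (W a))) ⊔ UA ψ a b) : Set G) := fun t =>
    sup_le (le_sup_left.trans le_normalizer) (le_norm_of fun z hz => n1
      (centralizer_le_normalizer _ fun u hu => (h.YV z hz u hu).symm) fun s => by
        rw [(h.c5a z hz s).eq, mul_inv_cancel_right]; exact tr_UA _ _ _ _) (h.c4' hF t _ hy)
  let M : Subgroup G :=
    { carrier := {g | ∃ t, g * ⁅ψ (tr a b t), cw ψ a b y⁆⁻¹ ∈ closure (Set.range (vt ψ a b (W a))) ⊔ UA ψ a b}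
      one_mem' := ⟨0, by simp [show tr a b (0 : F) = 1 from (slSt I F).x_zero h.ab]⟩
      mul_mem' := fun {g g'} ⟨t, ht⟩ ⟨s, hs⟩ => ⟨s + t, by
        rw [show tr a b (s + t) = tr a b s * tr a b t from (slSt I F).add h.ab _ _, map_mul, comm_mul_left]
        convert mul_mem (mul_mem ht (conj_mem_of_norm (n2 t) (mul_mem hs (mem_sup_right (tr_UA ψ a b s)))))
          (mem_sup_right (inv_mem (tr_UA ψ a b s))) using 1
        group⟩
      inv_mem' := fun {g} ⟨t, ht⟩ => ⟨-t, by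
        rw [show tr a b (-t) = (tr a b t)⁻¹ from (slSt I F).x_neg h.ab _, map_inv, comm_inv_left]
        convert mul_mem (conj_mem_of_norm' (n2 t) (mul_mem (inv_mem ht) (mem_sup_right (inv_mem (tr_UA ψ a b t)))))
          (mem_sup_right (tr_UA ψ a b t)) using 1
        group⟩ }
  obtain ⟨t, ht⟩ : g ∈ M := (closure_le _).mpr (by
    rintro _ ⟨r, hr, r0, γ, hγ, rfl⟩
    obtain ⟨-, τ, -, e1, e2, -, -, e3, -, e4, -⟩ := h.tor' hr r0
    have := conj_mem_of_norm (h.norm_V (by simpa) e4) (inv_mem (h.c4a γ hγ))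
    have e5 := e2 1 one_ne_zero
    rw [yt_one h.ab] at e5
    refine ⟨r * -γ, mem_sup_left ?_⟩
    rw [← e3, ← e1 _ (h.C0 _ hγ), ← mul_inv_eq_iff_eq_mul.mpr e5.eq, ← conj_comm]
    convert this using 1; group) hg
  obtain ⟨s, t', c, e'⟩ := h.normal_form hF ht
  have e1 := congrArg π e'
  rw [map_mul, e, one_mul, map_inv, inv_eq_iff_mul_eq_one, map_mul, map_mul, h.wf.π_f h.ab, vt,
    h.wf.π_conj h.ab h.ab.symm, map_commutatorElement, h.wf.cp _ _ _ h.ab, h.wf.cp _ _ _ h.ab,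
    h.wf.cp.π_cw h.wf.hη h.ab h.hL0 h.hy, D.XY_rel (D2_inl h.ab) _ (by simpa using D.L_smul h.hL0 (-1)),
    mul_assoc (D.X _ _ _), ← mul_assoc (D.Y _ _ _), ← mul_assoc (D.Y _ _ _), D.Y_mul, ← mul_assoc, ← mul_assoc,
    ← (D.YX_comm (by simp) (by simp) ..).eq, D.X_symm (inl a) (bar (inl b)), bar_bar, mul_assoc (D.Y _ _ _), bar_inl,
    ← D.X_add] at e1
  obtain ⟨-, -, e2, e3⟩ := UD.tri (D2_inl h.ab) e1
  obtain rfl : t = 0 := hz t c (by simpa using e2) (by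
    rw [h.wf.hη b a, ← mul_assoc, D.η_sq] at e3; simp only [map_mul, map_one] at e3; linear_combination e3)
  simpa [show tr a b (0 : F) = 1 from (slSt I F).x_zero h.ab] using ht) e

theorem yd (h1 : 1 ∈ C) (hz : (∀ γ ∈ C, yt ψ a b y γ ∈ closure (Set.range (vt ψ a b (W a))) ⊔ UA ψ a b) ∨
    ∀ t c, D.σ t * u0 = 0 → D.σ t * t * b0 = θ * (c + D.σ c) → t = 0) :
    YD (h.wf.toSC h.ab) (closure (YG ψ a b y K0 C)) where
  H x y z w h1 h2 h3 h4 h5 h6 := (h.wf.toSC h.ab).c4_of h1 h2 h4 h5 (by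
    obtain ⟨p, hp, e, -⟩ := WΘ_real (W := W) [x, y, z, w] (by simp [h3.symm, h4.symm, *])
    exact ⟨p, hp, by simpa using e⟩)
  nrm := h.nrm
  map := h.map_Y
  inj := h.inj_Y hF h1 hz
  c3 u hu v hv := by
    obtain ⟨s, rfl⟩ := (mem_UA h.ab).mp ((h.wf.toSC h.ab).X_inl h.ab ▸ hu)
    obtain ⟨t, rfl⟩ := (h.wf.mem_V h.ab).mp (h.wf.X_eq h.ab ▸ hv)
    exact hF.all s t
  c4 u hu v hv := by
    obtain ⟨s, rfl⟩ := (mem_UA h.ab).mp ((h.wf.toSC h.ab).X_inl h.ab ▸ hu)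
    exact h.wf.X_eq h.ab ▸ h.c4' hF s v (h.Y_b ▸ hv)
  c5 := h.c5a
  c5' := h.c5'
  c6 u hu v hv := h.wf.X_eq h.ab ▸ h.c6' u hu v (h.Y_b ▸ hv)

omit hF in
theorem W_le {K : Subgroup G} (h1 : ψ.range ≤ K) (h2 : W a ∈ K) (p : G × Perm (Option (I ⊕ I))) (hp : p ∈ WΘ W) :
    p.1 ∈ K := mem_comap.mp ((closure_le (K.comap (MonoidHom.fst _ _))).mpr (by
  rintro _ ⟨i, rfl⟩
  obtain ⟨A, hA⟩ := exists_Sm (F := F) (swap a i)
  have := h.wf.conj _ _ hA a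
  rw [swap_apply_left] at this
  exact show W i ∈ K from this ▸ mul_mem (mul_mem (h1 ⟨A, rfl⟩) h2) (inv_mem (h1 ⟨A, rfl⟩))) hp)

end ML

theorem ML.top {ψ : SpecialLinearGroup I F →* D.E} {W : I → D.E} {θ : F} {a b : I} {y : D.E} {u0 b0 : F}
    {K0 : Subfield F} {B C : Set F} (h : ML D D.E.subtype ψ W θ a b y u0 b0 K0 B C) {K : Subgroup D.E} (h1 : ψ.range ≤ K)
    (h2 : W a ∈ K) (h3 : y ∈ K) : K = ⊤ :=
  X_le_top (h.wf.toSC h.ab) h1 (h.W_le h1 h2) fun i u b hL => map_mono (SC.Y_le h1 (h.W_le h1 h2) ((closure_le _).mpr (by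
    rintro _ ⟨r, -, -, γ, -, rfl⟩
    exact mul_mem (mul_mem (h1 ⟨_, rfl⟩) h3) (inv_mem (h1 ⟨_, rfl⟩)))) i) (SC.Y_map h.nrm h.map_Y i ▸ UD.Y_mem i hL)

theorem ML.inj [Finite F] {n : ℕ} {D : UD (Fin (n + 2) ⊕ Fin (n + 2)) F} {π : G →* HH (Fin (n + 2) ⊕ Fin (n + 2)) F}
    {ψ : SL(n + 2, F) →* G} {W : Fin (n + 2) → G} {θ : F} {a b : Fin (n + 2)} {y : G} {u0 b0 : F} {K0 : Subfield F}
    {B C : Set F} (h : ML D π ψ W θ a b y u0 b0 K0 B C)
    (hF : FC D.σ (fun s t => ⁅ψ (tr a b s), vt ψ a b (W a) t⁆) (closure (YG ψ a b y K0 C))) (h1 : 1 ∈ C)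
    (hz : (∀ γ ∈ C, yt ψ a b y γ ∈ closure (Set.range (vt ψ a b (W a))) ⊔ UA ψ a b) ∨
      ∀ t c, D.σ t * u0 = 0 → D.σ t * t * b0 = θ * (c + D.σ c) → t = 0)
    (hw : W a ∈ closure (YG ψ a b y K0 C ∪ (fun g => W a * g * (W a)⁻¹) '' YG ψ a b y K0 C))
    {K : Type*} [Field K] [Finite K] (ι : K →+* F) (hι : ∀ s, D.σ (ι s) = ι s) (hL : ∀ b, D.L 0 b ↔ ∃ s, b = θ * ι s)
    (hg : ψ.range ⊔ closure {W a, y} = ⊤) : Function.Injective π := by
  have h2 : ∀ x ∈ YG ψ a b y K0 C, x ∈ (h.wf.toSC h.ab).Y (closure (YG ψ a b y K0 C)) (inl a) := fun x hx =>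
    (SC.Y_self h.nrm).ge (subset_closure hx)
  refine (injective_iff_map_eq_one π).mpr fun g => (h.yd hF h1 hz).inj_C ι h.wf.θ0 hι hL
    (sup_le_sup_left ((closure_le _).mpr ?_) _ (hg ▸ mem_top g :))
  rintro _ (rfl | rfl)
  · refine (closure_le _).mpr ?_ hw
    rintro _ (hx | ⟨x, hx, rfl⟩)
    · exact le_iSup ((h.wf.toSC h.ab).Y _) (inl a) (h2 _ hx)
    · exact le_iSup ((h.wf.toSC h.ab).Y _) (inr a) (SC.Y_conj (h.wf.W_N h.ab a) (by simp [sc_inl]) (h2 _ hx))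
  · exact le_iSup ((h.wf.toSC h.ab).Y _) (inl a) (h2 _ ⟨1, one_mem _, one_ne_zero, 1, h1, by rw [one_mul, yt_one h.ab]⟩)

end Cfsg.Agent.Pres
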