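import Mathlib
import Cfsg.Agent.Pres.TC4

/-! The relations hold in the symplectic and unitary groups. -/

set_option autoImplicit false
set_option linter.unusedSectionVars false

namespace Cfsg.Agent.Pres

open Subgroup Equiv Matrix Sum Monoid
open scoped commutatorElement MatrixGroups

variable {F G I : Type*} [Field F] [Group G] [DecidableEq I] [Fintype I]

/-- images of membership relations -/
def mapL {H : Type*} [Group H] (φ : G →* H) (L : List (G × Set G)) : List (H × Set H) := L.map (Prod.map φ (Set.image φ))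

theorem PresOn.extendU {H : Type*} [Group H] {ι κ : Type} {A : Type*} [Group A] {fA : ι → A} {m : ℕ} (hA : PresOn fA m)
    (ι0 : A →* H) (g : κ → H) (hgen : ι0.range ⊔ closure (Set.range g) = ⊤)
    (L : List (Coprod A (FreeGroup κ) × Set (Coprod A (FreeGroup κ)))) (h0 : MemL (mapL (Coprod.lift ι0 (FreeGroup.lift g)) L))
    (h : ∀ (G : Type) [Group G] (ψ : A →* G) (g' : κ → G), ψ.range ⊔ closure (Set.range g') = ⊤ →
      MemL (mapL (Coprod.lift ψ (FreeGroup.lift g')) L) →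
      ∀ π : G →* H, (∀ a, π (ψ a) = ι0 a) → (∀ l, π (g' l) = g l) → Function.Injective π) :
    PresOn (Sum.elim (ι0 ∘ fA) g) (m + L.length) := by
  let ρ : FreeGroup (A ⊕ κ) →* Coprod A (FreeGroup κ) :=
    FreeGroup.lift (Sum.elim Coprod.inl fun k => Coprod.inr (FreeGroup.of k))
  have hρ : Function.Surjective ρ := fun x => by
    induction x using Coprod.induction_on with
    | inl a => exact ⟨.of (inl a), by simp [ρ]⟩
    | inr x => exact ⟨FreeGroup.map inr x, by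
        rw [show ρ (FreeGroup.map inr x) = (ρ.comp (FreeGroup.map inr)) x from rfl]; congr 1; ext; simp [ρ]⟩
    | mul x y hx hy =>
      obtain ⟨x, rfl⟩ := hx
      obtain ⟨y, rfl⟩ := hy
      exact ⟨x * y, map_mul ..⟩
  obtain ⟨s, hs⟩ := hρ.hasRightInverse
  have key : ∀ φ : Coprod A (FreeGroup κ) →* H, (L.map (Prod.map s (Set.preimage ρ))).map
      (Prod.map (φ.comp ρ) (Set.image (φ.comp ρ))) = mapL φ L := fun φ => by
    simp only [List.map_map, mapL]; congr 1; ext1 ⟨x, S⟩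
    simp [hs _, ← Set.image_image, Set.image_preimage_eq _ hρ]
  have := hA.extendM ι0 g hgen (L.map (Prod.map s (Set.preimage ρ))) (by
    rwa [show FreeGroup.lift (Sum.elim ι0 g) = (Coprod.lift ι0 (FreeGroup.lift g)).comp ρ by
      ext (a | k) <;> simp [ρ], key]) fun G _ ψ g' h1 h2 => h G ψ g' h1 (by
    rw [show FreeGroup.lift (Sum.elim ψ g') = (Coprod.lift ψ (FreeGroup.lift g')).comp ρ by
      ext (a | k) <;> simp [ρ]] at h2
    convert h2 using 1
    simp only [List.map_map, mapL]; congr 1; ext1 ⟨x, S⟩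
    simp [hs _, ← Set.image_image, Set.image_preimage_eq _ hρ])
  simpa using this

variable {D : UD (I ⊕ I) F}

theorem UD.nY_X {k : I} {θ : F} (h : D.L 0 θ) (h0 : θ ≠ 0) {i j : I ⊕ I} (ij : D2 i j) (h1 : ab i ≠ k) (h2 : ab j ≠ k)
    (t : F) : D.nY (inl k) θ * D.X i j t * (D.nY (inl k) θ)⁻¹ = D.X i j t := by
  rw [UD.Mon_conjX (UD.nY_mon (inl k) h h0) (D.nY_ee _ h0) ij (sc_fix h1) (sc_fix h2)]
  rcases i with i | i <;> rcases j with j | j <;> simp_all

theorem exists_CB {ι : SpecialLinearGroup I F →* D.E} (h : Cp D D.E.subtype ι) (hη : ∀ i j, D.η (inl i) = D.η (inl j))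
    {a b : I} (ab : a ≠ b) {θ : F} (hθ : D.L 0 θ) (θ0 : θ ≠ 0) :
    CB D D.E.subtype ι ⟨_, UD.nY_E (inl a) hθ θ0⟩ a b θ := by
  have e1 : (ι (wA a b) * ⟨_, UD.nY_E (inl a) hθ θ0⟩ * (ι (wA a b))⁻¹ : D.E).1 = D.nY (inl b) θ := by
    simpa using h.conj_nY hη (wA_Sm ab) a θ0
  have e2 : ∀ i y, (D.nY (inl i) θ ^ 2) (ee y) = (if y = some (inl i) ∨ y = some (inr i) then -1 else 1 : F) • ee y :=
    fun i y => by
      simp only [sq, LinearEquiv.mul_apply, D.nY_ee _ θ0, map_smul, bar_inl, swap_apply_self, smul_smul]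
      congr 1
      rcases y with _ | y | y
      · simp [swap_apply_def]
      all_goals by_cases e : y = i <;> simp [e, θ0, swap_apply_def]
  have m1 := fun i => UD.nY_mon (inl i) hθ θ0
  refine ⟨h, hη, ab, θ0, hθ, rfl, fun i j t h1 h2 h3 => Subtype.ext (mul_inv_eq_iff_eq_mul.mp ?_), Subtype.ext ?_,
    Subtype.ext ?_, fun i j t hij => ?_, fun A => ?_⟩
  · have := UD.nY_X hθ θ0 (D2_inl h1) h2 h3 t
    rw [← h i j t h1] at this
    exact this
  · simp only [Subgroup.coe_mul, e1]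
    refine basis_ext fun y => ?_
    simp only [LinearEquiv.mul_apply, D.nY_ee _ θ0, map_smul, bar_inl, smul_smul]
    rcases y with _ | y | y
    · simp [swap_apply_def]
    all_goals by_cases e : y = a <;> by_cases e' : y = b <;> simp_all [swap_apply_def, Ne.symm]
  · rw [Subgroup.coe_mul, Subgroup.coe_inv, Subgroup.coe_pow, Subgroup.coe_pow, e1, mul_inv_eq_iff_eq_mul]
    refine basis_ext fun y => ?_
    have := h.dg_apply ab (t := -1) (by simp) y
    simp only [Subgroup.subtype_apply] at this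
    simp only [LinearEquiv.mul_apply, e2, map_smul, this, smul_smul]
    congr 1
    rcases y with _ | y | y
    · simp
    all_goals by_cases e : y = a <;> by_cases e' : y = b <;> simp_all
  · have ij : i ≠ j := by rcases hij with ⟨rfl, rfl⟩ | ⟨rfl, rfl⟩; exacts [ab, ab.symm]
    obtain ⟨s, hs⟩ := D.RX_symm (inl j) (inl i) ▸ UD.Mon_RX (g := _ * _) (w := _ * _) (mul_mem (m1 a) (m1 b)) (D2_inl ij) (i' := inr i) (j' := inr j)
      (by rcases hij with ⟨rfl, rfl⟩ | ⟨rfl, rfl⟩ <;> simp [swap_apply_def, ij, ij.symm])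
      (by rcases hij with ⟨rfl, rfl⟩ | ⟨rfl, rfl⟩ <;> simp [swap_apply_def, ij, ij.symm]) (D.X_mem _ _ t)
    exact ⟨tr j i s, Subtype.ext ((h _ _ _ ij.symm).trans (hs.trans (by
      simp only [Subgroup.coe_mul, Subgroup.coe_inv, e1, ← h i j t ij]; rfl)))⟩
  · refine (slSt_top (K := (ι.range.comap (MulAut.conj (⟨_, UD.nY_E (inl a) hθ θ0⟩ ^ 2 : D.E)).toMonoidHom).comap ι)
      fun i j t ij => ?_).ge (mem_top A)
    obtain ⟨s, hs⟩ := UD.Mon_RX (g := _ * _) (w := _ * _) (mul_mem (m1 a) (m1 a)) (D2_inl ij) (i' := inl i) (j' := inl j)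
      (by simp) (by simp) (D.X_mem _ _ t)
    exact ⟨tr i j s, Subtype.ext ((h _ _ _ ij).trans (hs.trans (by rw [← h i j t ij, sq]; rfl)))⟩

theorem commute_inj {H : Type*} [Group H] {π : G →* H} (hπ : Function.Injective π) {x y : G} (h : Commute (π x) (π y)) :
    Commute x y := hπ (by simpa using h.eq)

section
variable {π : G →* HH (I ⊕ I) F} {ι : SpecialLinearGroup I F →* G} {W : I → G} {θ : F} (h : WF D π ι W θ) {a b : I}
  (ab : a ≠ b) (hπ : Function.Injective π)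
include h ab hπ

theorem WF.V_of {x : G} (hx : π x ∈ D.RX (inl a) (inr b)) : x ∈ closure (Set.range (vt ι a b (W a))) :=
  (mem_map_iff_mem hπ).mp (h.X_eq ab ▸ (h.toSC ab).X_map (x := inl a) (y := inr b) (D2_iff.mpr ab) ▸ hx)

theorem WF.f_one {s t : F} (e : s * t + D.σ (s * t) = 0) : ⁅ι (tr a b s), vt ι a b (W a) t⁆ = 1 :=
  hπ ((h.π_f ab s t).trans (by rw [e]; simp [UD.Y_zero]))

variable {y : G} {u0 b0 : F} (hL : D.L u0 b0) (hy : π y = D.Y (inl a) u0 b0) {K0 : Subfield F} {C : Set F}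
  (C0 : ∀ γ ∈ C, γ ≠ 0) (gen : D.GenY (inl a) u0 b0 K0 C)
include hL hy C0 gen

theorem WF.Y_of {x : G} (hx : π x ∈ D.RY (inl a)) : x ∈ closure (YG ι a b y K0 C) :=
  (mem_map_iff_mem hπ).mp (h.cp.map_YG ab hL hy C0 gen ▸ hx)

theorem WF.f_mem (s t : F) : ⁅ι (tr a b s), vt ι a b (W a) t⁆ ∈ closure (YG ι a b y K0 C) :=
  h.Y_of ab hπ hL hy C0 gen (by
    rw [map_commutatorElement, vt, h.π_conj ab ab.symm, h.cp _ _ _ ab, ← bar_inl a, D.XX_long (D2_inl ab)]
    exact UD.Y_mem _ (D.L_min _))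

theorem WF.w_mem : W a ∈ closure (YG ι a b y K0 C ∪ (fun g => W a * g * (W a)⁻¹) '' YG ι a b y K0 C) := by
  refine (mem_map_iff_mem hπ).mp (SetLike.le_def.mp (sup_le (fun x hx => ?_) (fun x hx => ?_))
    (h.hπ a ▸ UD.nY_mem (inl a) h.hθ h.θ0 :))
  · exact map_mono (closure_mono Set.subset_union_left) (h.cp.map_YG ab hL hy C0 gen ▸ hx)
  · obtain ⟨z, hz, e⟩ := h.cp.map_YG ab hL hy C0 gen ▸ UD.Mon_RY (g := (π (W a))⁻¹) (w := (sc a)⁻¹) (inv_mem (h.mon a))
      (i' := inl a) (Perm.inv_eq_iff_eq.mpr (by simp [sc_inl])) hx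
    refine ⟨W a * z * (W a)⁻¹, closure_mono Set.subset_union_right ?_, by simp [e, mul_assoc]⟩
    exact (MonoidHom.map_closure (MulAut.conj (W a)).toMonoidHom _).le (mem_map_of_mem _ hz)

theorem WF.ml {B : Set F} (span : ∀ P : AddSubgroup F, (∀ r ∈ K0, r ≠ 0 → ∀ β ∈ B, r * β ∈ P) → ∀ s, s ∈ P)
    (tor : ∀ r ∈ K0, r ≠ 0 → ∃ τ, Commute τ (W a) ∧ Commute τ y ∧
      (∀ s, τ * ι (tr b a s) * τ⁻¹ = ι (tr b a (r * s))) ∧ ∀ s, τ * ι (tr a b s) * τ⁻¹ = ι (tr a b (s / r)))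
    (r3 : W a * W a * (W b * W b)⁻¹ = ι (dg (-1) a b)) : ML D π ι W θ a b y u0 b0 K0 B C := by
  have e1 := fun {t} (ht : t ≠ 0) => h.cp.π_yt ab hL hy ht
  have l1 : ∀ t, D.L (D.σ t * u0) (t * D.σ t * b0) := fun t => by simpa [mul_comm t] using D.L_smul hL (D.σ t)
  have l2 : ∀ {u b}, D.L u b → D.L (-u) b := fun h => by simpa using D.L_smul h (-1)
  have e2 := fun {t} (ht : t ≠ 0) => h.cp.π_cw h.hη ab (l1 t) (e1 ht)
  refine ⟨h, ab, hL, hy, C0, span, tor, r3, fun i j t h1 h2 h3 => commute_inj hπ ?_, fun γ hγ => commute_inj hπ ?_,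
    fun β _ => commute_inj hπ ?_, fun γ hγ => h.V_of ab hπ ?_, fun β _ γ hγ => .inr ?_,
    fun β hβ γ hγ => h.V_of ab hπ ?_, gen⟩
  · rw [h.cp _ _ _ h1, hy]; exact D.YX_comm (by simp) (by simpa) ..
  · rw [e1 (C0 γ hγ)]
    refine mul_inv_eq_iff_eq_mul.mp ?_
    rw [UD.Mon_conjY (h.mon b) (h.hπ b ▸ D.nY_ee (inl b) h.θ0) (i := inl a) (i' := inl a) (by simp [sc_inl, ab]) (l1 γ)]
    simp [ab]
  · rw [h.cp _ _ _ ab, hy]; exact D.YX_comm (by simp) (by simpa using ab.symm) ..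
  · rw [map_mul, map_inv, map_commutatorElement, e1 (C0 γ hγ), h.cp _ _ _ ab,
      h.cp.π_cw h.hη ab hL hy, D.XY_rel (D2_inl ab) _ (l2 hL), h.hη b a, ← mul_assoc (D.η _), D.η_sq]
    simpa [mul_comm γ] using D.X_mem (inl a) (inr b) _
  · rw [Subgroup.closure_union]
    refine (mem_map_iff_mem hπ).mp ?_
    rw [map_commutatorElement, e2 (C0 γ hγ), h.cp _ _ _ ab,
      D.XY_rel (D2_inl ab) _ (l2 (l1 γ)), Subgroup.map_sup, ← h.X_eq ab,
      (h.toSC ab).X_map (x := inl a) (y := inr b) (D2_iff.mpr ab), h.cp.map_YG ab hL hy C0 gen]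
    exact mul_mem (mem_sup_left (D.X_mem _ _ _)) (mem_sup_right (UD.Y_mem _
      (by simpa using UD.L_sign (UD.L_sign (D.L_smul (l2 (l1 γ)) (D.σ (-β))) (inl b)) (inl a))))
  · rw [map_commutatorElement, e2 (C0 γ hγ), e1 (C0 β hβ), D.YY_rel (D2_inl ab) (l1 β)]
    exact D.X_mem _ _ _

end

end Cfsg.Agent.Pres
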