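import Mathlib
import Cfsg.Agent.Pres.TC5

/-! Presentations of symplectic and unitary groups of rank at least three. -/

set_option autoImplicit false
set_option linter.unusedSectionVars false

namespace Cfsg.Agent.Pres

open Subgroup Equiv Matrix Sum Monoid
open scoped commutatorElement MatrixGroups

variable {F G H I : Type*} [Field F] [Group G] [Group H] [DecidableEq I] [Fintype I]

theorem exists_two [Fintype F] (s : Finset I) (hs : 2 ≤ s.card) : ∃ A1 A2 : SpecialLinearGroup I F,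
    ∀ K : Subgroup (SpecialLinearGroup I F), (A1 ∈ K ∧ A2 ∈ K) ↔ ∀ i ∈ s, ∀ j ∈ s, i ≠ j → ∀ t, tr i j t ∈ K := by
  obtain ⟨k, χ, h1, h2⟩ := exists_block (F := F) s hs
  obtain ⟨f, hf⟩ := sl_two_gen F (k + 2) (by omega)
  refine ⟨χ (f 0), χ (f 1), fun K => ⟨fun ⟨e1, e2⟩ i hi j hj ij t => ?_, fun H => ⟨h2 K H ⟨_, rfl⟩, h2 K H ⟨_, rfl⟩⟩⟩⟩
  obtain ⟨A, hA⟩ := h1 i hi j hj ij t
  exact hA ▸ (closure_le (K.comap χ)).mpr (by rintro _ ⟨i, rfl⟩; fin_cases i <;> assumption) (hf ▸ mem_top A)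

section
variable (φ : G →* H) (ψ : SpecialLinearGroup I F →* G) (a b : I)

@[simp] theorem map_yt (y : G) (t : F) : φ (yt ψ a b y t) = yt (φ.comp ψ) a b (φ y) t := by simp [yt]
@[simp] theorem map_vt (y : G) (t : F) : φ (vt ψ a b y t) = vt (φ.comp ψ) a b (φ y) t := by simp [vt]
@[simp] theorem map_cw (y : G) : φ (cw ψ a b y) = cw (φ.comp ψ) a b (φ y) := by simp [cw]
@[simp] theorem image_vt (y : G) : φ '' Set.range (vt ψ a b y) = Set.range (vt (φ.comp ψ) a b (φ y)) := by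
  simp [← Set.range_comp, Function.comp_def]
@[simp] theorem image_YG (y : G) (K0 : Subfield F) (C : Set F) : φ '' YG ψ a b y K0 C = YG (φ.comp ψ) a b (φ y) K0 C :=
  Set.ext fun x => ⟨by rintro ⟨_, ⟨r, h1, h2, γ, h3, rfl⟩, rfl⟩; exact ⟨r, h1, h2, γ, h3, map_yt ..⟩,
    by rintro ⟨r, h1, h2, γ, h3, rfl⟩; exact ⟨_, ⟨r, h1, h2, γ, h3, rfl⟩, map_yt ..⟩⟩
theorem image_conj (w : G) (S : Set G) :
    φ '' ((fun g => w * g * w⁻¹) '' S) = (fun g => φ w * g * (φ w)⁻¹) '' (φ '' S) := by simp [Set.image_image]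

/-- the relations common to all ranks -/
noncomputable def cL0 (w y : G) (S1 S2 : SpecialLinearGroup I F) (K0 : Subfield F) (C : Set F) (β : F) (z : Prop)
    [Decidable z] : List (G × Set G) :=
  [(⁅w, cw ψ a b w⁆, ∅), (w * cw ψ a b w * ψ S1 * (w * cw ψ a b w)⁻¹, Set.range ψ),
    (w * cw ψ a b w * ψ S2 * (w * cw ψ a b w)⁻¹, Set.range ψ), (⁅cw ψ a b w, y⁆, ∅), (⁅y, ψ (tr a b 1)⁆, ∅),
    (⁅ψ (tr a b 1), vt ψ a b w β⁆, YG ψ a b y K0 C), (⁅ψ (tr a b (-1)), cw ψ a b y⁆ * y⁻¹, Set.range (vt ψ a b w)),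
    (⁅y, cw ψ a b y⁆, Set.range (vt ψ a b w)),
    (if z then y else 1, Set.range (vt ψ a b w) ∪ Set.range fun t => ψ (tr a b t)),
    (w, YG ψ a b y K0 C ∪ (fun g => w * g * w⁻¹) '' YG ψ a b y K0 C)]

theorem map_cL0 (w y : G) (S1 S2 : SpecialLinearGroup I F) (K0 : Subfield F) (C : Set F) (β : F) (z : Prop)
    [Decidable z] : mapL φ (cL0 ψ a b w y S1 S2 K0 C β z) = cL0 (φ.comp ψ) a b (φ w) (φ y) S1 S2 K0 C β z := by
  simp [mapL, cL0, map_commutatorElement, Set.image_union, image_conj, ← Set.range_comp, apply_ite φ, Function.comp_def]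

theorem memL_cL0 (w y : G) {S1 S2 : SpecialLinearGroup I F} (hS : ∀ K : Subgroup (SpecialLinearGroup I F),
    (S1 ∈ K ∧ S2 ∈ K) ↔ ∀ i ∈ ({a, b} : Finset I), ∀ j ∈ ({a, b} : Finset I), i ≠ j → ∀ t, tr i j t ∈ K)
    (ab : a ≠ b) (K0 : Subfield F) (C : Set F) (β : F) (z : Prop) [Decidable z] : MemL (cL0 ψ a b w y S1 S2 K0 C β z) ↔
    Commute w (cw ψ a b w) ∧ (∀ i j t, i = a ∧ j = b ∨ i = b ∧ j = a →
      w * cw ψ a b w * ψ (tr i j t) * (w * cw ψ a b w)⁻¹ ∈ ψ.range) ∧ Commute (cw ψ a b w) y ∧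
    Commute y (ψ (tr a b 1)) ∧ ⁅ψ (tr a b 1), vt ψ a b w β⁆ ∈ closure (YG ψ a b y K0 C) ∧
    ⁅ψ (tr a b (-1)), cw ψ a b y⁆ * y⁻¹ ∈ closure (Set.range (vt ψ a b w)) ∧
    ⁅y, cw ψ a b y⁆ ∈ closure (Set.range (vt ψ a b w)) ∧ (z → y ∈ closure (Set.range (vt ψ a b w)) ⊔ UA ψ a b) ∧
    w ∈ closure (YG ψ a b y K0 C ∪ (fun g => w * g * w⁻¹) '' YG ψ a b y K0 C) := by
  have := hS ((ψ.range.comap (MulAut.conj (w * cw ψ a b w)).toMonoidHom).comap ψ)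
  simp only [mem_comap, MulEquiv.coe_toMonoidHom, MulAut.conj_apply] at this
  have e : (∀ i j t, i = a ∧ j = b ∨ i = b ∧ j = a → w * cw ψ a b w * ψ (tr i j t) * (w * cw ψ a b w)⁻¹ ∈ ψ.range) ↔
      _ := Iff.trans ⟨fun h i hi j hj ij t => h i j t (by simp_all; grind), fun h i j t e =>
        h i (by simp; tauto) j (by simp; tauto) (by grind) t⟩ this.symm
  rw [e]
  by_cases hz : z <;> simp only [cL0, memL_cons, memL_nil, Subgroup.closure_empty, mem_bot, ← MonoidHom.coe_range,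
    closure_eq, commutatorElement_eq_one_iff_commute, and_assoc, and_true, Subgroup.closure_union (Set.range _), UA, hz,
    if_true, if_false, one_mem, true_imp_iff, false_imp_iff]

/-- the relations for rank at least three -/
noncomputable def cL1 (w y : G) (L1 L2 : SpecialLinearGroup I F) (c0 : F) : List (G × Set G) :=
  [(⁅ψ L1, w⁆, ∅), (⁅ψ L2, w⁆, ∅), (⁅ψ L1, y⁆, ∅), (⁅ψ L2, y⁆, ∅),
    (w ^ 2 * (cw ψ a b w ^ 2)⁻¹ * (ψ (dg (-1) a b))⁻¹, ∅), (⁅ψ (tr a b 1), vt ψ a b w c0⁆, ∅)]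

theorem map_cL1 (w y : G) (L1 L2 : SpecialLinearGroup I F) (c0 : F) :
    mapL φ (cL1 ψ a b w y L1 L2 c0) = cL1 (φ.comp ψ) a b (φ w) (φ y) L1 L2 c0 := by
  simp [mapL, cL1, map_commutatorElement]

theorem memL_cL1 (w y : G) {L1 L2 : SpecialLinearGroup I F} (hL : ∀ K : Subgroup (SpecialLinearGroup I F),
    (L1 ∈ K ∧ L2 ∈ K) ↔ ∀ i ∈ ({a}ᶜ : Finset I), ∀ j ∈ ({a}ᶜ : Finset I), i ≠ j → ∀ t, tr i j t ∈ K) (c0 : F) :
    MemL (cL1 ψ a b w y L1 L2 c0) ↔ (∀ i j t, i ≠ j → i ≠ a → j ≠ a → Commute w (ψ (tr i j t))) ∧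
      (∀ i j t, i ≠ j → i ≠ a → j ≠ a → Commute y (ψ (tr i j t))) ∧ w ^ 2 * (cw ψ a b w ^ 2)⁻¹ = ψ (dg (-1) a b) ∧
      ⁅ψ (tr a b 1), vt ψ a b w c0⁆ = 1 := by
  have e : ∀ w, (∀ i j t, i ≠ j → i ≠ a → j ≠ a → Commute w (ψ (tr i j t))) ↔ Commute (ψ L1) w ∧ Commute (ψ L2) w :=
    fun w => by
      have := hL ((centralizer {w}).comap ψ)
      simp only [mem_comap, mem_centralizer_singleton_iff, Finset.mem_compl, Finset.mem_singleton] at this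
      exact Iff.trans ⟨fun h i hi j hj ij t => (h i j t ij hi hj).symm, fun h i j t ij hi hj =>
        (h i hi j hj ij t).symm⟩ this.symm
  simp only [e, cL1, memL_cons, memL_nil, Subgroup.closure_empty, mem_bot, and_assoc, and_true, mul_inv_eq_one,
    commutatorElement_eq_one_iff_commute]

end

theorem mapL_append (φ : G →* H) (L K : List (G × Set G)) : mapL φ (L ++ K) = mapL φ L ++ mapL φ K := List.map_append

theorem range_fin2 {α : Type*} (g : Fin 2 → α) : Set.range g = {g 0, g 1} := by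
  ext; simp [Fin.exists_fin_two, eq_comm]

/-- the arithmetic data of a form -/
structure CD (D : UD (I ⊕ I) F) {K : Type*} [Field K] (ι : K →+* F) (θ u0 b0 : F) (z : Prop) : Prop where
  hη : ∀ i j, D.η (inl i) = D.η (inl j)
  hι : ∀ s, D.σ (ι s) = ι s
  θ0 : θ ≠ 0
  hL : ∀ b, D.L 0 b ↔ ∃ s, b = θ * ι s
  hL0 : D.L u0 b0
  z1 : z → u0 = 0 ∧ ∃ c, b0 = -(θ * (c + D.σ c))
  z2 : ¬ z → ∀ t c, D.σ t * u0 = 0 → D.σ t * t * b0 = θ * (c + D.σ c) → t = 0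

theorem CD.hθ {D : UD (I ⊕ I) F} {K : Type*} [Field K] {ι : K →+* F} {θ u0 b0 : F} {z : Prop} (h : CD D ι θ u0 b0 z) :
    D.L 0 θ := (h.hL θ).mpr ⟨1, by simp⟩

theorem WF.y_H {D : UD (I ⊕ I) F} {π : G →* HH (I ⊕ I) F} {ψ : SpecialLinearGroup I F →* G} {W : I → G} {θ : F}
    (h : WF D π ψ W θ) {a b : I} (ab : a ≠ b) (hπ : Function.Injective π) {y : G} {u0 b0 : F}
    (hy : π y = D.Y (inl a) u0 b0) (e : u0 = 0 ∧ ∃ c, b0 = -(θ * (c + D.σ c))) :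
    y ∈ closure (Set.range (vt ψ a b (W a))) ⊔ UA ψ a b := by
  obtain ⟨rfl, c, rfl⟩ := e
  rw [show y = ⁅ψ (tr a b 1), vt ψ a b (W a) c⁆ from hπ (by rw [h.π_f ab, hy, one_mul])]
  exact comm_mem (mem_sup_right (tr_UA _ _ _ _)) (mem_sup_left (subset_closure ⟨c, rfl⟩))

theorem WF.cw_eq {D : UD (I ⊕ I) F} {π : G →* HH (I ⊕ I) F} {ψ : SpecialLinearGroup I F →* G} {W : I → G} {θ : F}
    (h : WF D π ψ W θ) {a b : I} (ab : a ≠ b) : cw ψ a b (W a) = W b := by simpa [cw] using h.conj _ _ (wA_Sm ab) a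

theorem span_top (P : AddSubgroup F) (h : ∀ r ∈ (⊤ : Subfield F), r ≠ 0 → ∀ β ∈ ({1} : Set F), r * β ∈ P) (s : F) :
    s ∈ P := by
  by_cases e : s = 0
  · rw [e]; exact zero_mem _
  · simpa using h s trivial e 1 rfl

theorem tor_three {ψ : SpecialLinearGroup I F →* G} {a b c : I} (ab : a ≠ b) (ac : a ≠ c) (bc : b ≠ c) {w y : G}
    (h1 : ∀ i j t, i ≠ j → i ≠ a → j ≠ a → Commute w (ψ (tr i j t)))
    (h2 : ∀ i j t, i ≠ j → i ≠ a → j ≠ a → Commute y (ψ (tr i j t))) {r : F} (r0 : r ≠ 0) :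
    ∃ τ, Commute τ w ∧ Commute τ y ∧ (∀ s, τ * ψ (tr b a s) * τ⁻¹ = ψ (tr b a (r * s))) ∧
      ∀ s, τ * ψ (tr a b s) * τ⁻¹ = ψ (tr a b (s / r)) := by
  have key : ∀ {w}, (∀ i j t, i ≠ j → i ≠ a → j ≠ a → Commute w (ψ (tr i j t))) → Commute (ψ (dg r b c)) w := fun h =>
    mem_centralizer_singleton_iff.mp (dg_mem (K := (centralizer {_}).comap ψ) bc
      (fun t => mem_centralizer_singleton_iff.mpr (h _ _ t bc ab.symm ac.symm).symm)
      (fun t => mem_centralizer_singleton_iff.mpr (h _ _ t bc.symm ac.symm ab.symm).symm) r0)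
  refine ⟨_, key h1, key h2, fun s => ?_, fun s => ?_⟩
  · rw [← map_inv, ← map_mul, ← map_mul, dg_tr r0 bc ab.symm]; simp [dv, ab, ac]
  · rw [← map_inv, ← map_mul, ← map_mul, dg_tr r0 bc ab]; simp [dv, ab, ac, div_eq_inv_mul]

theorem c_pres [Fintype F] {n : ℕ} (hn : 1 ≤ n) {D : UD (Fin (n + 2) ⊕ Fin (n + 2)) F} {K : Type*} [Field K] [Finite K]
    {ι : K →+* F} {θ u0 b0 : F} {z : Prop} (h : CD D ι θ u0 b0 z) (gen : ∀ i, D.GenY i u0 b0 ⊤ {1}) {c0 β : F}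
    (h1 : c0 + D.σ c0 = 0) (h3 : ∀ c, c + D.σ c = 0 → ∃ s, c = ι s * c0) (h4 : ∀ c, ∃ s s', c = ι s * c0 + ι s' * β)
    {κ : Type} {f : κ → SL(n + 2, F)} {m : ℕ} (hf : PresOn f m) : ∃ g : κ ⊕ Fin 2 → D.E, PresOn g (m + 16) := by
  classical
  obtain ⟨ψ0, hψ⟩ := D.exists_iota (Lift.rk_of hn _)
  obtain ⟨a, b, c, ab, ac, bc⟩ : ∃ a b c : Fin (n + 2), a ≠ b ∧ a ≠ c ∧ b ≠ c :=
    ⟨⟨0, by omega⟩, ⟨1, by omega⟩, ⟨2, by omega⟩, by simp⟩
  obtain ⟨S1, S2, hS⟩ := exists_two (F := F) {a, b} (by rw [Finset.card_pair ab])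
  obtain ⟨L1, L2, hL⟩ := exists_two (F := F) {a}ᶜ (by simp [Finset.card_compl]; omega)
  have cb := exists_CB hψ h.hη ab h.hθ h.θ0
  obtain ⟨W0, wf, hW⟩ := cb.exists_WF
  rw [← hW] at cb
  have hπ := D.E.subtype_injective
  have C0 : ∀ γ ∈ ({1} : Set F), γ ≠ 0 := by simp
  have yL : ∀ i j t, i ≠ j → i ≠ a → j ≠ a → Commute ⟨_, UD.Y_E (inl a) h.hL0⟩ (ψ0 (tr i j t)) := fun i j t h1 h2 h3 =>
    commute_inj hπ (by rw [hψ _ _ _ h1]; exact D.YX_comm (by simp) (by simpa) ..)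
  have ml := wf.ml ab hπ (y := ⟨_, UD.Y_E (inl a) h.hL0⟩) h.hL0 rfl C0 (gen _) span_top
    (fun r _ r0 => tor_three ab ac bc cb.r1 yL r0) (by simpa [sq, ← wf.cw_eq ab, cw] using cb.r3)
  refine ⟨_, hf.extendU ψ0 ![W0 a, ⟨_, UD.Y_E (inl a) h.hL0⟩] (ml.top le_sup_left
    (mem_sup_right (subset_closure ⟨0, rfl⟩)) (mem_sup_right (subset_closure ⟨1, rfl⟩)))
    (cL0 Coprod.inl a b (Coprod.inr (.of 0)) (Coprod.inr (.of 1)) S1 S2 ⊤ {1} β z ++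
      cL1 Coprod.inl a b (Coprod.inr (.of 0)) (Coprod.inr (.of 1)) L1 L2 c0) ?_ fun G _ ψ g hg hr π e1 e2 => ?_⟩
  · simp only [mapL_append, map_cL0, map_cL1, memL_append, memL_cL0 _ _ _ _ _ hS ab, memL_cL1 _ _ _ _ _ hL,
      Coprod.lift_comp_inl, Coprod.lift_apply_inr, FreeGroup.lift_apply_of, cons_val_zero, cons_val_one]
    exact ⟨⟨cb.r2, cb.r4, by simpa [wf.cw_eq ab, yt_one ab] using ml.yw 1 rfl, ml.c5 1 rfl,
      wf.f_mem ab hπ h.hL0 rfl C0 (gen _) _ _, by simpa [yt_one ab] using ml.c4a 1 rfl,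
      by simpa [yt_one ab] using ml.c6 1 rfl 1 rfl, fun e => wf.y_H ab hπ rfl (h.z1 e),
      wf.w_mem ab hπ h.hL0 rfl C0 (gen _)⟩, cb.r1, yL, cb.r3, wf.f_one ab hπ (by simpa using h1)⟩
  simp only [mapL_append, map_cL0, map_cL1, memL_append, memL_cL0 _ _ _ _ _ hS ab, memL_cL1 _ _ _ _ _ hL,
    Coprod.lift_comp_inl, Coprod.lift_apply_inr, FreeGroup.lift_apply_of] at hr
  obtain ⟨⟨r1, r2, r3, r4, r5, r6, r7, r8, r9⟩, s1, s2, s3, s4⟩ := hr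
  obtain ⟨W, wf', hW'⟩ := CB.exists_WF (D := D) (π := D.E.subtype.comp π) ⟨fun i j t ij => by simpa [e1] using hψ i j t ij,
    h.hη, ab, h.θ0, h.hθ, by simpa [e2] using cb.hw, s1, r1, s3, r2, fun A => by
      let K := (ψ.range.comap (MulAut.conj (g 0 ^ 2)).toMonoidHom).comap ψ
      have k1 : ∀ i j t, i ≠ j → i ≠ a → j ≠ a → tr i j t ∈ K := fun i j t h1 h2 h3 =>
        ⟨tr i j t, (mul_inv_eq_iff_eq_mul.mpr ((s1 i j t h1 h2 h3).pow_left 2).eq).symm⟩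
      have k2 : ∀ i j t, i ≠ j → i ≠ b → j ≠ b → tr i j t ∈ K := fun i j t h1 h2 h3 => by
        obtain ⟨d, h5, h6⟩ := Sm_tr (wA_Sm (F := F) ab) ((swap a b).injective.ne h1)
        have := ((s1 _ _ (d * t) ((swap a b).injective.ne h1) (by simpa [swap_apply_eq_iff]) (by
          simpa [swap_apply_eq_iff])).map (MulAut.conj (ψ (wA a b)))).pow_left 2
        simp only [MulAut.conj_apply, ← map_inv, ← map_mul ψ, h6, swap_apply_self, ← mul_assoc d, h5, one_mul] at this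
        refine ⟨dg (-1) a b * tr i j t * (dg (-1) a b)⁻¹, ?_⟩
        simp only [map_mul, map_inv, ← s3, MulEquiv.coe_toMonoidHom, MulAut.conj_apply] at this ⊢
        rw [mul_assoc (g 0 ^ 2), cw, this.inv_left.eq]; group
      refine (slSt_top (K := K) fun i j t ij => ?_).ge (mem_top A)
      by_cases e : i = a ∧ j = b
      · rw [e.1, e.2, ← mul_one t, ← show ⁅tr a c t, tr c b 1⁆ = tr a b (t * 1) from (slSt _ F).rel ac bc.symm ab t 1]
        exact comm_mem (k2 _ _ _ ac ab bc.symm) (k1 _ _ _ bc.symm ac.symm ab.symm)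
      by_cases e' : i = b ∧ j = a
      · rw [e'.1, e'.2, ← mul_one t, ← show ⁅tr b c t, tr c a 1⁆ = tr b a (t * 1) from (slSt _ F).rel bc ac.symm ab.symm t 1]
        exact comm_mem (k1 _ _ _ bc ab.symm ac.symm) (k2 _ _ _ ac.symm bc.symm ab)
      by_cases e'' : i ≠ a ∧ j ≠ a
      · exact k1 i j t ij e''.1 e''.2
      · exact k2 i j t ij (by grind) (by grind)⟩
  rw [← hW'] at r1 r3 r5 r6 r7 r8 r9 s1 s3 s4
  rw [wf'.cw_eq ab] at r3 s3
  have ml' : ML D (D.E.subtype.comp π) ψ W θ a b (g 1) u0 b0 ⊤ {1} {1} := ⟨wf', ab, h.hL0, by simp [e2], C0, span_top,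
    fun r _ r0 => tor_three ab ac bc s1 s2 r0, by simpa [sq] using s3, s2, by simpa [yt_one ab], by simpa,
    by simpa [yt_one ab], by simp, by simpa [yt_one ab], gen _⟩
  exact Function.Injective.of_comp (f := Subtype.val) (ml'.inj (ml'.fb.top h.hι (fun _ => trivial) rfl s4 r5 h3 h4) rfl
    ((em z).imp (by simpa [yt_one ab] using r8) h.z2) r9 ι h.hι h.hL (by rw [hW', ← range_fin2, hg]))

end Cfsg.Agent.Pres
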