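import Mathlib
import Cfsg.Agent.Pres.TC6

/-! Presentations of symplectic and unitary groups of rank two. -/

set_option autoImplicit false
set_option linter.unusedSectionVars false

namespace Cfsg.Agent.Pres

open Subgroup Equiv Matrix Sum Monoid
open scoped commutatorElement MatrixGroups

variable {F G H I : Type*} [Field F] [Group G] [Group H] [DecidableEq I] [Fintype I]

theorem zpow_cong {R : Subgroup G} {x h : G} (h1 : h ∈ normalizer (R : Set G)) (h2 : x * h⁻¹ ∈ R) (k : ℤ) :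
    x ^ k * (h ^ k)⁻¹ ∈ R := by
  induction k using Int.induction_on with
  | zero => simp
  | succ k ih =>
    convert mul_mem ih (conj_mem_of_norm (zpow_mem h1 k) h2) using 1; group
  | pred k ih =>
    convert mul_mem ih (conj_mem_of_norm (zpow_mem h1 (-k - 1)) (inv_mem h2)) using 1; group

theorem tor_pow {ψ : SpecialLinearGroup I F →* G} {a b : I} {w y h : G} {ζ : F} (h1 : Commute h w) (h2 : Commute h y)
    (h3 : ∀ s, h * ψ (tr b a s) * h⁻¹ = ψ (tr b a (ζ * s))) (h4 : ∀ s, h * ψ (tr a b s) * h⁻¹ = ψ (tr a b (s / ζ)))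
    (k : ℕ) : ∃ τ, Commute τ w ∧ Commute τ y ∧ (∀ s, τ * ψ (tr b a s) * τ⁻¹ = ψ (tr b a (ζ ^ k * s))) ∧
      ∀ s, τ * ψ (tr a b s) * τ⁻¹ = ψ (tr a b (s / ζ ^ k)) := by
  induction k with
  | zero => exact ⟨1, by simp⟩
  | succ k ih =>
    obtain ⟨τ, e1, e2, e3, e4⟩ := ih
    exact ⟨h * τ, h1.mul_left e1, h2.mul_left e2, fun s => by rw [pow_succ', mul_assoc ζ, ← h3, ← e3]; group,
      fun s => by rw [pow_succ, ← div_div, ← h4, ← e4]; group⟩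

namespace UD

variable {J : Type*} [Bar J] [DecidableEq J] [Fintype J] (D : UD J F)

/-- long torus elements -/
def hY (i : J) (θ ζ : F) : HH J F := D.nY i (θ * ζ) * (D.nY i θ)⁻¹

theorem hY_ee (i : J) {θ ζ : F} (h : θ ≠ 0) (h' : ζ ≠ 0) (y : Option J) :
    D.hY i θ ζ (ee y) = (if y = some i then ζ else if y = some (bar i) then ζ⁻¹ else 1) • ee y := by
  obtain ⟨y, rfl⟩ := (swap (some i) (some (bar i))).surjective y
  have := (D.nY_ee i (mul_ne_zero h h') y).symm.trans ((congrArg (fun g : HH J F => g (ee y))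
    (inv_mul_cancel_right _ (D.nY i θ)).symm).trans (congrArg (D.hY i θ ζ) (D.nY_ee i h y)))
  rw [map_smul] at this
  by_cases e1 : y = some i
  · subst e1; simp only [if_true] at this
    rw [← smul_right_inj (neg_ne_zero.mpr (inv_ne_zero h)), ← this]; simp [smul_smul, mul_comm]
  by_cases e2 : y = some (bar i)
  · subst e2; simp only [if_true, e1, if_false] at this
    rw [← smul_right_inj h, ← this]; simp [smul_smul]
  simpa [e1, e2, swap_apply_of_ne_of_ne e1 e2] using this.symm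

variable {D}

theorem hY_E (i : J) {θ ζ : F} (h : D.L 0 θ) (h' : D.L 0 (θ * ζ)) (h0 : θ ≠ 0) (h0' : ζ ≠ 0) : D.hY i θ ζ ∈ D.E :=
  mul_mem (nY_E i h' (mul_ne_zero h0 h0')) (inv_mem (nY_E i h h0))

theorem hY_mon (i : J) {θ ζ : F} (h : D.L 0 θ) (h' : D.L 0 (θ * ζ)) (h0 : θ ≠ 0) (h0' : ζ ≠ 0) :
    (D.hY i θ ζ, 1) ∈ D.Mon := ⟨D.E_iso (hY_E i h h' h0 h0'), fun _ => rfl, fun y => ⟨_, D.hY_ee i h0 h0' y⟩⟩

end UD

section
variable (φ : G →* H) (ψ : SpecialLinearGroup I F →* G) (a b : I)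

/-- the relations for rank two -/
noncomputable def cL2 (w y h : G) (S1 S2 : SpecialLinearGroup I F) (K0 : Subfield F) (β γ s1 t1 s2 t2 s3 t3 : F) :
    List (G × Set G) :=
  [(h * ψ S1 * h⁻¹, Set.range ψ), (h * ψ S2 * h⁻¹, Set.range ψ), (⁅h, w⁆, ∅), (⁅h, y⁆, ∅), (w ^ 2, {cw ψ a b h}),
    (h, Set.range ψ ∪ {w, y}), (⁅cw ψ a b w, yt ψ a b y γ⁆, ∅), (⁅y, ψ (tr a b β)⁆, ∅),
    (⁅ψ (tr a b s1), vt ψ a b w t1⁆, ∅), (⁅ψ (tr a b s2), vt ψ a b w t2⁆, ∅), (⁅ψ (tr a b s3), vt ψ a b w t3⁆, ∅),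
    (⁅ψ (tr a b (-γ)), cw ψ a b y⁆ * (yt ψ a b y γ)⁻¹, Set.range (vt ψ a b w)),
    (⁅ψ (tr a b (-1)), cw ψ a b (yt ψ a b y γ)⁆, Set.range (vt ψ a b w) ∪ YG ψ a b y K0 {1, γ}),
    (⁅ψ (tr a b (-β)), cw ψ a b (yt ψ a b y γ)⁆, Set.range (vt ψ a b w) ∪ YG ψ a b y K0 {1, γ}),
    (⁅y, cw ψ a b (yt ψ a b y γ)⁆, Set.range (vt ψ a b w)), (⁅yt ψ a b y γ, cw ψ a b y⁆, Set.range (vt ψ a b w)),
    (⁅yt ψ a b y γ, cw ψ a b (yt ψ a b y γ)⁆, Set.range (vt ψ a b w))]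

theorem map_cL2 (w y h : G) (S1 S2 : SpecialLinearGroup I F) (K0 : Subfield F) (β γ s1 t1 s2 t2 s3 t3 : F) :
    mapL φ (cL2 ψ a b w y h S1 S2 K0 β γ s1 t1 s2 t2 s3 t3) =
      cL2 (φ.comp ψ) a b (φ w) (φ y) (φ h) S1 S2 K0 β γ s1 t1 s2 t2 s3 t3 := by
  simp [mapL, cL2, map_commutatorElement, Set.image_union, ← Set.range_comp, Function.comp_def, Set.image_insert_eq,
    -Set.union_insert, -Set.union_singleton]

end

theorem span_two {K : Type*} [Field K] {ι : K →+* F} {β : F} (span : ∀ c, ∃ s s', c = ι s * β + ι s') (P : AddSubgroup F)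
    (H : ∀ r ∈ ι.fieldRange, r ≠ 0 → ∀ x ∈ ({1, β} : Set F), r * x ∈ P) (s : F) : s ∈ P := by
  have key : ∀ k, ∀ x ∈ ({1, β} : Set F), ι k * x ∈ P := fun k x hx => by
    by_cases e : ι k = 0
    · rw [e, zero_mul]; exact zero_mem _
    · exact H _ ⟨k, rfl⟩ e x hx
  obtain ⟨k, k', rfl⟩ := span s
  exact add_mem (key k β (by simp)) (by simpa using key k' 1 (by simp))

section
variable {D : UD (I ⊕ I) F} {π : G →* HH (I ⊕ I) F} {ψ : SpecialLinearGroup I F →* G} {K : Type*} [Field K]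
  {ι : K →+* F} {θ u0 b0 : F} {z : Prop} [Decidable z] (h : CD D ι θ u0 b0 z) {a b : I} (ab : a ≠ b) {ζ : K} (ζ0 : ζ ≠ 0)
  {h0 : G} (e0 : π h0 = D.hY (inl b) θ (ι ζ)) (cp : Cp D π ψ)
include h ab ζ0 e0 cp

theorem CD.q1 (s : F) : π (h0 * ψ (tr b a s) * h0⁻¹) = π (ψ (tr b a (ι ζ * s))) := by
  have ζ0' : ι ζ ≠ 0 := by simpa
  rw [map_mul, map_mul, map_inv, cp _ _ _ ab.symm, cp _ _ _ ab.symm, e0, UD.Mon_conjX (UD.hY_mon (inl b) h.hθ
    ((h.hL _).mpr ⟨ζ, rfl⟩) h.θ0 ζ0') (D.hY_ee _ h.θ0 ζ0') (D2_inl ab.symm) rfl rfl]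
  simp [ab]

theorem CD.q2 (s : F) : π (h0 * ψ (tr a b s) * h0⁻¹) = π (ψ (tr a b (s / ι ζ))) := by
  have ζ0' : ι ζ ≠ 0 := by simpa
  rw [map_mul, map_mul, map_inv, cp _ _ _ ab, cp _ _ _ ab, e0, UD.Mon_conjX (UD.hY_mon (inl b) h.hθ
    ((h.hL _).mpr ⟨ζ, rfl⟩) h.θ0 ζ0') (D.hY_ee _ h.θ0 ζ0') (D2_inl ab) rfl rfl]
  simp [ab, div_eq_inv_mul]

theorem CD.q6 {w : G} (hw : π w = D.nY (inl a) θ) {k : ℕ} (hk : ζ ^ k = -1) : π (w ^ 2) = π (cw ψ a b h0 ^ k) := by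
  have ζ0' : ι ζ ≠ 0 := by simpa
  have e1 : π (cw ψ a b h0) = D.hY (inl a) θ (ι ζ) := by
    have e1 := cp.conj_nY h.hη (wA_Sm ab) b h.θ0
    have e2 := cp.conj_nY h.hη (wA_Sm ab) b (mul_ne_zero h.θ0 ζ0')
    rw [swap_apply_right] at e1 e2
    rw [UD.hY, ← e1, ← e2, cw, map_mul, map_mul, map_inv, e0, UD.hY]; group
  have e2 : ∀ (k : ℕ) y, (D.hY (inl a) θ (ι ζ) ^ k) (ee y) =
      (if y = some (inl a) then ι ζ else if y = some (inr a) then (ι ζ)⁻¹ else 1) ^ k • ee y := fun k y => by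
    induction k with
    | zero => simp
    | succ k ih => rw [pow_succ, LinearEquiv.mul_apply, D.hY_ee _ h.θ0 ζ0', map_smul, ih, smul_smul, pow_succ']; rfl
  have e3 : ι ζ ^ k = -1 := by rw [← map_pow, hk]; simp
  refine basis_ext fun y => ?_
  simp only [map_pow, e1, e2, hw, sq, map_mul, LinearEquiv.mul_apply, D.nY_ee _ h.θ0, map_smul, bar_inl,
    swap_apply_self, smul_smul]
  congr 1
  rcases y with _ | y | y
  · simp [swap_apply_def]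
  all_goals by_cases e : y = a <;> simp [e, h.θ0, swap_apply_def, e3]

variable (hab : ∀ i, i = a ∨ i = b) (hζ : ∀ t, t ≠ 0 → ∃ k : ℕ, ζ ^ k = t) {S1 S2 : SpecialLinearGroup I F}
  (hS : ∀ K : Subgroup (SpecialLinearGroup I F),
    (S1 ∈ K ∧ S2 ∈ K) ↔ ∀ i ∈ ({a, b} : Finset I), ∀ j ∈ ({a, b} : Finset I), i ≠ j → ∀ t, tr i j t ∈ K)
  {β γ δ s1 t1 s2 t2 s3 t3 : F} (γ0 : γ ≠ 0) (gen : D.GenY (inl a) u0 b0 ι.fieldRange {1, γ})
  (span : ∀ c, ∃ s s', c = ι s * β + ι s') {y : G} (hy : π y = D.Y (inl a) u0 b0)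
include hab hζ hS γ0 gen span hy

theorem CD.tgt2 (hπ : Function.Injective π) {W : I → G} (wf : WF D π ψ W θ) (cb : CB D π ψ (W a) a b θ)
    (h1 : s1 * t1 + D.σ (s1 * t1) = 0) (h2 : s2 * t2 + D.σ (s2 * t2) = 0) (h3 : s3 * t3 + D.σ (s3 * t3) = 0) :
    ML D π ψ W θ a b y u0 b0 ι.fieldRange {1, β} {1, γ} ∧ (h0 ∈ closure (Set.range ψ ∪ {W a, y}) →
      MemL (cL0 ψ a b (W a) y S1 S2 ι.fieldRange {1, γ} δ z ++
        cL2 ψ a b (W a) y h0 S1 S2 ι.fieldRange β γ s1 t1 s2 t2 s3 t3)) := by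
  have ζ0' : ι ζ ≠ 0 := by simpa
  have C0 : ∀ x ∈ ({1, γ} : Set F), x ≠ 0 := by simp [γ0]
  have q1 := fun s => hπ (h.q1 ab ζ0 e0 cp s)
  have q2 := fun s => hπ (h.q2 ab ζ0 e0 cp s)
  have q3 : Commute h0 (W a) := commute_inj hπ (basis_ext fun y => by
    simp only [e0, wf.hπ, LinearEquiv.mul_apply, D.nY_ee _ h.θ0, D.hY_ee _ h.θ0 ζ0', map_smul, smul_smul]
    rcases y with _ | y | y
    · simp [swap_apply_def]
    all_goals rcases hab y with rfl | rfl <;> simp [swap_apply_def, ab, ab.symm])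
  have q4 : Commute h0 y := commute_inj hπ (mul_inv_eq_iff_eq_mul.mp (by
    rw [e0, hy, UD.Mon_conjY (UD.hY_mon (inl b) h.hθ ((h.hL _).mpr ⟨ζ, rfl⟩) h.θ0 ζ0') (D.hY_ee _ h.θ0 ζ0') rfl h.hL0]
    simp [ab]))
  have ml := wf.ml ab hπ h.hL0 hy C0 gen (span_two span) (by
    rintro _ ⟨r, rfl⟩ r0
    obtain ⟨k, rfl⟩ := hζ r (by simpa using r0)
    simpa using tor_pow q3 q4 q1 q2 k) (by simpa [sq, ← wf.cw_eq ab, cw] using cb.r3)
  refine ⟨ml, fun q7 => ?_⟩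
  simp only [memL_append, memL_cL0 _ _ _ _ _ hS ab, cL2, memL_cons, memL_nil,
    Subgroup.closure_empty, mem_bot, commutatorElement_eq_one_iff_commute, ← MonoidHom.coe_range, closure_eq] at q7 ⊢
  have q5 : ∀ A, h0 * ψ A * h0⁻¹ ∈ ψ.range := fun A =>
    (slSt_top (K := (ψ.range.comap (MulAut.conj h0).toMonoidHom).comap ψ) fun i j t ij => by
      rcases hab i with rfl | rfl <;> rcases hab j with rfl | rfl
      exacts [absurd rfl ij, ⟨_, (q2 t).symm⟩, ⟨_, (q1 t).symm⟩, absurd rfl ij]).ge (mem_top A)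
  have q6 : W a ^ 2 ∈ closure {cw ψ a b h0} := by
    obtain ⟨k, hk⟩ := hζ (-1) (by simp)
    rw [hπ (h.q6 ab ζ0 e0 cp (wf.hπ a) hk)]; exact pow_mem (subset_closure (Set.mem_singleton _)) k
  have f1 := fun s t => wf.f_one ab hπ (s := s) (t := t)
  simp only [commutatorElement_eq_one_iff_commute] at f1
  have c4 := (wf.ml ab hπ h.hL0 hy C0 gen (B := ⊤) (fun P H => span_two span P fun r h1 h2 x _ => H r h1 h2 x trivial)
    ml.tor ml.r3).c4b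
  have c4' : ∀ x, ⁅ψ (tr a b (-x)), cw ψ a b (yt ψ a b y γ)⁆ ∈
      closure (Set.range (vt ψ a b (W a)) ∪ YG ψ a b y ι.fieldRange {1, γ}) := fun x => by
    refine (c4 x trivial γ (by simp)).elim (fun e => ?_) id
    have := mul_mem (closure_mono Set.subset_union_left (ml.c4a x e.2)) (subset_closure (show yt ψ a b y x ∈
      Set.range (vt ψ a b (W a)) ∪ YG ψ a b y ι.fieldRange {1, γ} from
        .inr ⟨1, one_mem _, one_ne_zero, x, e.2, by rw [one_mul]⟩))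
    rwa [show yt ψ a b y γ = y by rw [e.1, yt_one ab], ← inv_mul_cancel_right ⁅_, _⁆ (yt ψ a b y x)]
  exact ⟨⟨cb.r2, cb.r4, by simpa [wf.cw_eq ab, yt_one ab] using ml.yw 1 (by simp), ml.c5 1 (by simp),
    wf.f_mem ab hπ h.hL0 hy C0 gen _ _, by simpa [yt_one ab] using ml.c4a 1 (by simp),
    by simpa [yt_one ab] using ml.c6 1 (by simp) 1 (by simp), fun e => wf.y_H ab hπ hy (h.z1 e),
    wf.w_mem ab hπ h.hL0 hy C0 gen⟩, q5 _, q5 _, q3, q4, q6, q7, wf.cw_eq ab ▸ ml.yw γ (by simp), ml.c5 β (by simp),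
    f1 _ _ h1, f1 _ _ h2, f1 _ _ h3, ml.c4a γ (by simp), c4' 1, c4' β,
    by simpa [yt_one ab] using ml.c6 1 (by simp) γ (by simp), by simpa [yt_one ab] using ml.c6 γ (by simp) 1 (by simp),
    ml.c6 γ (by simp) γ (by simp), trivial⟩

theorem CD.ml2 [Finite F] {w : G} (hw : π w = D.nY (inl a) θ) (hγ : γ = β ∨ γ = 1)
    (q3 : π (w ^ 2 * (cw ψ a b w ^ 2)⁻¹) = π (ψ (dg (-1) a b)))
    (hr : MemL (cL0 ψ a b w y S1 S2 ι.fieldRange {1, γ} δ z ++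
      cL2 ψ a b w y h0 S1 S2 ι.fieldRange β γ s1 t1 s2 t2 s3 t3)) :
    ∃ W, W a = w ∧ ML D π ψ W θ a b y u0 b0 ι.fieldRange {1, β} {1, γ} := by
  have vac : ∀ i j, i ≠ j → i ≠ a → j ≠ a → False := fun i j => by
    rcases hab i with rfl | rfl <;> rcases hab j with rfl | rfl <;> simp
  simp only [memL_append, memL_cL0 _ _ _ _ _ hS ab, cL2, memL_cons, Subgroup.closure_empty, mem_bot,
    ← MonoidHom.coe_range, closure_eq, commutatorElement_eq_one_iff_commute] at hr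
  obtain ⟨⟨r1, r2, r3, r4, -, r6, r7, -⟩, p1, p2, p3, p4, p5, -, p7, p8, -, -, -, p12, p13, p14, p15, p16, p17, -⟩ := hr
  have n1 : ∀ A, h0 * ψ A * h0⁻¹ ∈ ψ.range := fun A =>
    (slSt_top (K := (ψ.range.comap (MulAut.conj h0).toMonoidHom).comap ψ) fun i j t ij =>
      (hS _).mp ⟨p1, p2⟩ i (by simpa using hab i) j (by simpa using hab j) ij t).ge (mem_top A)
  have n2 : h0 ∈ normalizer (ψ.range : Set G) := by
    have : Finite (ψ.range : Set G) := Set.finite_range ψ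
    exact mem_normalizer_fintype (by rintro _ ⟨A, rfl⟩; exact n1 A)
  have n3 : ∀ x ∈ normalizer (ψ.range : Set G), cw ψ a b x * x⁻¹ ∈ ψ.range := fun x hx => by
    simpa [cw, mul_assoc] using mul_mem (ψ.mem_range.mpr ⟨wA a b, rfl⟩)
      (conj_mem_of_norm hx (inv_mem (ψ.mem_range.mpr ⟨wA a b, rfl⟩)))
  have n4 : cw ψ a b h0 ∈ normalizer (ψ.range : Set G) := (mul_mem_cancel_right (inv_mem n2)).mp (le_normalizer (n3 _ n2))
  obtain ⟨k, hk⟩ := mem_closure_singleton.mp p5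
  have s3 : w ^ 2 * (cw ψ a b w ^ 2)⁻¹ = ψ (dg (-1) a b) := cp.of_range (by
    rw [show cw ψ a b w ^ 2 = cw ψ a b (cw ψ a b h0) ^ k by rw [cw, conj_pow, ← hk]; exact conj_zpow.symm, ← hk]
    simpa using inv_mem (zpow_cong n4 (n3 _ n4) k)) q3
  obtain ⟨W, wf, rfl⟩ := CB.exists_WF ⟨cp, h.hη, ab, h.θ0, h.hθ, hw, fun i j _ h1 h2 h3 => (vac i j h1 h2 h3).elim,
    r1, s3, r2, fun A => conj_mem_of_norm (hk ▸ zpow_mem n4 k) ⟨A, rfl⟩⟩
  rw [wf.cw_eq ab] at r3 s3 p7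
  exact ⟨W, rfl, wf, ab, h.hL0, hy, by simp [γ0], span_two span, by
      rintro _ ⟨r, rfl⟩ r0
      obtain ⟨k, rfl⟩ := hζ r (by simpa using r0)
      simpa using tor_pow p3 p4 (fun s => cp.of_range (n1 _) (h.q1 ab ζ0 e0 cp s))
        (fun s => cp.of_range (n1 _) (h.q2 ab ζ0 e0 cp s)) k,
    by simpa [sq] using s3, fun i j _ h1 h2 h3 => (vac i j h1 h2 h3).elim, by simp [yt_one ab, r3, p7], by simp [r4, p8],
    by simp [yt_one ab, r6, p12], by rcases hγ with rfl | rfl <;> simp_all,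
    by simp [yt_one ab, r7, p15, p16, p17], gen⟩

end

theorem c_pres2 [Fintype F] {D : UD (Fin (0 + 2) ⊕ Fin (0 + 2)) F} {K : Type*} [Field K] [Finite K]
    {ι : K →+* F} {θ u0 b0 : F} {z : Prop} (h : CD D ι θ u0 b0 z) {β γ δ s1 t1 s2 t2 s3 t3 : F} (γ0 : γ ≠ 0)
    (gen : ∀ i, D.GenY i u0 b0 ι.fieldRange {1, γ}) (hγ : γ = β ∨ γ = 1) (hz : z → γ = 1)
    (span : ∀ c, ∃ s s', c = ι s * β + ι s') (h1 : s1 * t1 + D.σ (s1 * t1) = 0) (h2 : s2 * t2 + D.σ (s2 * t2) = 0)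
    (h3 : s3 * t3 + D.σ (s3 * t3) = 0) (hF : ∀ (G : Type) [Group G] (f : F → F → G) (Y : Subgroup G),
      FB D.σ ι.fieldRange f Y → f s1 t1 = 1 → f s2 t2 = 1 → f s3 t3 = 1 → f 1 δ ∈ Y → FC D.σ f Y)
    {κ : Type} {f : κ → SL(0 + 2, F)} {m : ℕ} (hf : PresOn f m) : ∃ g : κ ⊕ Fin 3 → D.E, PresOn g (m + 27) := by
  classical
  have := Fintype.ofFinite K
  obtain ⟨ζ, ζ0, -, hζ⟩ := exists_prim K
  obtain ⟨ψ0, hψ⟩ := D.exists_iota ⟨by rintro (k | k) <;> exact ⟨inl (k + 1), D2_iff.mpr (by fin_cases k <;> simp)⟩,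
    fun _ _ _ => .inr ⟨θ, h.θ0, h.hθ⟩⟩
  obtain ⟨a, b, ab, hab⟩ : ∃ a b : Fin (0 + 2), a ≠ b ∧ ∀ i, i = a ∨ i = b := ⟨0, 1, by decide⟩
  obtain ⟨S1, S2, hS⟩ := exists_two (F := F) {a, b} (by rw [Finset.card_pair ab])
  have cb := exists_CB hψ h.hη ab h.hθ h.θ0
  obtain ⟨W0, wf, hW⟩ := cb.exists_WF
  rw [← hW] at cb
  obtain ⟨h0, e0⟩ : ∃ h0 : D.E, D.E.subtype h0 = D.hY (inl b) θ (ι ζ) :=
    ⟨⟨_, UD.hY_E (inl b) h.hθ ((h.hL _).mpr ⟨ζ, rfl⟩) h.θ0 (by simpa)⟩, rfl⟩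
  obtain ⟨y0, ey⟩ : ∃ y0 : D.E, D.E.subtype y0 = D.Y (inl a) u0 b0 := ⟨⟨_, UD.Y_E (inl a) h.hL0⟩, rfl⟩
  obtain ⟨ml, hr⟩ := h.tgt2 ab ζ0 e0 hψ hab hζ hS (δ := δ) γ0 (gen _) span ey D.E.subtype_injective wf cb h1 h2 h3
  refine ⟨_, hf.extendU ψ0 ![W0 a, y0, h0] (ml.top le_sup_left
    (mem_sup_right (subset_closure ⟨0, rfl⟩)) (mem_sup_right (subset_closure ⟨1, rfl⟩)))
    (cL0 Coprod.inl a b (Coprod.inr (.of 0)) (Coprod.inr (.of 1)) S1 S2 ι.fieldRange {1, γ} δ z ++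
      cL2 Coprod.inl a b (Coprod.inr (.of 0)) (Coprod.inr (.of 1)) (Coprod.inr (.of 2)) S1 S2 ι.fieldRange
        β γ s1 t1 s2 t2 s3 t3) ?_ fun G _ ψ g hg hr π e1 e2 => ?_⟩
  · simp only [mapL_append, map_cL0, map_cL2, Coprod.lift_comp_inl, Coprod.lift_apply_inr, FreeGroup.lift_apply_of]
    exact hr ((ml.top (K := closure _) (fun x hx => subset_closure (.inl hx)) (subset_closure (by simp))
      (subset_closure (by simp))).ge (mem_top _))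
  simp only [mapL_append, map_cL0, map_cL2, Coprod.lift_comp_inl, Coprod.lift_apply_inr, FreeGroup.lift_apply_of] at hr
  obtain ⟨W, hW, ml'⟩ := h.ml2 (π := D.E.subtype.comp π) ab ζ0 (by simp [e2, ← e0])
    (fun i j t ij => by simpa [e1] using hψ i j t ij) hab hζ hS γ0 (gen _) span (by simp [e2, ← ey])
    (by simpa [e2] using cb.hw) hγ (by simpa [e1, e2, cw] using congrArg D.E.subtype cb.r3) hr
  simp only [memL_append, memL_cL0 _ _ _ _ _ hS ab, cL2, memL_cons, Subgroup.closure_empty, mem_bot, ← hW] at hr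
  obtain ⟨⟨-, -, -, -, r5, -, -, r8, r9⟩, -, -, -, -, -, p6, -, -, p9, p10, p11, -⟩ := hr
  refine Function.Injective.of_comp (f := Subtype.val) (ml'.inj (hF G _ _ ml'.fb p9 p10 p11 r5) (by simp)
    ((em z).imp (fun e => by simpa [yt_one ab, hz e] using r8 e) h.z2) r9 ι h.hι h.hL (top_unique ?_))
  rw [Subgroup.closure_union, ← MonoidHom.coe_range, closure_eq] at p6
  refine hg ▸ sup_le le_sup_left ((closure_le _).mpr ?_)
  rintro _ ⟨i, rfl⟩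
  fin_cases i
  exacts [mem_sup_right (subset_closure (by simp [hW])), mem_sup_right (subset_closure (by simp)), p6]

end Cfsg.Agent.Pres
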