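import Mathlib
import Cfsg.Agent.Pres.TC7
import Cfsg.Agent.Pres.SL3

/-! Presentations of the symplectic and unitary groups. -/

set_option autoImplicit false
set_option linter.unusedSectionVars false

namespace Cfsg.Agent.Pres

open Subgroup Equiv Matrix Sum
open scoped commutatorElement MatrixGroups

variable {F I : Type*} [Field F] [DecidableEq I] [Fintype I]

theorem genY_even {D : UD (I ⊕ I) F} {K : Type*} [Field K] [Finite K] {ι : K →+* F} (hι : ∀ s, D.σ (ι s) = ι s) {θ : F}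
    (h : ∀ u b, D.L u b → u = 0 ∧ ∃ s, b = θ * ι s) {K0 : Subfield F} (hK : ∀ s, ι s ∈ K0) {C : Set F} (h1 : 1 ∈ C)
    (i : I ⊕ I) : D.GenY i 0 θ K0 C := by
  rintro _ ⟨u, b, hL, rfl⟩
  obtain ⟨rfl, s, rfl⟩ := h u b hL
  obtain ⟨s, t, rfl⟩ := sq_sq s
  have key : ∀ s, D.Y i 0 (θ * ι (s ^ 2)) ∈ closure {g | ∃ r ∈ K0, r ≠ 0 ∧ ∃ γ ∈ C,
      g = D.Y i (D.σ (r * γ) * 0) (r * γ * D.σ (r * γ) * θ)} := fun s => by
    by_cases e : ι s = 0
    · simp [e, D.Y_zero]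
    · exact subset_closure ⟨ι s, hK s, e, 1, h1, by simp [hι, sq, mul_comm θ]⟩
  simpa [D.Y_mul, mul_add] using mul_mem (key s) (key t)

theorem genY_odd {σ : F →+* F} (hσ : Herm.Inv σ) {b0 : F} (hb : σ b0 + b0 = -1) {K0 : Subfield F} {C : Set F}
    (span : ∀ P : AddSubgroup F, (∀ r ∈ K0, r ≠ 0 → ∀ β ∈ C, r * β ∈ P) → ∀ s, s ∈ P) (i : I ⊕ I) :
    (suD I hσ True).GenY i 1 b0 K0 C := by
  unfold UD.GenY
  generalize hC : closure {g | ∃ r ∈ K0, r ≠ 0 ∧ ∃ γ ∈ C, g = (suD I hσ True).Y i ((suD I hσ True).σ (r * γ) * 1)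
    (r * γ * (suD I hσ True).σ (r * γ) * b0)} = Cl
  have h1 : ∀ u, ∃ b, (suD I hσ True).L u b ∧ (suD I hσ True).Y i u b ∈ Cl := fun u => by
    simpa [hσ.invol] using span
      { carrier := {s | ∃ b, (suD I hσ True).L (σ s) b ∧ (suD I hσ True).Y i (σ s) b ∈ Cl}
        zero_mem' := ⟨0, by simp [suD], by simp [UD.Y_zero]⟩
        add_mem' := fun ⟨b, h1, h2⟩ ⟨b', h1', h2'⟩ =>
          ⟨_, by simpa using UD.L_mul _ h1 h1', by simpa [UD.Y_mul] using mul_mem h2 h2'⟩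
        neg_mem' := fun ⟨b, h1, h2⟩ => ⟨_, by simpa using UD.L_inv _ h1, by simpa [UD.Y_inv] using inv_mem h2⟩ }
      (fun r hr r0 γ hγ => ⟨r * γ * σ (r * γ) * b0, ⟨.inl trivial, by
        simp only [map_mul, hσ.invol]; linear_combination (r * γ * σ r * σ γ) * hb⟩,
        by rw [← hC]; exact Subgroup.subset_closure ⟨r, hr, r0, γ, hγ, by rw [mul_one]; rfl⟩⟩) (σ u)
  rintro _ ⟨u, b, hL, rfl⟩
  obtain ⟨b', h2, h3⟩ := h1 u
  obtain ⟨a, ha⟩ := hσ.exists_sub (c := b - b') (by rw [map_sub]; linear_combination hL.2 - h2.2)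
  obtain ⟨c, -, h4⟩ := h1 a
  obtain ⟨c', -, h5⟩ := h1 1
  convert mul_mem (mul_mem (mul_mem h4 h5) (inv_mem (mul_mem h5 h4))) h3 using 1
  simp only [UD.Y_mul, UD.Y_inv, suD, map_add, map_one, map_neg]
  congr 1
  · ring
  · linear_combination -ha

theorem sp_cd : CD (spD I F) (RingHom.id F) 1 0 1 ((2 : F) ≠ 0) :=
  ⟨fun _ _ => rfl, fun _ => rfl, one_ne_zero, fun b => by simp [spD], rfl,
    fun h => ⟨rfl, -2⁻¹, by simp [spD]; field_simp; norm_num⟩, fun h t c _ e => by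
      rw [not_not] at h
      exact mul_self_eq_zero.mp (by simp [spD] at e; linear_combination e + c * h)⟩

theorem sp_c0 : ∃ c0 : F, c0 + c0 = 0 ∧ ∀ c, c + c = 0 → ∃ s, c = s * c0 := by
  by_cases h : (2 : F) = 0
  · exact ⟨1, by linear_combination h, fun c _ => ⟨c, by simp⟩⟩
  · exact ⟨0, by simp, fun c e => ⟨0, by simpa [← two_mul, h] using e⟩⟩

theorem sp_pres [Fintype F] {n : ℕ} (hn : 1 ≤ n) {κ : Type} {f : κ → SL(n + 2, F)} {m : ℕ} (hf : PresOn f m) :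
    ∃ g : κ ⊕ Fin 2 → (spD (Fin (n + 2)) F).E, PresOn g (m + 16) := by
  obtain ⟨c0, h1, h2⟩ := sp_c0 (F := F)
  exact c_pres hn sp_cd (genY_even (ι := RingHom.id F) (fun _ => rfl) (fun u b h => ⟨h, b, by simp⟩) (by simp) rfl)
    (β := 1) h1 h2 (fun c => ⟨0, c, by simp⟩) hf

theorem sp_pres2 (F : Type*) [Field F] [Fintype F] :
    ∃ g : Fin 3 ⊕ Fin 3 → (spD (Fin (0 + 2)) F).E, PresOn g 35 := by
  obtain ⟨c0, h1, h2⟩ := sp_c0 (F := F)
  obtain ⟨f, hf⟩ := (sl2_pres_eight F).1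
  exact c_pres2 sp_cd (β := 1) (δ := 1) (s1 := 1) (t1 := c0) (s2 := 1) (t2 := c0) (s3 := 1) (t3 := c0) one_ne_zero
    (genY_even (ι := RingHom.id F) (fun _ => rfl) (fun u b h => ⟨h, b, by simp⟩) (by simp) (by simp)) (.inl rfl)
    (fun _ => rfl) (fun c => ⟨0, c, by simp⟩) (by simpa [spD]) (by simpa [spD]) (by simpa [spD])
    (fun G _ f Y h e _ _ e' => h.top (ι := RingHom.id F) (fun _ => rfl) (by simp) (by ext; simp) e e' h2
      fun c => ⟨0, c, by simp⟩) hf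

section
variable {σ : F →+* F} (hσ : Herm.Inv σ) {θ : F} (θ0 : θ ≠ 0) (hθ : θ + σ θ = 0)
include hσ θ0 hθ

theorem skew_iff (b : F) : b + σ b = 0 ↔ ∃ s : Herm.fixF σ, b = θ * s := by
  have e : σ θ = -θ := by linear_combination hθ
  refine ⟨fun h => ⟨⟨b / θ, Herm.mem_fixF.mpr <| by rw [map_div₀, e]; field_simp; linear_combination -h⟩, by field_simp⟩, ?_⟩
  rintro ⟨s, rfl⟩
  rw [map_mul, e, show σ s = s from s.2]; ring

theorem su_cd_even : CD (suD I hσ False) (Herm.fixF σ).subtype θ 0 θ True :=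
  ⟨fun _ _ => rfl, fun s => s.2, θ0, fun b => by simp [suD, add_comm, skew_iff hσ θ0 hθ], ⟨.inr rfl, by
    simpa [add_comm] using hθ⟩, fun _ => ⟨rfl, (hσ.exists_trace (c := -1) (by simp)).imp fun c h => by
      simp [suD, h]⟩, by simp⟩

theorem su_cd_odd {b0 : F} (hb : σ b0 + b0 = -1) : CD (suD I hσ True) (Herm.fixF σ).subtype θ 1 b0 False :=
  ⟨fun _ _ => rfl, fun s => s.2, θ0, fun b => by simp [suD, add_comm, skew_iff hσ θ0 hθ], ⟨.inl trivial, by simp [hb]⟩,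
    by simp, fun _ t _ e _ => by simpa using e⟩

end

theorem su_pres [Fintype F] {σ : F →+* F} (hσ : Herm.Inv σ) (od : Prop) {n : ℕ} (hn : 1 ≤ n) {κ : Type}
    {f : κ → SL(n + 2, F)} {m : ℕ} (hf : PresOn f m) :
    ∃ g : κ ⊕ Fin 2 → (suD (Fin (n + 2)) hσ od).E, PresOn g (m + 16) := by
  obtain ⟨θ, θ0, hθ⟩ := hσ.exists_skew
  obtain ⟨β, hβ⟩ := hσ.exists_trace_one
  have h3 : ∀ c, c + σ c = 0 → ∃ s : Herm.fixF σ, c = s * θ := fun c e => by
    simpa [mul_comm θ] using (skew_iff hσ θ0 hθ c).mp e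
  have h4 : ∀ c, ∃ s s' : Herm.fixF σ, c = s * θ + s' * β := fun c => by
    obtain ⟨s, hs⟩ := h3 (c - (c + σ c) * β) (by
      simp only [map_sub, map_mul, map_add, hσ.invol]; linear_combination (-c - σ c) * hβ)
    exact ⟨s, ⟨c + σ c, Herm.mem_fixF.mpr <| by simp [hσ.invol, add_comm]⟩, by rw [← hs]; simp⟩
  by_cases h : od
  · obtain rfl : od = True := eq_true h
    obtain ⟨b0, hb⟩ := hσ.exists_trace (c := -1) (by simp)
    rw [add_comm] at hb
    exact c_pres hn (su_cd_odd hσ θ0 hθ hb) (genY_odd hσ hb span_top) hθ h3 h4 hf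
  · obtain rfl : od = False := eq_false h
    exact c_pres hn (su_cd_even hσ θ0 hθ) (genY_even (D := suD _ hσ False) (ι := (Herm.fixF σ).subtype)
      (fun s => s.2) (fun u b h =>
      ⟨h.1.resolve_left id, (skew_iff hσ θ0 hθ b).mp (by simpa [h.1.resolve_left id, add_comm] using h.2)⟩)
      (by simp) rfl) hθ h3 h4 hf

theorem su_pres2 [Fintype F] {σ : F →+* F} (hσ : Herm.Inv σ) (od : Prop) :
    ∃ g : Fin 3 ⊕ Fin 3 → (suD (Fin (0 + 2)) hσ od).E, PresOn g 35 := by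
  obtain ⟨θ, θ0, hθ⟩ := hσ.exists_skew
  obtain ⟨β, hβ⟩ := hσ.ne
  obtain ⟨f, hf⟩ := (sl2_pres_eight F).1
  have e : σ θ = -θ := by linear_combination hθ
  have β0 : β ≠ 0 := by rintro rfl; simp at hβ
  have h1 : ∀ c, ∃ s s' : Herm.fixF σ, c = s * β + s' := fun c => by
    have h1 : β - σ β ≠ 0 := sub_ne_zero.mpr hβ.symm
    have h2 : σ β - β ≠ 0 := sub_ne_zero.mpr hβ
    exact ⟨⟨(c - σ c) / (β - σ β), Herm.mem_fixF.mpr <| by simp only [map_div₀, map_sub, hσ.invol]; field_simp; ring⟩,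
      ⟨c - (c - σ c) / (β - σ β) * β, Herm.mem_fixF.mpr <| by
        simp only [map_div₀, map_sub, map_mul, hσ.invol]; field_simp; ring⟩, by simp⟩
  have hF : ∀ (G : Type) [Group G] (f : F → F → G) (Y : Subgroup G), FB σ (Herm.fixF σ).subtype.fieldRange f Y →
      f 1 θ = 1 → f β (θ * σ β) = 1 → f (β + 1) (θ + θ * σ β) = 1 → f 1 (θ * σ β) ∈ Y → FC σ f Y :=
    fun G _ f Y h e1 e2 e3 e4 => h.fix (ι := (Herm.fixF σ).subtype) (fun s => s.2) (fun s => ⟨s, rfl⟩) e1 e2 e3 e4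
      (fun c e => by simpa [mul_comm θ] using (skew_iff hσ θ0 hθ c).mp e) (fun c => by
        obtain ⟨s, s', h⟩ := h1 (σ (c / θ))
        have := congrArg σ h
        rw [hσ.invol, map_add, map_mul, show σ s = s from s.2, show σ s' = s' from s'.2, div_eq_iff θ0] at this
        exact ⟨s', s, by simp [this]; ring⟩) h1
  have t1 : 1 * θ + σ (1 * θ) = 0 := by simpa using hθ
  have t2 : β * (θ * σ β) + σ (β * (θ * σ β)) = 0 := by simp only [map_mul, hσ.invol, e]; ring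
  have t3 : (β + 1) * (θ + θ * σ β) + σ ((β + 1) * (θ + θ * σ β)) = 0 := by
    simp only [map_mul, map_add, map_one, hσ.invol, e]; ring
  by_cases h : od
  · obtain rfl : od = True := eq_true h
    obtain ⟨b0, hb⟩ := hσ.exists_trace (c := -1) (by simp)
    rw [add_comm] at hb
    exact c_pres2 (su_cd_odd hσ θ0 hθ hb) β0 (genY_odd hσ hb (span_two h1)) (.inl rfl) (by simp) h1 t1 t2 t3 hF hf
  · obtain rfl : od = False := eq_false h
    exact c_pres2 (su_cd_even hσ θ0 hθ) one_ne_zero (genY_even (D := suD _ hσ False) (ι := (Herm.fixF σ).subtype)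
      (fun s => s.2) (fun u b h =>
      ⟨h.1.resolve_left id, (skew_iff hσ θ0 hθ b).mp (by simpa [h.1.resolve_left id, add_comm] using h.2)⟩)
      (K0 := (Herm.fixF σ).subtype.fieldRange) (fun s => ⟨s, rfl⟩) (by simp)) (.inr rfl) (by simp) h1 t1 t2 t3 hF hf

theorem ex_D2 {n : ℕ} (k : Fin (n + 2) ⊕ Fin (n + 2)) : ∃ j, D2 k j := by
  obtain ⟨j, h⟩ := exists_ne (ab k)
  exact ⟨inl j, D2_iff.mpr h.symm⟩

end Cfsg.Agent.Pres
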