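import Mathlib
import Cfsg.Agent.Pres.TC8

/-! Two generators for classical groups: general lemmas. -/

set_option autoImplicit false
set_option linter.unusedSectionVars false

namespace Cfsg.Agent.Pres

open Subgroup Equiv Polynomial Sum
open scoped commutatorElement

variable {J F : Type*} [Bar J] [Field F] [DecidableEq J] [Fintype J]

/-- multipliers of an additive subgroup -/
def mulR {K : Type*} [Field K] (ι : K →+* F) (S : AddSubgroup F) : Subring K where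
  carrier := {r | ∀ t ∈ S, ι r * t ∈ S}
  mul_mem' h h' t ht := by rw [map_mul, mul_assoc]; exact h _ (h' t ht)
  one_mem' t ht := by simpa using ht
  add_mem' h h' t ht := by rw [map_add, add_mul]; exact add_mem (h t ht) (h' t ht)
  zero_mem' t _ := by simp
  neg_mem' h t ht := by rw [map_neg, neg_mul]; exact neg_mem (h t ht)

theorem mem_mulR {K : Type*} [Field K] {ι : K →+* F} {S : AddSubgroup F} {r : K} :
    r ∈ mulR ι S ↔ ∀ t ∈ S, ι r * t ∈ S := Iff.rfl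

theorem aeval_mem_subring {p : ℕ} [Fact p.Prime] [Algebra (ZMod p) F] {R : Subring F} {x : F} (hx : x ∈ R)
    (f : (ZMod p)[X]) : aeval x f ∈ R := by
  induction f using Polynomial.induction_on with
  | C a => rw [← ZMod.natCast_zmod_val a, map_natCast, map_natCast]; exact natCast_mem R _
  | add g g' h1 h2 => rw [map_add]; exact add_mem h1 h2
  | monomial n a ih => rw [pow_succ, ← mul_assoc, map_mul, aeval_X]; exact mul_mem ih hx

theorem exists_prim_sq (F : Type*) [Field F] [Fintype F] : ∃ ζ : F, ζ ≠ 0 ∧ orderOf ζ + 1 = Fintype.card F ∧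
    (∀ t, t ≠ 0 → ∃ k : ℕ, ζ ^ k = t) ∧ ∀ R : Subring F, ζ ^ 2 ∈ R → ∀ t, t ∈ R := by
  obtain ⟨p, hp⟩ := CharP.exists F
  have : Fact p.Prime := ⟨CharP.char_is_prime F p⟩
  let _ := ZMod.algebra F p
  obtain ⟨ζ, h0, h1, h2⟩ := exists_prim F
  refine ⟨ζ, h0, h1, h2, fun R hR t => ?_⟩
  obtain ⟨f, rfl⟩ := sq_gen (p := p) h0 h1 t
  exact aeval_mem_subring hR f

theorem subring_inv [Finite F] {R : Subring F} {x : F} (hx : x ∈ R) : x⁻¹ ∈ R := by
  have := Fintype.ofFinite F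
  by_cases h : x = 0
  · simp [h]
  have h1 := FiniteField.pow_card_sub_one_eq_one x h
  obtain ⟨n, hn⟩ : ∃ n, Fintype.card F - 1 = n + 1 := ⟨Fintype.card F - 2, by have := Fintype.one_lt_card (α := F); omega⟩
  rw [hn, pow_succ] at h1
  rw [← eq_inv_of_mul_eq_one_left h1]
  exact pow_mem hx n

theorem pow_split {G : Type*} [Group G] {y h : G} {N : ℕ} (hc : Commute y h) (hy : y ^ N = 1) (hh : h ^ N = h)
    {K : Subgroup G} (hK : y * h ∈ K) : y ∈ K ∧ h ∈ K := by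
  have := pow_mem hK N
  rw [hc.mul_pow, hy, hh, one_mul] at this
  exact ⟨(mul_mem_cancel_right this).mp hK, this⟩

namespace UD

variable {D : UD J F} {K : Subgroup (HH J F)}

variable (D) in
theorem Y_pow (i : J) (u b : F) (n : ℕ) : D.Y i u b ^ n = D.Y i (n * u) (n * b - n.choose 2 * (D.σ u * u)) := by
  induction n with
  | zero => simp [Y_zero]
  | succ n ih =>
    rw [pow_succ, ih, Y_mul, Nat.choose_succ_succ' n 1]
    congr 1 <;> simp <;> ring

variable (D) in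
theorem Y_pow_card [Fintype F] (i : J) (u b : F) : D.Y i u b ^ (Fintype.card F ^ 2) = 1 := by
  rw [sq, pow_mul, Y_pow, Y_pow]; simp [FiniteField.cast_card_eq_zero, Y_zero]

variable (D) in
theorem X_pow_card [Fintype F] (i j : J) (t : F) : D.X i j t ^ (Fintype.card F ^ 2) = 1 := by
  rw [← add_nsmul_eq (D.X_add i j)]; simp [FiniteField.cast_card_eq_zero, X_zero]

theorem diag_pow {h : HH J F} {e : Option J → F} (he : ∀ y, h (ee y) = e y • ee y) (n : ℕ) (y : Option J) :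
    (h ^ n) (ee y) = e y ^ n • ee y := by
  induction n with
  | zero => simp
  | succ n ih => rw [pow_succ, LinearEquiv.mul_apply, he, map_smul, ih, smul_smul, pow_succ']

theorem diag_pow_card [Fintype F] {h : HH J F} {e : Option J → F} (he : ∀ y, h (ee y) = e y • ee y) :
    h ^ (Fintype.card F ^ 2) = h := basis_ext fun y => by
  rw [diag_pow he, he, FiniteField.pow_card_pow]

theorem Mon_le' {g x : HH J F} {w : Perm (Option J)} (h : (g, w) ∈ D.Mon) (hg : x * g ∈ K) {b : Rt J}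
    (hb : D.R b ≤ K) {y : HH J F} (hy : y ∈ D.R (w • b)) : x * y * x⁻¹ ∈ K := by
  have := Mon_conj (g := g⁻¹) (w := w⁻¹) (inv_mem h) _ hy
  rw [inv_smul_smul] at this
  simpa [mul_assoc] using mul_mem (mul_mem hg (hb this)) (inv_mem hg)

theorem Mon_le {g x : HH J F} {w : Perm (Option J)} (h : (g, w) ∈ D.Mon) (hg : x * g ∈ K) {b : Rt J}
    (hx : ∀ y ∈ D.R (w • b), Commute x y) : D.R (w • b) ≤ K ↔ D.R b ≤ K := by
  refine ⟨fun h1 y hy => ?_, fun h1 y hy => ?_⟩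
  · have h2 := Mon_conj h b hy
    have := mul_mem (mul_mem (inv_mem hg) (h1 h2)) hg
    rw [mul_inv_rev, mul_assoc g⁻¹, mul_assoc g⁻¹, ← mul_assoc (x⁻¹ * _), (hx _ h2).inv_left.eq] at this
    simpa [mul_assoc] using this
  · simpa [(hx y hy).eq] using Mon_le' h hg h1 hy

theorem Mon_X_le {g : HH J F} {w : Perm (Option J)} (h : (g, w) ∈ D.Mon) (hg : g ∈ K) {i j i' j' : J} (hd : D2 i j)
    (e : w (some i) = some i') (e' : w (some j) = some j') : D2 i' j' ∧ (D.RX i' j' ≤ K ↔ D.RX i j ≤ K) := by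
  obtain ⟨s, s1, -, s3⟩ := h.2.1.ex
  obtain rfl : s i = i' := Option.some.inj ((s1 i).symm.trans e)
  obtain rfl : s j = j' := Option.some.inj ((s1 j).symm.trans e')
  refine ⟨s3 _ _ hd, ?_⟩
  rw [← D.R_x hd, ← D.R_x (s3 _ _ hd), ← e, ← e']
  exact Mon_le (x := 1) h (by simpa) (b := (some i, some j)) fun _ _ => Commute.one_left _

theorem Y_inj' {i : J} {u b u' b' : F} (h : D.Y i u b = D.Y i u' b') : u = u' ∧ b = b' :=
  ⟨by simpa [Y_apply] using congrArg (fun g : HH J F => g (ee (some (bar i))) none) h,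
    by simpa [Y_apply] using congrArg (fun g : HH J F => g (ee (some (bar i))) (some i)) h⟩

theorem Mon_Y' {g : HH J F} {w : Perm (Option J)} (h : (g, w) ∈ D.Mon) {i i' : J} (e : w (some i) = some i') {u b : F}
    (hL : D.L u b) : ∃ t s : F, t ≠ 0 ∧ s ≠ 0 ∧ (u ≠ 0 → s = t * D.σ t) ∧ D.L (t * u) (s * b) ∧
      g * D.Y i u b * g⁻¹ = D.Y i' (t * u) (s * b) := by
  obtain ⟨d, h1, -, h3⟩ := Mon_ex h
  have h4 := fun y => ne_of_apply (h1 y)
  have h5 := Mon_conjY h h1 e hL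
  refine ⟨_, _, div_ne_zero (h4 _) (h4 _), div_ne_zero (h4 _) (h4 _), fun hu => ?_, ?_, h5⟩
  · have e1 := h3 none
    have e2 := h3 (some (bar i))
    have e3 : ∀ y, D.η' y = 1 := by rintro (_ | k); exacts [rfl, D.L_η hL hu k]
    have e4 := h4 (some (bar i))
    have e5 : D.σ (d (some (bar i))) ≠ 0 := by simpa using e4
    simp only [e3, ob_some, ob_none, bar_bar, mul_one] at e1 e2
    rw [map_div₀]; field_simp; grind
  · have := Mon_conj h (some i, none) (Y_mem i hL)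
    rw [Prod.smul_mk, Perm.smul_def, Perm.smul_def, e, h.2.1.non, h5] at this
    obtain ⟨u', b', h6, h7⟩ := this
    obtain ⟨rfl, rfl⟩ := Y_inj' h7
    exact h6

variable (D K) in
/-- coefficients of short root elements in a subgroup -/
def AX (i j : J) : AddSubgroup F where
  carrier := {t | D.X i j t ∈ K}
  add_mem' h h' := by rw [Set.mem_setOf_eq, X_add]; exact mul_mem h h'
  zero_mem' := by rw [Set.mem_setOf_eq, X_zero]; exact one_mem _
  neg_mem' h := by rw [Set.mem_setOf_eq, X_neg]; exact inv_mem h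

variable (D K) in
/-- coefficients of long root elements in a subgroup -/
def AZ (i : J) : AddSubgroup F where
  carrier := {t | D.Y i 0 t ∈ K}
  add_mem' h h' := by simpa [Y_mul] using K.mul_mem h h'
  zero_mem' := by rw [Set.mem_setOf_eq, Y_zero]; exact one_mem _
  neg_mem' h := by simpa [Y_inv] using K.inv_mem h

theorem mem_AX {i j : J} {t : F} : t ∈ D.AX K i j ↔ D.X i j t ∈ K := Iff.rfl
theorem mem_AZ {i : J} {t : F} : t ∈ D.AZ K i ↔ D.Y i 0 t ∈ K := Iff.rfl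

theorem RX_le' {i j : J} : D.RX i j ≤ K ↔ ∀ t, D.X i j t ∈ K := ⟨fun h t => h ⟨t, rfl⟩, by rintro h _ ⟨t, rfl⟩; exact h t⟩
theorem RZ_le' {i : J} : D.RZ i ≤ K ↔ ∀ b, D.L 0 b → D.Y i 0 b ∈ K :=
  ⟨fun h b hb => h ⟨b, hb, rfl⟩, by rintro h _ ⟨t, ht, rfl⟩; exact h t ht⟩

theorem AX_sign {i j : J} {t : F} (k : J) : D.η k * t ∈ D.AX K i j ↔ t ∈ D.AX K i j := by
  rcases D.η_or k with e | e <;> simp [e]

theorem AX_symm {i j : J} {t : F} (h : t ∈ D.AX K i j) : D.σ t ∈ D.AX K (bar j) (bar i) := by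
  rw [mem_AX, D.X_symm, ← mem_AX, neg_mem_iff, mul_assoc, AX_sign, AX_sign] at h
  exact h

theorem comm_mem {G : Type*} [Group G] {K : Subgroup G} {x y : G} (hx : x ∈ K) (hy : y ∈ K) : ⁅x, y⁆ ∈ K :=
  mul_mem (mul_mem (mul_mem hx hy) (inv_mem hx)) (inv_mem hy)

theorem L_XY {u b : F} (hL : D.L u b) (i j : J) (a : F) : D.L (D.σ a * u) (D.η i * (D.η j * (D.σ a * a * b))) :=
  L_sign (L_sign (by simpa using D.L_smul hL (D.σ a)) j) i

theorem AX_Z {i j : J} (h : D2 i j) (hi : D.RZ i ≤ K) (hj : D.RZ j ≤ K) {t c : F} (ht : t ∈ D.AX K i j) (hc : D.L 0 c) :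
    t * c ∈ D.AX K i (bar j) := by
  have := comm_mem ht (RZ_le'.mp hj c hc)
  rw [D.XY_rel h t hc, mul_mem_cancel_right (by simpa using RZ_le'.mp hi _ (by simpa using L_XY hc i j t))] at this
  simpa [mem_AX] using this

theorem Y_le (hX : ∀ i j t, D2 i j → D.X i j t ∈ K) (hZ : ∀ i, D.RZ i ≤ K)
    (h : ∀ i, ∃ j u b, D2 i j ∧ D.L u b ∧ u ≠ 0 ∧ D.Y j u b ∈ K) : D.E ≤ K := by
  refine D.E_le hX fun i u b hL => ?_
  obtain ⟨j, u', b', h1, h2, h3, h4⟩ := h i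
  have e := comm_mem (hX _ _ (D.σ (u / u')) h1) h4
  have hL' := L_XY h2 i j (D.σ (u / u'))
  rw [D.XY_rel h1 _ h2, mul_mem_cancel_left (hX _ _ _ h1.barr)] at e
  rw [D.σσ, div_mul_cancel₀ _ h3] at e hL'
  generalize D.η i * _ = c at e hL'
  have := mul_mem e (RZ_le'.mp (hZ i) (b - c) (by convert D.L_mul (D.L_inv hL') hL using 1 <;> simp; ring))
  simpa [Y_mul] using this

end UD

/-- Coxeter type monomial elements -/
structure Cx (D : UD J F) where
  w : HH J F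
  ω : Perm (Option J)
  d : Option J → F
  s : J → J
  a : J
  l : J
  mon : (w, ω) ∈ D.Mon
  wE : w ∈ D.E
  we : ∀ y, w (ee y) = d y • ee (ω y)
  hs : ∀ i, ω (some i) = some (s i)
  ind : ∀ T : J → Prop, T a → (∀ i, T i → T (s i)) → ∀ j, T j
  chain : ∀ T : J → Prop, T a → (∀ i, T i → s i ≠ bar a → s i ≠ bar l → T (s i)) → T l
  sl : s l = bar a
  d2 : D2 l a

namespace Cx

open UD

variable {D : UD J F} (C : Cx D) {K : Subgroup (HH J F)}

theorem s_bar (i : J) : C.s (bar i) = bar (C.s i) := by simpa [C.hs] using C.mon.2.1 (some i)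

theorem ind_iff {T : J → Prop} (h : ∀ i, T (C.s i) ↔ T i) {i : J} (hi : T i) (j : J) : T j := by
  have := C.ind (fun i => T i ↔ T C.a) Iff.rfl fun i e => (h i).trans e
  exact (this j).mpr ((this i).mp hi)

theorem s_surj (j : J) : ∃ i, C.s i = j :=
  C.ind (fun j => ∃ i, C.s i = j) ⟨bar C.l, by simp [s_bar, C.sl]⟩ (fun i _ => ⟨i, rfl⟩) j

theorem smul_z (i : J) : C.ω • ((some i, some (bar i)) : Rt J) = (some (C.s i), some (bar (C.s i))) := by
  simp [C.hs, s_bar]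

theorem smul_y (i : J) : C.ω • ((some i, none) : Rt J) = (some (C.s i), none) := by simp [C.hs, C.mon.2.1.non]

theorem D2_s {i j : J} : D2 (C.s i) (C.s j) ↔ D2 i j := by
  have : ∀ i j, C.s i = C.s j ↔ i = j := fun i j =>
    ⟨fun e => Option.some.inj (C.ω.injective (by rw [C.hs, C.hs, e])), congrArg _⟩
  simp only [D2, ← s_bar, ne_eq, this]

theorem D2_succ (i : J) : D2 i (C.s i) :=
  C.ind_iff (T := fun i => D2 i (C.s i)) (fun _ => C.D2_s) (C.sl ▸ C.d2.barr) i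

theorem fin (hw : C.w ∈ K) (hn : ∀ i, ∃ n ∈ K, (n, swap (some i) (some (bar i))) ∈ D.Mon) {k : J}
    (hk : D.RX k (C.s k) ≤ K) (i j : J) (t : F) (h : D2 i j) : D.X i j t ∈ K := by
  have h1 : ∀ i, D.RX i (C.s i) ≤ K := C.ind_iff (T := fun i => D.RX i (C.s i) ≤ K)
    (fun i => (Mon_X_le C.mon hw (C.D2_succ i) (C.hs _) (C.hs _)).2) hk
  refine RX_le'.mp (C.ind (fun i => ∀ j, D2 i j → D.RX i j ≤ K) ?_ (fun i ih j hj => ?_) i j h) t
  · refine C.ind _ (fun h => absurd rfl h.1) fun j ih hj => ?_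
    rcases D2_or C.a j with e | rfl | e
    · refine RX_le'.mpr fun t => ?_
      rw [← mul_one t, ← D.XX_rel e (C.D2_succ j) hj]
      exact comm_mem (RX_le'.mp (ih e) _) (RX_le'.mp (h1 j) _)
    · exact h1 _
    · obtain ⟨n, hn, hn'⟩ := hn j
      have h2 := C.D2_succ j
      exact e ▸ (Mon_X_le hn' hn h2 (swap_apply_left _ _) (swap_apply_of_ne_of_ne (by simp [h2.all])
        (by simp [h2.all]))).2.mpr (h1 j)
  · obtain ⟨j, rfl⟩ := C.s_surj j
    exact (Mon_X_le C.mon hw (C.D2_s.mp hj) (C.hs _) (C.hs _)).2.mpr (ih j (C.D2_s.mp hj))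

theorem Z_all (hw : C.w ∈ K) {k : J} (hk : D.RZ k ≤ K) (i : J) : D.RZ i ≤ K :=
  C.ind_iff (T := fun i => D.RZ i ≤ K) (fun i => by
    rw [← D.R_z, ← D.R_z, ← C.smul_z]
    exact Mon_le (x := 1) C.mon (by simpa) fun _ _ => Commute.one_left _) hk i

theorem finZ (hw : C.w ∈ K) {θ : F} (θ0 : θ ≠ 0) (hθ : D.L 0 θ) {k k' : J} (hk' : D.RZ k' ≤ K)
    (hk : D.RX k (C.s k) ≤ K) (i j : J) (t : F) (h : D2 i j) : D.X i j t ∈ K :=
  C.fin hw (fun i => ⟨D.nY i θ, mul_mem (mul_mem (RZ_le'.mp (C.Z_all hw hk' _) _ (L_ninv i hθ θ0))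
    (RZ_le'.mp (C.Z_all hw hk' _) _ hθ)) (RZ_le'.mp (C.Z_all hw hk' _) _ (L_ninv i hθ θ0)), nY_mon i hθ θ0⟩) hk i j t h

theorem d_ne (y : Option J) : C.d y ≠ 0 := ne_of_apply (C.we y)

theorem Y_chain {α : F} (gK : D.X C.l (bar C.a) α * C.w ∈ K) {u b : F} (hL : D.L u b) (h : D.Y C.a u b ∈ K) :
    ∃ t s : F, t ≠ 0 ∧ s ≠ 0 ∧ (u ≠ 0 → s = t * D.σ t) ∧ D.L (t * u) (s * b) ∧ D.Y C.l (t * u) (s * b) ∈ K := by
  refine C.chain (fun i => ∃ t s : F, t ≠ 0 ∧ s ≠ 0 ∧ (u ≠ 0 → s = t * D.σ t) ∧ D.L (t * u) (s * b) ∧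
    D.Y i (t * u) (s * b) ∈ K) ⟨1, 1, by simpa using ⟨hL, h⟩⟩ ?_
  rintro i ⟨t, s, h1, h2, h3, h4, h5⟩ n1 n2
  obtain ⟨t', s', k1, k2, k3, k4, k5⟩ := Mon_Y' C.mon (C.hs i) h4
  have := mul_mem (mul_mem gK h5) (inv_mem gK)
  rw [mul_inv_rev, mul_assoc _ C.w, mul_assoc, ← mul_assoc _ C.w⁻¹, k5, ← mul_assoc,
    ← (D.YX_comm (fun e => n2 (by simp [e])) n1.symm _ _ _).eq, mul_inv_cancel_right] at this
  exact ⟨t' * t, s' * s, mul_ne_zero k1 h1, mul_ne_zero k2 h2, fun e => by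
    rw [h3 e, k3 (mul_ne_zero h1 e), map_mul]; ring, by simpa only [mul_assoc] using k4,
    by simpa only [mul_assoc] using this⟩

theorem Y_all (hw : C.w ∈ K) {u b : F} (hL : D.L u b) (h : D.Y C.a u b ∈ K) (hu : u ≠ 0) (i : J) :
    ∃ u b, D.L u b ∧ u ≠ 0 ∧ D.Y i u b ∈ K := by
  refine C.ind (fun i => ∃ u b, D.L u b ∧ u ≠ 0 ∧ D.Y i u b ∈ K) ⟨u, b, hL, hu, h⟩ ?_ i
  rintro i ⟨u, b, h1, h2, h3⟩
  obtain ⟨t', s', k1, -, -, k4, k5⟩ := Mon_Y' C.mon (C.hs i) h1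
  exact ⟨_, _, k4, mul_ne_zero k1 h2, k5 ▸ mul_mem (mul_mem hw h3) (inv_mem hw)⟩

theorem genA [Finite F] {h : HH J F} {e : Option J → F} (hm : (h, 1) ∈ D.Mon) (he : ∀ y, h (ee y) = e y • ee y)
    (hK : h ∈ K) {α : F} (gK : D.X C.l (bar C.a) α * C.w ∈ K) (e1 : e (some (bar C.a)) = e (some C.a))
    (e2 : e (some C.l) ≠ e (some C.a)) {θ : F} (θ0 : θ ≠ 0) (hθ : D.L 0 θ) (hZ : D.RZ C.l ≤ K)
    (hf : ∀ S : AddSubgroup F, (∀ t ∈ S, e (some C.l) / e (some C.a) * t ∈ S) → (∀ c, D.L 0 c → α * c ∈ S) →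
      (C.s C.a = C.l → C.d (some C.a) / C.d (some (bar C.l)) * D.σ α ∈ S) → ∀ t, t ∈ S) :
    C.w ∈ K ∧ (∀ i, D.RZ i ≤ K) ∧ ∀ i j t, D2 i j → D.X i j t ∈ K := by
  have h1 : D.RZ C.a ≤ K := (C.chain (fun i => D.RZ i ≤ K ↔ D.RZ C.a ≤ K) Iff.rfl fun i ih n1 n2 => by
    rw [← ih, ← D.R_z, ← D.R_z i, ← C.smul_z]
    refine Mon_le C.mon gK ?_
    rw [C.smul_z, D.R_z]
    rintro _ ⟨b, -, rfl⟩
    exact (D.YX_comm (fun e => n2 (by simp [e])) n1.symm _ _ _).symm).mp hZ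
  have d2 := C.d2
  have e0 : e (some C.a) ≠ 0 := ne_of_apply (he _)
  have h2 : ∀ t ∈ D.AX K C.l C.a, e (some C.l) / e (some C.a) * t ∈ D.AX K C.l C.a := fun t ht => by
    rw [mem_AX, ← Mon_conjX hm he d2 rfl rfl]; exact mul_mem (mul_mem hK ht) (inv_mem hK)
  have h3 : ∀ c, D.L 0 c → α * c ∈ D.AX K C.l C.a := fun c hc => by
    have h4 := Mon_le' C.mon gK (b := (some C.l, some (bar C.l))) (D.R_z _ ▸ hZ) (y := D.Y (bar C.a) 0 c)
      (by rw [C.smul_z, D.R_z, C.sl]; exact Z_mem _ hc)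
    have h5 := D.XY_rel d2.barr α hc
    rw [commutatorElement_def, mul_inv_eq_iff_eq_mul, mul_zero, mul_zero, add_zero, bar_bar,
      ← (D.YX_comm (ne_bar _) d2.1.symm _ _ _).eq] at h5
    rw [h5, mul_assoc, mul_mem_cancel_left (RZ_le'.mp hZ _ (by simpa using L_XY hc C.l (bar C.a) α))] at h4
    have h6 := mul_mem (mul_mem (mul_mem hK h4) (inv_mem hK)) (inv_mem h4)
    rw [show h * (D.X C.l C.a (α * c) * D.Y (bar C.a) 0 c) * h⁻¹ =
      h * D.X C.l C.a (α * c) * h⁻¹ * (h * D.Y (bar C.a) 0 c * h⁻¹) by group, Mon_conjX hm he d2 rfl rfl,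
      Mon_conjY hm he rfl hc, bar_bar, e1, div_self e0, mul_zero, one_mul, mul_inv_rev, mul_assoc,
      mul_inv_cancel_left, ← X_neg, ← X_add] at h6
    have h7 : e (some C.l) / e (some C.a) - 1 ≠ 0 := by rwa [sub_ne_zero, Ne, div_eq_one_iff_eq e0]
    have := subring_inv ((mulR (RingHom.id F) (D.AX K C.l C.a)).sub_mem
      (x := e (some C.l) / e (some C.a)) h2 (one_mem _)) _ h6
    convert this using 1
    simp only [RingHom.id_apply]
    generalize e (some C.l) / e (some C.a) = β at h7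
    field_simp; ring
  have h4 : α ∈ D.AX K C.l (bar C.a) := by
    have := neg_mem (AX_Z d2 hZ h1 (h3 θ hθ) (L_ninv C.a hθ θ0))
    rwa [show -(α * θ * -θ⁻¹) = α by field_simp] at this
  have hw : C.w ∈ K := (K.mul_mem_cancel_left h4).mp gK
  have h5 := hf _ h2 h3 fun e => by
    have := AX_symm h4
    rw [bar_bar] at this
    rw [mem_AX, ← Mon_conjX C.mon C.we d2.symm.barr (e ▸ C.hs _) (by rw [C.hs, s_bar, C.sl, bar_bar])]
    exact mul_mem (mul_mem hw this) (inv_mem hw)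
  refine ⟨hw, C.Z_all hw hZ, C.finZ hw θ0 hθ hZ (k := C.l) (RX_le'.mpr fun t => ?_)⟩
  have := AX_Z d2 hZ h1 (h5 (t / θ)) hθ
  rwa [div_mul_cancel₀ _ θ0, ← C.sl] at this

end Cx

end Cfsg.Agent.Pres
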