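import Mathlib
import Cfsg.Agent.Pres.TG1

/-! Two generators for symplectic groups. -/

set_option autoImplicit false
set_option linter.unusedSectionVars false

namespace Cfsg.Agent.Pres

open Subgroup Equiv Polynomial Sum UD
open scoped commutatorElement

variable {J F : Type*} [Bar J] [Field F] [DecidableEq J] [Fintype J]

theorem two_gen_of {G : Type*} [Group G] {E : Subgroup G} {a b : G} (ha : a ∈ E) (hb : b ∈ E)
    (h : ∀ K : Subgroup G, a ∈ K → b ∈ K → E ≤ K) : ∃ f : Fin 2 → E, closure (Set.range f) = ⊤ := by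
  refine ⟨![⟨a, ha⟩, ⟨b, hb⟩], top_unique fun x _ => ?_⟩
  obtain ⟨y, hy, e⟩ := h ((closure (Set.range (![⟨a, ha⟩, ⟨b, hb⟩] : Fin 2 → E))).map E.subtype)
    ⟨_, subset_closure ⟨0, rfl⟩, rfl⟩ ⟨_, subset_closure ⟨1, rfl⟩, rfl⟩ x.2
  exact Subtype.ext e ▸ hy

theorem two_gen_map {G H : Type*} [Group G] [Group H] {f : Fin 2 → G} (hf : closure (Set.range f) = ⊤) (φ : G →* H)
    (hφ : Function.Surjective φ) : ∃ a b : H, closure ({a, b} : Set H) = ⊤ := by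
  refine ⟨φ (f 0), φ (f 1), ?_⟩
  rw [← Set.image_pair, ← MonoidHom.map_closure, ← map_top_of_surjective φ hφ, ← hf]
  congr 2; ext x; simp [Fin.exists_fin_two, eq_comm]

theorem two_gen_quot {G H : Type*} [Group G] [Group H] (h : ∃ f : Fin 2 → G, closure (Set.range f) = ⊤)
    (e : Nonempty (G ≃* H)) : ∃ a b : H ⧸ center H, closure ({a, b} : Set (H ⧸ center H)) = ⊤ := by
  obtain ⟨f, hf⟩ := h
  obtain ⟨e⟩ := e
  exact two_gen_map hf ((QuotientGroup.mk' _).comp e.toMonoidHom) ((QuotientGroup.mk'_surjective _).comp e.surjective)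

theorem exists_dp {I : Type*} [DecidableEq I] [Fintype I] (D : UD (I ⊕ I) F) (σ : Perm I) :
    ∃ g ∈ D.E, (g, dp σ) ∈ D.Mon := by
  induction σ using Perm.swap_induction_on with
  | one => exact ⟨1, one_mem _, map_one (dp (I := I)) ▸ one_mem _⟩
  | swap_mul σ a b h ih =>
    obtain ⟨g, h1, h2⟩ := ih
    have := mul_mem (S := Subgroup _) (D.Mon_X (D2_inl h) one_ne_zero) h2
    rw [map_mul, dp_swap h]
    exact ⟨_, mul_mem (mul_mem (mul_mem (D.X_E _ _ _) (D.X_E _ _ _)) (D.X_E _ _ _)) h1, this⟩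

theorem exists_Cx {n : ℕ} (D : UD (Fin (n + 2) ⊕ Fin (n + 2)) F) {u b : F} (hL : D.L u b) (hb : b ≠ 0) :
    ∃ C : Cx D, C.a = inl 0 ∧ C.l = inl (Fin.last _) ∧ ∀ k : Fin (n + 1), C.s (inl k.castSucc) = inl k.succ := by
  obtain ⟨g, h1, h2⟩ := exists_dp D (finRotate (n + 2))
  have h3 := mul_mem (S := Subgroup _) h2 (Mon_Y (inl (Fin.last _)) hL hb)
  obtain ⟨d, h4, -⟩ := Mon_ex h3
  let s : Fin (n + 2) ⊕ Fin (n + 2) → Fin (n + 2) ⊕ Fin (n + 2) := fun i =>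
    Sum.map (· + 1) (· + 1) (swap (inl (Fin.last _)) (inr (Fin.last _)) i)
  have s1 : ∀ k : Fin (n + 1), s (inl k.castSucc) = inl k.succ := fun k => by
    simp [s, swap_apply_of_ne_of_ne, (Fin.castSucc_lt_last k).ne]
  have s2 : ∀ k : Fin (n + 1), s (inr k.castSucc) = inr k.succ := fun k => by
    simp [s, swap_apply_of_ne_of_ne, (Fin.castSucc_lt_last k).ne]
  have s3 : s (inl (Fin.last _)) = inr 0 := by simp [s]
  refine ⟨⟨_, _, d, s, inl 0, inl (Fin.last _), h3, mul_mem h1 (mul_mem (mul_mem (Y_E _ (L_aux hL hb (inl 0)).1)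
    (Y_E _ hL)) (Y_E _ (L_aux hL hb (inl 0)).2)), h4, ?_, fun T h0 hT => ?_, fun T h0 hT => ?_, s3,
    D2_inl (by simp)⟩, rfl, rfl, s1⟩
  · rintro (k | k) <;> by_cases e : k = Fin.last _ <;> simp [s, e, swap_apply_of_ne_of_ne]
  · have h5 : ∀ k, T (inl k) := fun k => by
      induction k using Fin.induction with
      | zero => exact h0
      | succ k ih => exact s1 k ▸ hT _ ih
    rintro (k | k)
    · exact h5 k
    · induction k using Fin.induction with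
      | zero => exact s3 ▸ hT _ (h5 _)
      | succ k ih => exact s2 k ▸ hT _ ih
  · generalize Fin.last (n + 1) = k
    induction k using Fin.induction with
    | zero => exact h0
    | succ k ih => exact s1 k ▸ hT _ ih (by simp [s1]) (by simp [s1])

namespace Cx

variable {D : UD J F} (C : Cx D)

theorem two_gen [Fintype F] {h : HH J F} {e : Option J → F} (hE : h ∈ D.E) (he : ∀ y, h (ee y) = e y • ee y)
    {α : F} (e1 : e (some (bar C.a)) = e (some C.a)) (e2 : e (some C.l) ≠ e (some C.a)) {θ : F} (θ0 : θ ≠ 0)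
    (hθ : D.L 0 θ) {u b : F} (hL : D.L u b)
    (hz : (b ≠ 0 ∧ ∀ u b, D.L u b → u = 0) ∨ (u ≠ 0 ∧ 2 * b + D.σ u * u ≠ 0 ∧ e none = e (some C.a) ∧
      ∃ k : ℕ, (e none / e (some (bar C.l))) ^ k = -1))
    (hν : ∀ S : AddSubgroup F, (∀ t ∈ S, e (some C.l) / e (some (bar C.l)) * t ∈ S) → ∀ c ∈ S, c ≠ 0 → D.L 0 c →
      ∀ b, D.L 0 b → b ∈ S)
    (hf : ∀ S : AddSubgroup F, (∀ t ∈ S, e (some C.l) / e (some C.a) * t ∈ S) → (∀ c, D.L 0 c → α * c ∈ S) →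
      (C.s C.a = C.l → C.d (some C.a) / C.d (some (bar C.l)) * D.σ α ∈ S) → ∀ t, t ∈ S) :
    ∃ f : Fin 2 → D.E, closure (Set.range f) = ⊤ := by
  have hm : (h, 1) ∈ D.Mon := ⟨D.E_iso hE, fun _ => rfl, fun y => ⟨_, he y⟩⟩
  have e0 : e (some C.a) ≠ 0 := ne_of_apply (he _)
  refine two_gen_of (mul_mem (Y_E C.a hL) hE) (mul_mem (D.X_E C.l (bar C.a) α) C.wE) fun K k1 k2 => ?_
  obtain ⟨k1, k3⟩ := pow_split (by
    rw [Commute, SemiconjBy, eq_comm, ← mul_inv_eq_iff_eq_mul, Mon_conjY hm he rfl hL, e1, div_self e0, one_mul]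
    rcases hz with ⟨-, h⟩ | ⟨-, -, h, -⟩
    · simp [h u b hL]
    · rw [h, div_self e0, one_mul]) (D.Y_pow_card _ _ _) (diag_pow_card he) k1
  obtain ⟨t, s, t0, s0, h1, h2, h3⟩ := C.Y_chain k2 hL k1
  obtain ⟨c, c0, hc, h4⟩ : ∃ c, c ≠ 0 ∧ D.L 0 c ∧ c ∈ D.AZ K C.l := by
    rcases hz with ⟨b0, h⟩ | ⟨u0, b0, -, k, hk⟩
    · obtain rfl := h u b hL
      rw [mul_zero] at h2 h3
      exact ⟨_, mul_ne_zero s0 b0, h2, h3⟩
    have hm' : (h ^ k, (1 : Perm (Option J))) ∈ D.Mon := by simpa using pow_mem hm k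
    obtain ⟨t', s', -, -, p1, p2, p3⟩ := Mon_Y' hm' (i := C.l) rfl h2
    have p4 := (Y_inj' (p3.symm.trans (Mon_conjY hm' (diag_pow he k) rfl h2))).1
    rw [← div_pow, hk, mul_left_inj' (mul_ne_zero t0 u0)] at p4
    obtain rfl : s' = 1 := by simp [p1 (mul_ne_zero t0 u0), p4]
    have p5 := mul_mem h3 (p3 ▸ mul_mem (mul_mem (pow_mem k3 k) h3) (inv_mem (pow_mem k3 k)))
    have p6 := D.L_mul h2 p2
    rw [Y_mul] at p5
    rw [p4, neg_one_mul, add_neg_cancel] at p5 p6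
    refine ⟨_, ?_, p6, p5⟩
    rw [h1 u0, map_mul]
    convert mul_ne_zero (h1 u0 ▸ s0) b0 using 1; ring
  have hZ : D.RZ C.l ≤ K := RZ_le'.mpr fun b hb => by
    let S : AddSubgroup F :=
      { carrier := {t | D.L 0 t ∧ t ∈ D.AZ K C.l}
        add_mem' := fun h h' => ⟨by simpa using D.L_mul h.1 h'.1, add_mem h.2 h'.2⟩
        zero_mem' := ⟨D.L_zero, zero_mem _⟩
        neg_mem' := fun h => ⟨by simpa using D.L_inv h.1, neg_mem h.2⟩ }
    refine (hν S (fun t ht => ?_) c ⟨hc, h4⟩ c0 hc b hb).2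
    obtain ⟨t', s', -, -, -, p2, p3⟩ := Mon_Y' hm (i := C.l) rfl ht.1
    have p4 := (Y_inj' (p3.symm.trans (Mon_conjY hm he rfl ht.1))).2
    rw [mul_zero, p4] at p2 p3
    exact ⟨p2, show _ ∈ K from p3 ▸ mul_mem (mul_mem k3 ht.2) (inv_mem k3)⟩
  obtain ⟨hw, h5, h6⟩ := C.genA hm he k3 k2 e1 e2 θ0 hθ hZ hf
  rcases hz with ⟨-, h⟩ | ⟨u0, -⟩
  · exact D.E_le h6 fun i u b hL => by obtain rfl := h u b hL; exact RZ_le'.mp (h5 i) b hL
  · refine Y_le h6 h5 fun i => ?_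
    obtain ⟨u, b, h⟩ := C.Y_all hw hL k1 u0 (C.s i)
    exact ⟨_, u, b, C.D2_succ i, h⟩

theorem two_gen_hY [Fintype F] {K : Type*} [Field K] [Fintype K] (hK : 2 < Fintype.card K) (ι : K →+* F) {θ : F}
    (θ0 : θ ≠ 0) (hθ : ∀ b, D.L 0 b ↔ ∃ s, b = θ * ι s) {α u b : F} (hL : D.L u b)
    (hz : (b ≠ 0 ∧ ∀ u b, D.L u b → u = 0) ∨ (u ≠ 0 ∧ 2 * b + D.σ u * u ≠ 0))
    (hf : ∀ S : AddSubgroup F, (∀ s, ∀ t ∈ S, ι s * t ∈ S) → α * θ ∈ S →
      (C.s C.a = C.l → C.d (some C.a) / C.d (some (bar C.l)) * D.σ α ∈ S) → ∀ t, t ∈ S) :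
    ∃ f : Fin 2 → D.E, closure (Set.range f) = ⊤ := by
  obtain ⟨ζ, ζ0, h1, h2, h3⟩ := exists_prim_sq K
  have h4 : D.L 0 θ := (hθ θ).mpr ⟨1, by simp⟩
  have h5 : ι ζ ≠ 0 := by simpa using ζ0
  have d2 := C.d2
  refine C.two_gen (hY_E C.l h4 ((hθ _).mpr ⟨ζ, rfl⟩) θ0 h5) (D.hY_ee C.l θ0 h5) (α := α) (by simp [d2.all]) ?_ θ0 h4 hL
    (hz.imp_right fun h => ⟨h.1, h.2, by simp [d2.all], ?_⟩) (fun S hS c hc c0 hc' b hb => ?_) fun S hS h6 h7 => ?_
  · simp only [if_true, Option.some.injEq, d2.all, if_false, Ne, map_eq_one_iff ι ι.injective]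
    rintro rfl
    simp at h1; omega
  · obtain ⟨k, hk⟩ := h2 (-1) (by simp)
    exact ⟨k, by simp [← map_pow, hk]⟩
  · obtain ⟨s, rfl⟩ := (hθ b).mp hb
    obtain ⟨s', rfl⟩ := (hθ c).mp hc'
    have h8 : ι s' ≠ 0 := right_ne_zero_of_mul c0
    have := h3 (mulR ι S) (fun t ht => by simpa [sq] using hS t ht) (s / s') _ hc
    convert this using 1
    rw [map_div₀]; field_simp
  · refine hf S (fun s => h3 (mulR ι S) (pow_mem (show ζ ∈ mulR ι S from fun t ht => ?_) 2) s) (h6 θ h4) h7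
    simpa [d2.all] using hS t ht

theorem two_gen_two (h2 : ∀ t : F, t = 0 ∨ t = 1) (hσ : ∀ t, D.σ t = t) (hL : ∀ u b, D.L u b ↔ u = 0) {j : J}
    (h1 : D2 C.a j) (h1' : D2 C.a (C.s j)) : ∃ f : Fin 2 → D.E, closure (Set.range f) = ⊤ := by
  have d2 := C.D2_succ j
  have t2 : (2 : F) = 0 := (h2 2).resolve_right fun h => one_ne_zero (by linear_combination h : (1 : F) = 0)
  have hη : ∀ k, D.η k = 1 := fun k => (h2 _).resolve_left (D.η_ne k)
  have hL1 : D.L 0 1 := (hL _ _).mpr rfl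
  refine two_gen_of (mul_mem (mul_mem (D.X_E j (C.s j) 1) (D.X_E (C.s j) j 1)) (Y_E C.a hL1)) C.wE fun K k1 hw => ?_
  obtain ⟨k1, k3⟩ := pow_split (N := 3) (((D.YX_comm h1.barl.1.symm h1'.1.symm _ _ _).mul_right
    (D.YX_comm h1'.barl.1.symm h1.1.symm _ _ _)).symm) (by
      refine LinearEquiv.ext fun v => ?_
      simp only [pow_succ, pow_zero, one_mul, LinearEquiv.mul_apply, D.X_apply d2, D.X_apply d2.symm, Pi.add_apply,
        Pi.sub_apply, Pi.smul_apply, ee_apply, Option.some.injEq, bar_inj, d2.all, bar_ne, ne_bar, if_false, if_true,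
        smul_eq_mul, hη, hσ, LinearEquiv.coe_one, id]
      match_scalars <;> grind) (by rw [Y_pow]; congr 1 <;> grind) k1
  have hZ := C.Z_all hw (k := C.a) (RZ_le'.mpr fun b _ => by
    rcases h2 b with rfl | rfl
    exacts [D.Y_zero _ ▸ one_mem _, k3])
  have h3 := mul_mem (mul_mem k1 (RZ_le'.mp (hZ (C.s j)) 1 hL1)) (inv_mem k1)
  have h4 := D.XY_rel d2 1 hL1
  rw [commutatorElement_def, mul_inv_eq_iff_eq_mul, mul_zero, mul_zero, add_zero, mul_one] at h4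
  rw [mul_assoc (D.X _ _ _), ← (D.YX_comm (ne_bar _) d2.1 _ _ _).eq, mul_inv_rev, ← mul_assoc, mul_assoc (D.X _ _ _),
    mul_inv_cancel_right, h4, mul_mem_cancel_right (RZ_le'.mp (hZ _) _ hL1),
    mul_mem_cancel_right (RZ_le'.mp (hZ _) _ ((hL _ _).mpr rfl))] at h3
  have h5 := AX_Z d2.barr (hZ _) (hZ _) h3 hL1
  rw [bar_bar, mul_one] at h5
  refine D.E_le (C.finZ hw one_ne_zero hL1 (hZ j) (k := j) (RX_le'.mpr fun t => ?_)) fun i u b h => ?_
  · rcases h2 t with rfl | rfl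
    exacts [D.X_zero _ _ ▸ one_mem _, h5]
  · obtain rfl := (hL _ _).mp h
    exact RZ_le'.mp (hZ i) b h

end Cx

theorem sp_two_gen [Fintype F] {n : ℕ} (h : n = 0 → 2 < Fintype.card F) :
    ∃ f : Fin 2 → (spD (Fin (n + 2)) F).E, closure (Set.range f) = ⊤ := by
  obtain ⟨C, h1, h2, h3⟩ := exists_Cx (spD (Fin (n + 2)) F) (u := 0) (b := 1) rfl one_ne_zero
  by_cases e : 2 < Fintype.card F
  · exact C.two_gen_hY e (RingHom.id F) one_ne_zero (fun b => by simp [spD]) (α := 1) (u := 0) (b := 1) rfl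
      (.inl ⟨one_ne_zero, fun _ _ h => h⟩) fun S h1 h2 _ t => by simpa using h1 t _ h2
  obtain ⟨n, rfl⟩ : ∃ k, n = k + 1 := ⟨n - 1, by have := mt h e; omega⟩
  refine C.two_gen_two (fun t => ?_) (fun _ => rfl) (fun _ _ => Iff.rfl) (j := inl (Fin.castSucc 1))
    (h1 ▸ D2_inl (by simp [Fin.ext_iff])) (by rw [h1, h3]; exact D2_inl (Fin.succ_ne_zero _).symm)
  classical
  by_contra! ht
  have := Finset.card_le_univ ({0, 1, t} : Finset F)
  rw [Finset.card_eq_three.mpr ⟨0, 1, t, zero_ne_one, ht.1.symm, ht.2.symm, rfl⟩] at this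
  omega

end Cfsg.Agent.Pres
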